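import Cfsg.Agent.Lib.FusionSystem.RankThree.Line

/-! Invariant subspaces of three dimensional modules of groups with a strongly embedded subgroup. -/

set_option autoImplicit false
set_option linter.unusedSectionVars false
set_option linter.style.haveILetI false

namespace CfsgLib.Fsys.RankThree

open Cfsg

variable {X : Type*} [Group X] [Finite X] {p : ℕ} [hp : Fact p.Prime] {V : Type*} [Group V] [Finite V]

/-- No invariant plane above a double shift. -/
theorem plane_false (hp2 : p ≠ 2) (hV : Nat.card V = p ^ 3) (hVc : ∀ a b : V, a * b = b * a)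
    (hVe : ∀ a : V, a ^ p = 1) (act : X →* MulAut V) (hinj : Function.Injective act)
    {Y₀ : Subgroup X} (hY₀ : IsStronglyPEmbedded p Y₀) {P : Subgroup X} (hP : IsPGroup p P)
    {t : X} (ht : t ∈ P) {L D : Subgroup V} (hLD : L ≤ D) (hD : Nat.card D = p ^ 2)
    (hDinv : ∀ x : X, ∀ k ∈ D, act x k ∈ D) (hshiftL : ∀ k ∈ D, k⁻¹ * act t k ∈ L)
    {k₀ : V} (hk₀ : k₀ ∈ D) (hk₁ : k₀⁻¹ * act t k₀ ≠ 1) {v : V} (hvD : v⁻¹ * act t v ∈ D)
    (hvL : v⁻¹ * act t v ∉ L) : False := by
  classical
  letI : CommGroup V := { (inferInstance : Group V) with mul_comm := hVc }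
  have hsep : ∀ (A : Subgroup V) (a : V), a ∉ A → ∃ f : V →* ℂˣ, A ≤ f.ker ∧ f a ≠ 1 := by
    intro A a ha
    obtain ⟨g, hg⟩ := CommGroup.exists_apply_ne_one_of_hasEnoughRootsOfUnity (V ⧸ A) ℂ
      (a := (a : V ⧸ A)) (fun e => ha ((QuotientGroup.eq_one_iff a).1 e))
    refine ⟨g.comp (QuotientGroup.mk' A), fun z hz => MonoidHom.mem_ker.2 ?_, hg⟩
    show g (QuotientGroup.mk' A z) = 1
    rw [show QuotientGroup.mk' A z = 1 from (QuotientGroup.eq_one_iff z).2 hz, map_one]
  have hcard : ∀ (G : Type _) [CommGroup G] [Finite G], Nat.card (G →* ℂˣ) = Nat.card G := fun G _ _ =>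
    Nat.card_congr (CommGroup.monoidHom_mulEquiv_of_hasEnoughRootsOfUnity G ℂ).some.toEquiv
  haveI : Finite (V →* ℂˣ) :=
    Finite.of_equiv V (CommGroup.monoidHom_mulEquiv_of_hasEnoughRootsOfUnity V ℂ).some.symm.toEquiv
  have hmap : ∀ (x : X) (a : V), act x (act x⁻¹ a) = a := fun x a => by
    rw [← MulAut.mul_apply, ← map_mul, mul_inv_cancel, map_one, MulAut.one_apply]
  have hmap' : ∀ (x : X) (a : V), act x⁻¹ (act x a) = a := fun x a => by
    rw [← MulAut.mul_apply, ← map_mul, inv_mul_cancel, map_one, MulAut.one_apply]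
  let act' : X →* MulAut (V →* ℂˣ) :=
    { toFun := fun x =>
        { toFun := fun f => f.comp (act x⁻¹).toMonoidHom
          invFun := fun f => f.comp (act x).toMonoidHom
          left_inv := fun f => MonoidHom.ext fun a => congrArg f (hmap' x a)
          right_inv := fun f => MonoidHom.ext fun a => congrArg f (hmap x a)
          map_mul' := fun f g => MonoidHom.ext fun a => rfl }
      map_one' := MulEquiv.ext fun f => MonoidHom.ext fun a => by
        show f (act (1 : X)⁻¹ a) = f a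
        rw [inv_one, map_one, MulAut.one_apply]
      map_mul' := fun x y => MulEquiv.ext fun f => MonoidHom.ext fun a => by
        show f (act (x * y)⁻¹ a) = f (act y⁻¹ (act x⁻¹ a))
        rw [mul_inv_rev, map_mul, MulAut.mul_apply] }
  have hact' : ∀ (x : X) (f : V →* ℂˣ) (a : V), act' x f a = f (act x⁻¹ a) := fun _ _ _ => rfl
  have hinj' : Function.Injective act' := by
    intro x y he
    refine inv_injective (hinj (MulEquiv.ext fun a => ?_))
    by_contra hne
    obtain ⟨f, -, hf⟩ := hsep ⊥ ((act x⁻¹ a)⁻¹ * act y⁻¹ a) fun hb => hne (inv_mul_eq_one.1 (Subgroup.mem_bot.1 hb))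
    refine hf ?_
    rw [map_mul, map_inv, ← hact', ← hact', he, inv_mul_cancel]
  let A : Subgroup (V →* ℂˣ) :=
    { carrier := {f | D ≤ f.ker}
      one_mem' := fun a _ => MonoidHom.mem_ker.2 rfl
      mul_mem' := fun {f g} hf hg a ha => MonoidHom.mem_ker.2 (by
        show f a * g a = 1
        rw [MonoidHom.mem_ker.1 (hf ha), MonoidHom.mem_ker.1 (hg ha), one_mul])
      inv_mem' := fun {f} hf a ha => MonoidHom.mem_ker.2 (by
        show (f a)⁻¹ = 1
        rw [MonoidHom.mem_ker.1 (hf ha), inv_one]) }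
  have hA : ∀ {f : V →* ℂˣ}, f ∈ A ↔ D ≤ f.ker := fun {f} => Iff.rfl
  have hAc : Nat.card A = p := by
    let e : A ≃ (V ⧸ D →* ℂˣ) :=
      { toFun := fun f => QuotientGroup.lift D f.1 f.2
        invFun := fun g => ⟨g.comp (QuotientGroup.mk' D), fun a ha => MonoidHom.mem_ker.2 (by
          show g (QuotientGroup.mk' D a) = 1
          rw [show QuotientGroup.mk' D a = 1 from (QuotientGroup.eq_one_iff a).2 ha, map_one])⟩
        left_inv := fun f => Subtype.ext (MonoidHom.ext fun a => rfl)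
        right_inv := fun g => MonoidHom.ext fun q => QuotientGroup.induction_on q fun a => rfl }
    rw [Nat.card_congr e, hcard, ← Subgroup.index_eq_card]
    have h1 := Subgroup.card_mul_index D
    rw [hD, hV, pow_succ p 2] at h1
    exact Nat.eq_of_mul_eq_mul_left (pow_pos hp.out.pos 2) h1
  have hAinv : ∀ x : X, ∀ f ∈ A, act' x f ∈ A := fun x f hf a ha => MonoidHom.mem_ker.2 (by
    rw [hact']
    exact MonoidHom.mem_ker.1 (hf (hDinv _ a ha)))
  have hshift : ∀ (f : V →* ℂˣ) (a : V), (f⁻¹ * act' t⁻¹ f) a = f (a⁻¹ * act t a) := fun f a => by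
    rw [MonoidHom.mul_apply, hact', inv_inv, MonoidHom.inv_apply, map_mul, map_inv]
  obtain ⟨f, hfL, hfv⟩ := hsep L _ hvL
  obtain ⟨g, -, hg⟩ := hsep ⊥ (k₀⁻¹ * act t k₀) fun hb => hk₁ (Subgroup.mem_bot.1 hb)
  refine line_false hp2 (by rw [hcard, hV]) (fun a b => mul_comm a b)
    (fun a => MonoidHom.ext fun z => by
      rw [MonoidHom.pow_apply, ← map_pow, hVe, map_one, MonoidHom.one_apply])
    act' hinj' hY₀ hP (P.inv_mem ht) hAc hAinv (d := f) ?_ ?_ (e := g) ?_
  · exact fun a ha => MonoidHom.mem_ker.2 (by rw [hshift]; exact MonoidHom.mem_ker.1 (hfL (hshiftL a ha)))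
  · intro h
    have := DFunLike.congr_fun h v
    rw [hshift] at this
    exact hfv this
  · intro h
    have := MonoidHom.mem_ker.1 (h hk₀)
    rw [hshift] at this
    exact hg this

/-- A regular unipotent element leaves no proper invariant subgroup. -/
theorem regular_irreducible (hp2 : p ≠ 2) (hV : Nat.card V = p ^ 3) (hVc : ∀ a b : V, a * b = b * a)
    (hVe : ∀ a : V, a ^ p = 1) (act : X →* MulAut V) (hinj : Function.Injective act)
    {Y₀ : Subgroup X} (hY₀ : IsStronglyPEmbedded p Y₀) {P : Subgroup X} (hP : IsPGroup p P)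
    {t : X} (ht : t ∈ P) {L : Subgroup V} (hL : Nat.card L = p) (hfix : ∀ v, act t v = v ↔ v ∈ L)
    (W : Subgroup V) (hW : ∀ x : X, ∀ w ∈ W, act x w ∈ W) : W = ⊥ ∨ W = ⊤ := by
  classical
  by_contra! hne
  have hVp : IsPGroup p V := IsPGroup.of_card hV
  obtain ⟨kt, hkt⟩ := hP ⟨t, ht⟩
  have htp : act t ^ p ^ kt = 1 := by
    rw [← map_pow, show t ^ p ^ kt = 1 by simpa using congrArg Subtype.val hkt, map_one]
  have hLgen : ∀ {z : V}, z ∈ L → z ≠ 1 → L = Subgroup.zpowers z := fun {z} hz hz1 =>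
    (Subgroup.eq_of_le_of_card_ge (Subgroup.zpowers_le.2 hz)
      (by rw [hL, Nat.card_zpowers, orderOf_eq_prime (hVe z) hz1])).symm
  obtain ⟨z, hzW, hz1, hzf⟩ := exists_fixed_mem hVp htp (hW t) hne.1
  have hzL := (hfix z).1 hzf
  have hLW : L ≤ W := (hLgen hzL hz1).le.trans (Subgroup.zpowers_le.2 hzW)
  let δ : V →* V := MonoidHom.mk' (fun a => a⁻¹ * act t a) fun a b => by
    rw [map_mul, mul_inv_rev, hVc b⁻¹ a⁻¹]
    simp only [mul_assoc]
    congr 1
    rw [← mul_assoc b⁻¹, hVc b⁻¹ (act t a), mul_assoc]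
  have hker : δ.ker = L := by
    ext a
    rw [MonoidHom.mem_ker, ← hfix]
    exact ⟨fun h => (inv_mul_eq_one.1 h).symm, fun h => inv_mul_eq_one.2 h.symm⟩
  have hran : Nat.card δ.range = p ^ 2 := by
    have h1 := Subgroup.card_mul_index δ.ker
    rw [hker, hL, hV, pow_succ' p 2] at h1
    have h2 := Nat.eq_of_mul_eq_mul_left hp.out.pos h1
    rwa [← hker, Subgroup.index_ker] at h2
  have hraninv : ∀ a ∈ δ.range, act t a ∈ δ.range := by
    rintro _ ⟨a, rfl⟩
    exact ⟨act t a, by simp [δ]⟩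
  have hranne : δ.range ≠ ⊥ := fun e => by
    rw [e, Subgroup.card_bot] at hran
    exact (Nat.one_lt_pow two_ne_zero hp.out.one_lt).ne hran
  obtain ⟨z', hz'r, hz'1, hz'f⟩ := exists_fixed_mem hVp htp hraninv hranne
  have hz'L := (hfix z').1 hz'f
  obtain ⟨j, hj3, hj⟩ := (Nat.dvd_prime_pow hp.out).1 (hV ▸ Subgroup.card_subgroup_dvd_card W)
  obtain rfl | rfl : j = 1 ∨ j = 2 := by
    have h0 : j ≠ 0 := fun e => hne.1 (Subgroup.card_eq_one.1 (by rw [hj, e, pow_zero]))
    have h3 : j ≠ 3 := fun e => hne.2 (Subgroup.eq_top_of_card_eq _ (by rw [hj, e, hV]))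
    omega
  · have hWL : W = L := (Subgroup.eq_of_le_of_card_ge hLW (by rw [hL, hj, pow_one])).symm
    obtain ⟨d, rfl⟩ := hz'r
    obtain ⟨a, ha⟩ : ∃ a, δ a ∉ L := by
      by_contra hno
      push Not at hno
      have h1 := Subgroup.card_le_of_le (show δ.range ≤ L from fun y hy => by
        obtain ⟨a, rfl⟩ := hy; exact hno a)
      rw [hran, hL] at h1
      have := (Nat.pow_le_pow_iff_right hp.out.one_lt).1 (h1.trans_eq (pow_one p).symm)
      omega
    exact line_false hp2 hV hVc hVe act hinj hY₀ hP ht hL (fun x l hl => hWL ▸ hW x l (hLW hl))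
      (d := d) hz'L hz'1 (e := a) ha
  · haveI hWn : W.Normal := ⟨fun k hk g => by rwa [hVc g k, mul_inv_cancel_right]⟩
    haveI hLn : L.Normal := ⟨fun k hk g => by rwa [hVc g k, mul_inv_cancel_right]⟩
    have hrelL : L.relIndex W ≤ p := by
      have h1 := Subgroup.card_mul_index (L.subgroupOf W)
      rw [Nat.card_congr (Subgroup.subgroupOfEquivOfLe hLW).toEquiv, hL, hj, pow_two] at h1
      exact (Nat.eq_of_mul_eq_mul_left hp.out.pos h1).le
    have hLinv : ∀ l ∈ L, act t l ∈ L := fun l hl => ((hfix l).2 hl).symm ▸ hl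
    have hWidx : W.relIndex ⊤ ≤ p := by
      have h1 := Subgroup.card_mul_index W
      rw [hj, hV, pow_succ p 2] at h1
      rw [Subgroup.relIndex_top_right]
      exact (Nat.eq_of_mul_eq_mul_left (pow_pos hp.out.pos 2) h1).le
    have hranW : ∀ a, a⁻¹ * act t a ∈ W := fun a =>
      SmallEssential.shift_small hVp le_top hWidx htp (hW t) (fun _ _ => Subgroup.mem_top _) (Subgroup.mem_top a)
    have hranle : δ.range ≤ W := by
      rintro _ ⟨a, rfl⟩
      exact hranW a
    obtain ⟨k₀, hk₀W, hk₀L⟩ : ∃ k ∈ W, k ∉ L := by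
      by_contra hno
      push Not at hno
      have h1 := Subgroup.card_le_of_le (show W ≤ L from hno)
      rw [hj, hL] at h1
      have := (Nat.pow_le_pow_iff_right hp.out.one_lt).1 (h1.trans_eq (pow_one p).symm)
      omega
    obtain ⟨v, hv⟩ : k₀ ∈ δ.range := (Subgroup.eq_of_le_of_card_ge hranle (by rw [hran, hj])).ge hk₀W
    exact plane_false hp2 hV hVc hVe act hinj hY₀ hP ht hLW hj hW
      (fun k hk => SmallEssential.shift_small hVp hLW hrelL htp hLinv (hW t) hk) hk₀W
      (fun e => hk₀L ((hfix k₀).1 (inv_mul_eq_one.1 e).symm)) (v := v) (hranW v) (fun h => hk₀L (hv ▸ h))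

/-- The common fixed line of two transvections is invariant. -/
theorem fixed_line (hV : Nat.card V = p ^ 3) (hVc : ∀ a b : V, a * b = b * a) (hVe : ∀ a : V, a ^ p = 1)
    (act : X →* MulAut V) (hinj : Function.Injective act) {Y₀ : Subgroup X} (hY₀ : IsStronglyPEmbedded p Y₀)
    {t s : X} {k : ℕ} (htk : t ^ p ^ k = 1) {u v w : V} (hgen : ∀ z : V, ∃ i j l : ℤ, z = u ^ i * v ^ j * w ^ l)
    (htu : act t u = u * v) (htv : act t v = v) (htw : act t w = w)
    (hsu : act s u = v) (hsv : act s v = u⁻¹) (hsw : act s w = w) (x : X) :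
    act x w ∈ Subgroup.zpowers w := by
  classical
  letI : CommGroup V := { (inferInstance : Group V) with mul_comm := hVc }
  have hVp : IsPGroup p V := IsPGroup.of_card hV
  have hind := indep_of_gen hVc hVe hV hgen
  let K := Subgroup.zpowers v ⊔ Subgroup.zpowers w
  have hKmem : ∀ {z : V}, z ∈ K ↔ ∃ j l : ℤ, z = v ^ j * w ^ l := by
    intro z
    constructor
    · intro hz
      obtain ⟨a, ha, b, hb, rfl⟩ := Subgroup.mem_sup.1 hz
      obtain ⟨j, rfl⟩ := Subgroup.mem_zpowers_iff.1 ha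
      obtain ⟨l, rfl⟩ := Subgroup.mem_zpowers_iff.1 hb
      exact ⟨j, l, rfl⟩
    · rintro ⟨j, l, rfl⟩
      exact Subgroup.mul_mem_sup (Subgroup.zpow_mem _ (Subgroup.mem_zpowers _) j)
        (Subgroup.zpow_mem _ (Subgroup.mem_zpowers _) l)
  have hshift : ∀ z, ∃ i : ℤ, act t z = z * v ^ i ∧ ((i : ZMod p) = 0 → z ∈ K) := by
    intro z
    obtain ⟨i, j, l, rfl⟩ := hgen z
    refine ⟨i, ?_, fun h => ?_⟩
    · rw [map_mul, map_mul, map_zpow, map_zpow, map_zpow, htu, htv, htw, mul_zpow]
      ac_rfl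
    · rw [zpow_congr (hVe u) (j := 0) (by simpa using h), zpow_zero, one_mul]
      exact hKmem.2 ⟨j, l, rfl⟩
  have hv1 : v ≠ 1 := fun e => by
    have := (hind 0 1 0 (by simp [e])).2.1
    simp at this
  have hfixK : ∀ z, act t z = z ↔ z ∈ K := by
    intro z
    refine ⟨fun hz => ?_, fun hz => ?_⟩
    · obtain ⟨i, hi, hiK⟩ := hshift z
      refine hiK ?_
      rw [hi, mul_eq_left, ← zpow_zero v] at hz
      simpa using eq_of_zpow (hVe v) hv1 hz
    · obtain ⟨j, l, rfl⟩ := hKmem.1 hz
      rw [map_mul, map_zpow, map_zpow, htv, htw]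
  have hKc : Nat.card K = p ^ 2 := by
    let f : ZMod p × ZMod p → K := fun q => ⟨v ^ (q.1.val : ℤ) * w ^ (q.2.val : ℤ), hKmem.2 ⟨_, _, rfl⟩⟩
    have hb : Function.Bijective f := by
      refine ⟨fun q r e => ?_, fun ⟨z, hz⟩ => ?_⟩
      · have e' := congrArg Subtype.val e
        have h := indep_eq hVc hVe hind (i := 0) (i' := 0) (j := (q.1.val : ℤ)) (k := (q.2.val : ℤ))
          (j' := (r.1.val : ℤ)) (k' := (r.2.val : ℤ)) (by simpa [f] using e')
        rw [intCast_val, intCast_val, intCast_val, intCast_val] at h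
        exact Prod.ext h.2.1 h.2.2
      · obtain ⟨j, l, rfl⟩ := hKmem.1 hz
        refine ⟨((j : ZMod p), (l : ZMod p)), Subtype.ext ?_⟩
        show v ^ _ * w ^ _ = _
        rw [zpow_congr (hVe v) (intCast_val _), zpow_congr (hVe w) (intCast_val _)]
    rw [← Nat.card_congr (Equiv.ofBijective f hb), Nat.card_prod, Nat.card_zmod, pow_two]
  have hmap : ∀ (y : X) (z : V), act y (act y⁻¹ z) = z := fun y z => by
    rw [← MulAut.mul_apply, ← map_mul, mul_inv_cancel, map_one, MulAut.one_apply]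
  have hmap' : ∀ (y : X) (z : V), act y⁻¹ (act y z) = z := fun y z => by
    rw [← MulAut.mul_apply, ← map_mul, inv_mul_cancel, map_one, MulAut.one_apply]
  -- `w` lies in every conjugate of `K`
  have key : ∀ g : X, w ∈ K.map (act g).toMonoidHom := by
    intro g
    by_contra hwK'
    set K' := K.map (act g).toMonoidHom with hK'
    have hK'c : Nat.card K' = p ^ 2 := by
      rw [hK', Subgroup.card_map_of_injective (f := (act g).toMonoidHom) (act g).injective, hKc]
    -- the plane of `u` and `v` meets it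
    obtain ⟨c, hcK', hc1, i, j, hc⟩ : ∃ c ∈ K', c ≠ 1 ∧ ∃ i j : ℤ, c = u ^ i * v ^ j := by
      let f : ZMod p × ZMod p → V ⧸ K' := fun q => QuotientGroup.mk (u ^ (q.1.val : ℤ) * v ^ (q.2.val : ℤ))
      have hnot : ¬ Function.Injective f := fun hf => by
        have h1 := Nat.card_le_card_of_injective f hf
        rw [← Subgroup.index_eq_card, Nat.card_prod, Nat.card_zmod] at h1
        have h2 := Subgroup.card_mul_index K'
        rw [hK'c, hV, pow_succ p 2] at h2
        rw [Nat.eq_of_mul_eq_mul_left (pow_pos hp.out.pos 2) h2] at h1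
        nlinarith [hp.out.one_lt]
      simp only [Function.Injective, not_forall] at hnot
      obtain ⟨q, r, hqr, hne⟩ := hnot
      refine ⟨(u ^ (q.1.val : ℤ) * v ^ (q.2.val : ℤ))⁻¹ * (u ^ (r.1.val : ℤ) * v ^ (r.2.val : ℤ)),
        QuotientGroup.eq.1 hqr, fun e => hne ?_,
        (r.1.val : ℤ) - q.1.val, (r.2.val : ℤ) - q.2.val, by rw [zpow_sub, zpow_sub, mul_inv_rev]; ac_rfl⟩
      have h := indep_eq hVc hVe hind (i := (q.1.val : ℤ)) (j := (q.2.val : ℤ)) (k := 0)
        (i' := (r.1.val : ℤ)) (j' := (r.2.val : ℤ)) (k' := 0) (by simpa using inv_mul_eq_one.1 e)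
      rw [intCast_val, intCast_val, intCast_val, intCast_val] at h
      exact Prod.ext h.1 h.2.1
    -- a conjugate of `t` with centre `c`
    obtain ⟨h, l, hlv, hhw⟩ : ∃ (h : X) (l : ℤ), act h v = c ^ l ∧ act h w = w := by
      by_cases hi : (i : ZMod p) = 0
      · have hj : (j : ZMod p) ≠ 0 := fun hj => hc1 (by
          rw [hc, zpow_congr (hVe u) (j := 0) (by simpa using hi), zpow_congr (hVe v) (j := 0) (by simpa using hj),
            zpow_zero, zpow_zero, one_mul])
        refine ⟨1, (((j : ZMod p))⁻¹.val : ℤ), ?_, by simp⟩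
        rw [map_one, MulAut.one_apply, hc, zpow_congr (hVe u) (j := 0) (by simpa using hi), zpow_zero, one_mul,
          ← zpow_mul, zpow_congr (hVe v) (j := 1) (by
            rw [Int.cast_mul, intCast_val, mul_inv_cancel₀ hj, Int.cast_one]), zpow_one]
      · set n : ℕ := ((j : ZMod p) / (i : ZMod p)).val with hn
        have hpow : ∀ m : ℕ, act (t ^ m) u = u * v ^ (m : ℤ) ∧ act (t ^ m) v = v ∧ act (t ^ m) w = w := by
          intro m
          induction m with
          | zero => simp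
          | succ m ih =>
            rw [pow_succ', map_mul, MulAut.mul_apply, MulAut.mul_apply, MulAut.mul_apply, ih.1, ih.2.1, ih.2.2,
              map_mul, map_zpow, htu, htv, htw]
            refine ⟨?_, rfl, rfl⟩
            push_cast
            rw [zpow_add, zpow_one, mul_assoc, mul_comm v]
        refine ⟨t ^ n * s, ((-(i : ZMod p)⁻¹).val : ℤ), ?_, by rw [map_mul, MulAut.mul_apply, hsw, (hpow n).2.2]⟩
        rw [map_mul, MulAut.mul_apply, hsv, map_inv, (hpow n).1, hc, mul_zpow, ← zpow_mul, ← zpow_mul,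
          zpow_congr (hVe u) (i := i * _) (j := -1) (by
            rw [Int.cast_mul, intCast_val, mul_neg, mul_inv_cancel₀ hi, Int.cast_neg, Int.cast_one]),
          zpow_congr (hVe v) (i := j * _) (j := -(n : ℤ)) (by
            rw [Int.cast_mul, intCast_val, Int.cast_neg, Int.cast_natCast, hn, ZMod.natCast_zmod_val,
              div_eq_mul_inv, mul_neg]),
          zpow_neg_one, mul_inv_rev, zpow_neg, mul_comm]
    -- both lie in a small group
    set C := Subgroup.zpowers c with hC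
    have hCK' : C ≤ K' := Subgroup.zpowers_le.2 hcK'
    let Q : Subgroup X :=
      { carrier := {y | (∀ z, z⁻¹ * act y z ∈ K') ∧ (∀ z ∈ K', z⁻¹ * act y z ∈ C) ∧ ∀ z ∈ C, act y z = z}
        one_mem' := ⟨fun z => by simp, fun z _ => by simp, fun z _ => by simp⟩
        mul_mem' := fun {a b} ha hb => by
          have hbK : ∀ z ∈ K', act b z ∈ K' := fun z hz => by
            have := K'.mul_mem hz (hCK' (hb.2.1 z hz)); rwa [mul_inv_cancel_left] at this
          refine ⟨fun z => ?_, fun z hz => ?_, fun z hz => ?_⟩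
          · rw [map_mul, MulAut.mul_apply,
              show z⁻¹ * act a (act b z) = (z⁻¹ * act b z) * ((act b z)⁻¹ * act a (act b z)) by group]
            exact K'.mul_mem (hb.1 z) (ha.1 _)
          · rw [map_mul, MulAut.mul_apply,
              show z⁻¹ * act a (act b z) = (z⁻¹ * act b z) * ((act b z)⁻¹ * act a (act b z)) by group]
            exact C.mul_mem (hb.2.1 z hz) (ha.2.1 _ (hbK z hz))
          · rw [map_mul, MulAut.mul_apply, hb.2.2 z hz, ha.2.2 z hz]
        inv_mem' := fun {a} ha => by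
          refine ⟨fun z => ?_, fun z hz => ?_, fun z hz => ?_⟩
          · have h1 := K'.inv_mem (ha.1 (act a⁻¹ z))
            rwa [hmap, mul_inv_rev, inv_inv] at h1
          · have hz' : act a⁻¹ z ∈ K' := by
              have h1 := K'.inv_mem (ha.1 (act a⁻¹ z))
              rw [hmap, mul_inv_rev, inv_inv] at h1
              have := K'.mul_mem hz h1
              rwa [mul_inv_cancel_left] at this
            have h1 := C.inv_mem (ha.2.1 _ hz')
            rwa [hmap, mul_inv_rev, inv_inv] at h1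
          · calc act a⁻¹ z = act a⁻¹ (act a z) := by rw [ha.2.2 z hz]
              _ = z := hmap' a z }
    have hQp : IsPGroup p Q := isPGroup_of_forall_coprime fun a ha => by
      have hco : (orderOf (act (a : X))).Coprime p :=
        ha.coprime_dvd_left ((orderOf_map_dvd act (a : X)).trans (Subgroup.orderOf_coe a).dvd)
      have hk : ∀ z ∈ K', act (a : X) z = z := fun z hz =>
        fixed_of_fixed_shift hVp hco (a.2.2.2 _ (a.2.2.1 z hz))
      refine Subtype.ext (hinj (MulEquiv.ext fun z => ?_))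
      rw [Subgroup.coe_one, map_one, MulAut.one_apply]
      exact fixed_of_fixed_shift hVp hco (hk _ (a.2.1 z))
    have hconj : ∀ (y : X) (z : V), act (y * t * y⁻¹) z = act y (act t (act y⁻¹ z)) := fun y z => by
      rw [map_mul, map_mul, MulAut.mul_apply, MulAut.mul_apply]
    have hfixc : ∀ (y : X) (z : V), act (y * t * y⁻¹) z = z ↔ z ∈ K.map (act y).toMonoidHom := by
      intro y z
      rw [hconj]
      refine ⟨fun e => ⟨act y⁻¹ z, (hfixK _).1 ((act y).injective (e.trans (hmap y z).symm)), hmap y z⟩, ?_⟩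
      rintro ⟨z, hz, rfl⟩
      show act y (act t (act y⁻¹ (act y z))) = act y z
      rw [hmap', (hfixK z).2 hz]
    have hshc : ∀ (y : X) (z : V), ∃ i : ℤ, z⁻¹ * act (y * t * y⁻¹) z = act y v ^ i := by
      intro y z
      obtain ⟨i, hi, -⟩ := hshift (act y⁻¹ z)
      exact ⟨i, by rw [hconj, hi, map_mul, hmap, map_zpow, inv_mul_cancel_left]⟩
    have hgv : act g v ∈ K' := ⟨v, hKmem.2 ⟨1, 0, by simp⟩, rfl⟩
    have h2Q : g * t * g⁻¹ ∈ Q := by
      refine ⟨fun z => ?_, fun z hz => ?_, fun z hz => (hfixc g z).2 (hCK' hz)⟩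
      · obtain ⟨m, hm⟩ := hshc g z
        rw [hm]
        exact K'.zpow_mem hgv m
      · rw [(hfixc g z).2 hz, inv_mul_cancel]
        exact C.one_mem
    have h1Q : h * t * h⁻¹ ∈ Q := by
      have hC0 : ∀ z, z⁻¹ * act (h * t * h⁻¹) z ∈ C := fun z => by
        obtain ⟨m, hm⟩ := hshc h z
        rw [hm, hlv]
        exact C.zpow_mem (C.zpow_mem (Subgroup.mem_zpowers c) l) m
      refine ⟨fun z => hCK' (hC0 z), fun z _ => hC0 z, fun z hz => (hfixc h z).2 ?_⟩
      obtain ⟨m, rfl⟩ := Subgroup.mem_zpowers_iff.1 hz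
      refine Subgroup.zpow_mem _ ?_ m
      have hl : (l : ZMod p) ≠ 0 := fun hl => hv1 ((act h).injective (by
        rw [hlv, zpow_congr (hVe c) (j := 0) (by simpa using hl), zpow_zero, map_one]))
      exact mem_of_zpow_mem (p := p) (by rw [hVe]; exact one_mem _)
        (show c ^ l ∈ K.map (act h).toMonoidHom from ⟨v, hKmem.2 ⟨1, 0, by simp⟩, hlv⟩) hl
    have hQpres : ∀ y ∈ Q, ∀ z ∈ K', act y z ∈ K' := fun y hy z hz => by
      have := K'.mul_mem hz (hy.1 z); rwa [mul_inv_cancel_left] at this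
    have hle := (Transvection.main hV hVc hVe act hinj hY₀ hQp (t := g * t * g⁻¹) h2Q hK'c (hfixc g) hQpres).1
    -- so both conjugates generate the same group
    have hg1 : g * t * g⁻¹ ≠ 1 := fun e => by
      have h1 := (hfixc g (act g u)).1 (by rw [e, map_one, MulAut.one_apply])
      obtain ⟨z, hz, hzu⟩ := h1
      rw [(act g).injective hzu] at hz
      obtain ⟨j', l', he⟩ := hKmem.1 hz
      have := (indep_eq hVc hVe hind (i := 1) (j := 0) (k := 0) (i' := 0) (j' := j') (k' := l')
        (by simpa using he)).1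
      simp at this
    obtain ⟨m, hm⟩ := Subgroup.mem_zpowers_iff.1
      (show h * t * h⁻¹ ∈ Subgroup.zpowers (g * t * g⁻¹) from by
        have hle2 : Subgroup.zpowers (g * t * g⁻¹) ≤ Q := Subgroup.zpowers_le.2 h2Q
        refine (Subgroup.eq_of_le_of_card_ge hle2 (hle.trans ?_)).ge h1Q
        obtain ⟨e, he⟩ := IsPGroup.iff_card.1 (hQp.to_le hle2)
        rw [he]
        refine Nat.le_self_pow (fun e0 => hg1 ?_) p
        rw [e0, pow_zero, Nat.card_zpowers, orderOf_eq_one_iff] at he
        exact he)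
    have hfix' : ∀ z ∈ K', act (h * t * h⁻¹) z = z := fun z hz => by
      rw [← hm, map_zpow]
      exact Subgroup.zpow_mem (MulAction.stabilizer (MulAut V) z) ((hfixc g z).2 hz) m
    have heq : K' = K.map (act h).toMonoidHom :=
      Subgroup.eq_of_le_of_card_ge (fun z hz => (hfixc h z).1 (hfix' z hz)) (by
        rw [Subgroup.card_map_of_injective (f := (act h).toMonoidHom) (act h).injective, hKc, hK'c])
    exact hwK' (heq ▸ ⟨w, hKmem.2 ⟨0, 1, by simp⟩, hhw⟩)
  obtain ⟨z, hz, hzw⟩ := key x⁻¹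
  have h1 : act x w ∈ K := by
    rw [← hzw]
    show act x (act x⁻¹ z) ∈ K
    rwa [hmap]
  obtain ⟨z', hz', hzw'⟩ := key (x⁻¹ * s)
  have h2 : act x w = act s z' := by
    rw [← hzw']
    show act x (act (x⁻¹ * s) z') = _
    rw [← MulAut.mul_apply, ← map_mul, mul_inv_cancel_left]
  obtain ⟨j, l, hjl⟩ := hKmem.1 h1
  obtain ⟨j', l', hjl'⟩ := hKmem.1 hz'
  rw [hjl', map_mul, map_zpow, map_zpow, hsv, hsw, inv_zpow', hjl] at h2
  have hj0 := (indep_eq hVc hVe hind (i := 0) (j := j) (k := l) (i' := -j') (j' := 0) (k' := l')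
    (by simpa using h2)).2.1
  rw [hjl, zpow_congr (hVe v) (j := 0) hj0, zpow_zero, one_mul]
  exact Subgroup.zpow_mem _ (Subgroup.mem_zpowers w) l

end CfsgLib.Fsys.RankThree
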