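import Mathlib
import Cfsg.Prelude.Def_CaseTheorems
import Cfsg.Agent.Lib.LocalEven.Residual
import Cfsg.Agent.Lib.PGroup.Frattini
import Cfsg.Agent.Lib.Solvable.FrattiniFitting

/-! Group theoretic tools for `p`-groups of sectional rank three. -/

set_option autoImplicit false
set_option linter.unusedSectionVars false
set_option linter.style.haveILetI false
set_option linter.unusedSimpArgs false

open scoped commutatorElement

namespace CfsgLib.Fsys.RankThree

variable {G : Type*} [Group G] {p : ℕ} [hp : Fact p.Prime]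

/-! ### Exponents modulo `p` -/

theorem zpow_congr {a : G} (he : a ^ p = 1) {i j : ℤ} (h : (i : ZMod p) = j) : a ^ i = a ^ j := by
  obtain ⟨q, hq⟩ := (ZMod.intCast_eq_intCast_iff_dvd_sub i j p).1 h
  rw [show j = i + (p : ℤ) * q by linarith, zpow_add, zpow_mul, zpow_natCast, he, one_zpow, mul_one]

theorem eq_of_zpow {a : G} (he : a ^ p = 1) (ha : a ≠ 1) {i j : ℤ} (h : a ^ i = a ^ j) :
    (i : ZMod p) = j := by
  rw [ZMod.intCast_eq_intCast_iff', ← Int.ModEq]
  have := zpow_eq_zpow_iff_modEq.1 h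
  rwa [orderOf_eq_prime he ha] at this

theorem intCast_val (c : ZMod p) : (((c.val : ℕ) : ℤ) : ZMod p) = c := by
  rw [Int.cast_natCast, ZMod.natCast_zmod_val]

theorem mem_of_zpow_mem {K : Subgroup G} {a : G} {i : ℤ} (hp' : a ^ p ∈ K) (hi : a ^ i ∈ K)
    (h : (i : ZMod p) ≠ 0) : a ∈ K := by
  rw [Ne, ZMod.intCast_zmod_eq_zero_iff_dvd] at h
  obtain ⟨r, s, hrs⟩ := ((Nat.prime_iff_prime_int.1 hp.out).coprime_iff_not_dvd).2 h
  rw [← zpow_one a, ← hrs, zpow_add, mul_comm r, zpow_mul, mul_comm s, zpow_mul, zpow_natCast]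
  exact K.mul_mem (K.zpow_mem hp' r) (K.zpow_mem hi s)

/-- The exponents of a product of three elements are determined modulo `p`. -/
def Indep3 (p : ℕ) {V : Type*} [Group V] (a b c : V) : Prop :=
  ∀ i j k : ℤ, a ^ i * b ^ j * c ^ k = 1 → (i : ZMod p) = 0 ∧ (j : ZMod p) = 0 ∧ (k : ZMod p) = 0

section Coords

variable {V : Type*} [Group V] [Finite V] (hc : ∀ a b : V, a * b = b * a) (he : ∀ a : V, a ^ p = 1)
include hc he

theorem prod_zpow_eq (a b c : V) (i j k i' j' k' : ℤ) :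
    a ^ i * b ^ j * c ^ k = a ^ i' * b ^ j' * c ^ k' ↔
      a ^ (i - i') * b ^ (j - j') * c ^ (k - k') = 1 := by
  letI : CommGroup V := { (inferInstance : Group V) with mul_comm := hc }
  rw [← mul_inv_eq_one, zpow_sub, zpow_sub, zpow_sub]
  simp only [mul_inv, div_eq_mul_inv, mul_comm, mul_left_comm, mul_assoc]

theorem indep_eq {a b c : V} (h : Indep3 p a b c) {i j k i' j' k' : ℤ}
    (he' : a ^ i * b ^ j * c ^ k = a ^ i' * b ^ j' * c ^ k') :
    (i : ZMod p) = i' ∧ (j : ZMod p) = j' ∧ (k : ZMod p) = k' := by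
  have := h _ _ _ ((prod_zpow_eq (p := p) hc he a b c i j k i' j' k').1 he')
  simpa [sub_eq_zero] using this

omit hc in
theorem coordMap_eq (a b c : V) (i j k : ℤ) :
    a ^ ((i : ZMod p).val : ℤ) * b ^ ((j : ZMod p).val : ℤ) * c ^ ((k : ZMod p).val : ℤ) =
      a ^ i * b ^ j * c ^ k := by
  rw [zpow_congr (he a) (intCast_val _), zpow_congr (he b) (intCast_val _), zpow_congr (he c) (intCast_val _)]

/-- Independent elements are coordinates. -/
theorem coords_of_indep (hV : Nat.card V = p ^ 3) {a b c : V} (h : Indep3 p a b c) (v : V) :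
    ∃ i j k : ℤ, v = a ^ i * b ^ j * c ^ k := by
  let f : ZMod p × ZMod p × ZMod p → V := fun q =>
    a ^ (q.1.val : ℤ) * b ^ (q.2.1.val : ℤ) * c ^ (q.2.2.val : ℤ)
  have hinj : Function.Injective f := fun q r hqr => by
    obtain ⟨h1, h2, h3⟩ := indep_eq hc he h hqr
    rw [intCast_val, intCast_val] at h1 h2 h3
    exact Prod.ext h1 (Prod.ext h2 h3)
  have hcard : Nat.card (ZMod p × ZMod p × ZMod p) = Nat.card V := by
    rw [Nat.card_prod, Nat.card_prod, Nat.card_zmod, hV]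
    ring
  obtain ⟨q, hq⟩ := (hinj.bijective_of_nat_card_le hcard.ge).2 v
  exact ⟨_, _, _, hq.symm⟩

/-- Coordinates are independent. -/
theorem indep_of_gen (hV : Nat.card V = p ^ 3) {a b c : V}
    (h : ∀ v : V, ∃ i j k : ℤ, v = a ^ i * b ^ j * c ^ k) : Indep3 p a b c := by
  let f : ZMod p × ZMod p × ZMod p → V := fun q =>
    a ^ (q.1.val : ℤ) * b ^ (q.2.1.val : ℤ) * c ^ (q.2.2.val : ℤ)
  have hsur : Function.Surjective f := fun v => by
    obtain ⟨i, j, k, rfl⟩ := h v
    exact ⟨(i, j, k), coordMap_eq he a b c i j k⟩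
  have hcard : Nat.card (ZMod p × ZMod p × ZMod p) = Nat.card V := by
    rw [Nat.card_prod, Nat.card_prod, Nat.card_zmod, hV]
    ring
  have hinj := (hsur.bijective_of_nat_card_le hcard.le).1
  intro i j k hijk
  have := @hinj ((i : ZMod p), (j : ZMod p), (k : ZMod p)) ((0 : ℤ), (0 : ℤ), (0 : ℤ)) (by
    show f _ = f _
    rw [show f ((i : ZMod p), (j : ZMod p), (k : ZMod p)) = _ from coordMap_eq he a b c i j k, hijk,
      show f (((0 : ℤ) : ZMod p), ((0 : ℤ) : ZMod p), ((0 : ℤ) : ZMod p)) = _ from coordMap_eq he a b c 0 0 0]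
    simp)
  simpa using this

/-- A subgroup containing three generators. -/
theorem gen_of_closure {a b c : V}
    (h : Subgroup.zpowers a ⊔ Subgroup.zpowers b ⊔ Subgroup.zpowers c = ⊤) (v : V) :
    ∃ i j k : ℤ, v = a ^ i * b ^ j * c ^ k := by
  letI : CommGroup V := { (inferInstance : Group V) with mul_comm := hc }
  have hv : v ∈ Subgroup.zpowers a ⊔ Subgroup.zpowers b ⊔ Subgroup.zpowers c := h ▸ Subgroup.mem_top v
  obtain ⟨y, hy, z, hz, rfl⟩ := Subgroup.mem_sup.1 hv
  obtain ⟨y₁, hy₁, y₂, hy₂, rfl⟩ := Subgroup.mem_sup.1 hy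
  obtain ⟨i, rfl⟩ := Subgroup.mem_zpowers_iff.1 hy₁
  obtain ⟨j, rfl⟩ := Subgroup.mem_zpowers_iff.1 hy₂
  obtain ⟨k, rfl⟩ := Subgroup.mem_zpowers_iff.1 hz
  exact ⟨i, j, k, rfl⟩

end Coords

/-! ### Powers of products -/

theorem mul_pow_shift {z e η : G} (h1 : e * z = z * (e * η)) (h2 : Commute e η) (h3 : Commute z η) (n : ℕ) :
    (z * e) ^ n = z ^ n * e ^ n * η ^ n.choose 2 := by
  have hz : ∀ k : ℕ, e ^ k * z = z * (e ^ k * η ^ k) := by
    intro k
    induction k with
    | zero => simp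
    | succ k ih =>
      calc e ^ (k + 1) * z = e * (e ^ k * z) := by rw [pow_succ', mul_assoc]
        _ = e * z * (e ^ k * η ^ k) := by rw [ih]; group
        _ = z * (e * (η * e ^ k) * η ^ k) := by rw [h1]; group
        _ = z * (e ^ (k + 1) * η ^ (k + 1)) := by
          rw [((h2.pow_left k).symm).eq, pow_succ' e, pow_succ' η]; group
  induction n with
  | zero => simp
  | succ n ih =>
    have hch : (n + 1).choose 2 = n + n.choose 2 := by
      rw [Nat.choose_succ_succ', Nat.choose_one_right]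
    have hc : Commute (η ^ n.choose 2) (z * e) := ((h3.mul_left h2).pow_right _).symm
    calc (z * e) ^ (n + 1) = z ^ n * e ^ n * (η ^ n.choose 2 * (z * e)) := by
          rw [pow_succ, ih]; group
      _ = z ^ n * (e ^ n * z) * e * η ^ n.choose 2 := by rw [hc.eq]; group
      _ = z ^ n * z * e ^ n * (η ^ n * e) * η ^ n.choose 2 := by rw [hz]; group
      _ = z ^ (n + 1) * e ^ (n + 1) * η ^ ((n + 1).choose 2) := by
        rw [(h2.pow_right n).symm.eq, pow_succ, pow_succ, hch, pow_add]; group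

theorem choose_pow_eq_one {f : G} (hf : f ^ p = 1) {k : ℕ} (hk0 : k ≠ 0) (hk : k < p) :
    f ^ p.choose k = 1 := by
  obtain ⟨c, hc⟩ := hp.out.dvd_choose_self hk0 hk
  rw [hc, pow_mul, hf, one_pow]

/-- The `p`-th power of an automorphism with a short chain of shifts. -/
theorem pow_shift_five (h5 : 5 ≤ p) {φ : MulAut G} {a b f g h : G} (ha : φ a = a * b) (hb : φ b = b * f)
    (hf : φ f = f * g) (hg : φ g = g * h) (hh : φ h = h) (hbf : Commute b f) (hfc : ∀ w, Commute f w)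
    (hgc : ∀ w, Commute g w) (_hhc : ∀ w, Commute h w) (hfp : f ^ p = 1) (hgp : g ^ p = 1) (hhp : h ^ p = 1) :
    (φ ^ p) a = a * b ^ p := by
  have main : ∀ n : ℕ, (φ ^ n) a = a * b ^ n * f ^ n.choose 2 * g ^ n.choose 3 * h ^ n.choose 4 := by
    intro n
    induction n with
    | zero => simp [Nat.choose]
    | succ n ih =>
      rw [pow_succ', MulAut.mul_apply, ih]
      simp only [map_mul, map_pow, ha, hb, hf, hg, hh]
      rw [hbf.mul_pow, (hfc g).mul_pow, (hgc h).mul_pow, Nat.choose_succ_succ' n 1, Nat.choose_one_right,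
        Nat.choose_succ_succ' n 2, Nat.choose_succ_succ' n 3, pow_add f, pow_add g, pow_add h, pow_succ' b]
      simp only [mul_assoc]
  rw [main p, choose_pow_eq_one hfp (by omega) (by omega), choose_pow_eq_one hgp (by omega) (by omega),
    choose_pow_eq_one hhp (by omega) (by omega), mul_one, mul_one, mul_one]

/-! ### Fixed points and shifts -/

theorem zpowers_isPGroup [Finite G] {φ : G} {k : ℕ} (h : φ ^ p ^ k = 1) : IsPGroup p (Subgroup.zpowers φ) := by
  obtain ⟨j, -, hj⟩ := (Nat.dvd_prime_pow hp.out).1 (orderOf_dvd_of_pow_eq_one h)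
  exact IsPGroup.of_card (n := j) (by rw [Nat.card_zpowers, hj])

/-- An automorphism of `p`-power order fixes a nontrivial element of an invariant nontrivial subgroup. -/
theorem exists_fixed_mem [Finite G] (hG : IsPGroup p G) {φ : MulAut G} {k : ℕ} (hφ : φ ^ p ^ k = 1)
    {B : Subgroup G} (hB : ∀ v ∈ B, φ v ∈ B) (hne : B ≠ ⊥) : ∃ z ∈ B, z ≠ 1 ∧ φ z = z := by
  classical
  haveI : Finite (MulAut G) := Finite.of_injective (fun f : MulAut G => (f : G → G)) DFunLike.coe_injective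
  let H := Subgroup.zpowers φ
  have hH : ∀ ψ ∈ H, ∀ v ∈ B, ψ v ∈ B := by
    intro ψ hψ
    obtain ⟨n, rfl⟩ := mem_powers_iff_mem_zpowers.2 hψ
    show ∀ v ∈ B, (φ ^ n) v ∈ B
    clear hψ
    induction n with
    | zero => simp
    | succ n ih => intro v hv; rw [pow_succ', MulAut.mul_apply]; exact hB _ (ih v hv)
  letI : MulAction H B :=
    { smul := fun ψ v => ⟨(ψ : MulAut G) v, hH _ ψ.2 v v.2⟩
      one_smul := fun v => Subtype.ext rfl
      mul_smul := fun a b v => Subtype.ext rfl }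
  have hd : p ∣ Nat.card B := by
    haveI := (Subgroup.nontrivial_iff_ne_bot B).2 hne
    obtain ⟨n, hn, hn'⟩ := (hG.to_subgroup B).nontrivial_iff_card.1 this
    exact hn' ▸ dvd_pow_self p hn.ne'
  obtain ⟨z, hz, hz1⟩ := (zpowers_isPGroup hφ).exists_fixed_point_of_prime_dvd_card_of_fixed_point B hd
    (a := (1 : B)) (fun ψ => Subtype.ext (map_one (ψ : MulAut G)))
  refine ⟨z, z.2, fun e => hz1 (Subtype.ext e).symm, ?_⟩
  exact congrArg Subtype.val (hz ⟨φ, Subgroup.mem_zpowers φ⟩)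

/-- On an invariant abelian subgroup of order at most `p ^ k` the `k`-fold shift vanishes. -/
theorem shift_iter [Finite G] (hG : IsPGroup p G) {φ : MulAut G} {e : ℕ} (hφ : φ ^ p ^ e = 1) :
    ∀ (k : ℕ) (W : Subgroup G), (∀ a ∈ W, ∀ b ∈ W, a * b = b * a) → (∀ v ∈ W, φ v ∈ W) →
      Nat.card W ≤ p ^ k → ∀ w ∈ W, (fun v => v⁻¹ * φ v)^[k] w = 1 := by
  intro k
  induction k with
  | zero =>
    intro W _ _ hc w hw
    rw [pow_zero] at hc
    have : W = ⊥ := Subgroup.eq_bot_of_card_le W hc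
    rw [this] at hw
    simpa using hw
  | succ k ih =>
    intro W hWc hWi hc w hw
    rw [Function.iterate_succ_apply]
    let δ : W →* W := MonoidHom.mk' (fun v => ⟨(v : G)⁻¹ * φ v, W.mul_mem (W.inv_mem v.2) (hWi v v.2)⟩)
      fun a b => Subtype.ext (by
        show ((a : G) * b)⁻¹ * φ (a * b) = (a : G)⁻¹ * φ a * ((b : G)⁻¹ * φ b)
        rw [map_mul, mul_inv_rev]
        calc (b : G)⁻¹ * (a : G)⁻¹ * (φ a * φ b) = (b : G)⁻¹ * ((a : G)⁻¹ * φ a) * φ b := by group
          _ = (a : G)⁻¹ * φ a * (b : G)⁻¹ * φ b := by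
            rw [hWc _ (W.inv_mem b.2) _ (W.mul_mem (W.inv_mem a.2) (hWi a a.2))]
          _ = _ := by group)
    let W' : Subgroup G := δ.range.map W.subtype
    have hW' : ∀ v ∈ W', ∃ u ∈ W, v = u⁻¹ * φ u := by
      rintro _ ⟨_, ⟨u, rfl⟩, rfl⟩
      exact ⟨u, u.2, rfl⟩
    have hle : W' ≤ W := Subgroup.map_subtype_le _
    refine ih W' (fun a ha b hb => hWc a (hle ha) b (hle hb)) (fun v hv => ?_) ?_ _
      ⟨δ ⟨w, hw⟩, ⟨_, rfl⟩, rfl⟩
    · obtain ⟨u, hu, rfl⟩ := hW' v hv
      exact ⟨δ ⟨φ u, hWi u hu⟩, ⟨_, rfl⟩, by simp [δ]⟩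
    · by_cases hWb : W = ⊥
      · have : W' = ⊥ := le_bot_iff.1 (hWb ▸ hle)
        rw [this, Subgroup.card_bot]
        exact Nat.one_le_pow _ _ hp.out.pos
      obtain ⟨z, hz, hz1, hzf⟩ := exists_fixed_mem hG hφ hWi hWb
      have hker : p ≤ Nat.card δ.ker := by
        obtain ⟨j, hj⟩ := IsPGroup.iff_card.1 ((hG.to_subgroup W).to_subgroup δ.ker)
        rw [hj]
        refine Nat.le_self_pow (fun e0 => hz1 ?_) p
        rw [e0, pow_zero] at hj
        have hm : (⟨z, hz⟩ : W) ∈ δ.ker := MonoidHom.mem_ker.2 (Subtype.ext (by simp [δ, hzf]))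
        rw [Subgroup.eq_bot_of_card_eq _ hj, Subgroup.mem_bot] at hm
        exact congrArg Subtype.val hm
      have h1 : Nat.card δ.range * Nat.card δ.ker = Nat.card W := by
        rw [← Subgroup.index_ker, mul_comm, Subgroup.card_mul_index]
      show Nat.card W' ≤ p ^ k
      rw [Subgroup.card_map_of_injective W.subtype_injective]
      refine Nat.le_of_mul_le_mul_right ?_ hp.out.pos
      calc Nat.card δ.range * p ≤ Nat.card δ.range * Nat.card δ.ker := Nat.mul_le_mul_left _ hker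
        _ ≤ p ^ (k + 1) := h1.trans_le hc
        _ = p ^ k * p := pow_succ p k

/-- A normal step of index `p`. -/
theorem exists_normal_step [Finite G] (hG : IsPGroup p G) {A B : Subgroup G} [hA : A.Normal] [hB : B.Normal]
    (h : A < B) : ∃ C : Subgroup G, C.Normal ∧ A ≤ C ∧ C ≤ B ∧ A.relIndex C = p ∧
      ∀ n : G, ∀ c ∈ C, ⁅n, c⁆ ∈ A := by
  let π := QuotientGroup.mk' A
  have hπ : Function.Surjective π := QuotientGroup.mk'_surjective A
  haveI : (B.map π).Normal := hB.map π hπ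
  have hne : B.map π ≠ ⊥ := by
    intro e
    rw [Subgroup.map_eq_bot_iff, QuotientGroup.ker_mk'] at e
    exact h.not_ge e
  have hQ : IsPGroup p (G ⧸ A) := hG.to_quotient A
  haveI := (Subgroup.nontrivial_iff_ne_bot _).2 hne
  obtain ⟨z, hz, hz1⟩ : ∃ z ∈ B.map π ⊓ Subgroup.center (G ⧸ A), z ≠ 1 := by
    haveI : Group.IsNilpotent (G ⧸ A) := hQ.isNilpotent
    have := CfsgLib.Solvable.FrattiniFitting.inf_center_ne_bot (G := G ⧸ A) (B.map π) hne
    obtain ⟨⟨z, hz⟩, hz1⟩ := (Subgroup.ne_bot_iff_exists_ne_one).1 this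
    exact ⟨z, hz, fun e => hz1 (Subtype.ext e)⟩
  obtain ⟨j, hj⟩ : ∃ j, orderOf z = p ^ (j + 1) := by
    obtain ⟨j, hj⟩ := IsPGroup.iff_orderOf.1 hQ z
    cases j with
    | zero => exact absurd (orderOf_eq_one_iff.1 (by rw [hj, pow_zero])) hz1
    | succ j => exact ⟨j, hj⟩
  set z' := z ^ p ^ j with hz'
  have hz'o : orderOf z' = p := by
    rw [hz', orderOf_pow_of_dvd (pow_ne_zero _ hp.out.ne_zero) (by rw [hj, pow_succ]; exact dvd_mul_right _ _),
      hj, pow_succ, Nat.mul_div_cancel_left _ (pow_pos hp.out.pos j)]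
  have hz'm : z' ∈ B.map π ⊓ Subgroup.center (G ⧸ A) := Subgroup.pow_mem _ hz _
  refine ⟨(Subgroup.zpowers z').comap π, ?_, ?_, ?_, ?_, ?_⟩
  · refine ⟨fun c hc g => ?_⟩
    rw [Subgroup.mem_comap] at hc ⊢
    obtain ⟨i, hi⟩ := Subgroup.mem_zpowers_iff.1 hc
    rw [map_mul, map_mul, map_inv, ← hi, Subgroup.mem_center_iff.1 (Subgroup.zpow_mem _ hz'm.2 i) (π g),
      mul_inv_cancel_right]
    exact Subgroup.zpow_mem _ (Subgroup.mem_zpowers _) i
  · intro a ha
    rw [Subgroup.mem_comap, show π a = 1 from (QuotientGroup.eq_one_iff a).2 ha]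
    exact one_mem _
  · intro c hc
    have h1 : π c ∈ B.map π := Subgroup.zpowers_le.2 hz'm.1 (Subgroup.mem_comap.1 hc)
    obtain ⟨b, hb, hbc⟩ := h1
    have h2 : b⁻¹ * c ∈ A := QuotientGroup.eq.1 hbc
    simpa using B.mul_mem hb (h.le h2)
  · have e := Subgroup.relIndex_ker (f := π) ((Subgroup.zpowers z').comap π)
    rw [Subgroup.map_comap_eq_self_of_surjective hπ, Nat.card_zpowers, hz'o] at e
    simpa [π] using e
  · intro n c hc
    rw [← QuotientGroup.eq_one_iff (N := A)]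
    show π ⁅n, c⁆ = 1
    rw [map_commutatorElement, commutatorElement_eq_one_iff_mul_comm]
    obtain ⟨i, hi⟩ := Subgroup.mem_zpowers_iff.1 (Subgroup.mem_comap.1 hc)
    rw [← hi]
    exact Subgroup.mem_center_iff.1 (Subgroup.zpow_mem _ hz'm.2 i) _

/-! ### Sectional rank three -/

/-- Every elementary abelian section has order at most `p ^ 3`. -/
def Rank3 (p : ℕ) (G : Type*) [Group G] : Prop :=
  ∀ H K : Subgroup G, K ≤ H → (∀ a ∈ H, ∀ b ∈ H, ⁅a, b⁆ ∈ K) → (∀ a ∈ H, a ^ p ∈ K) →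
    Nat.card H ≤ p ^ 3 * Nat.card K

theorem rank3_of_sectional [Finite G] (h : Cfsg.SectionalPRankLE p 3 G) : Rank3 p G := by
  intro H K hKH hc hpow
  haveI : (K.subgroupOf H).Normal := ⟨fun k hk g => by
    rw [Subgroup.mem_subgroupOf] at hk ⊢
    have := K.mul_mem (hc g g.2 k (hKH hk)) hk
    rw [commutatorElement_def, inv_mul_cancel_right] at this
    exact this⟩
  have hcomm : ∀ a b : H ⧸ K.subgroupOf H, a * b = b * a := by
    rintro ⟨a⟩ ⟨b⟩
    refine commutatorElement_eq_one_iff_mul_comm.1 ?_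
    show ⁅QuotientGroup.mk' _ a, QuotientGroup.mk' _ b⁆ = 1
    rw [← map_commutatorElement]
    exact (QuotientGroup.eq_one_iff _).2 (hc a a.2 b b.2)
  have hexp : ∀ a : H ⧸ K.subgroupOf H, a ^ p = 1 := by
    rintro ⟨a⟩
    show (QuotientGroup.mk' _ a) ^ p = 1
    rw [← map_pow]
    exact (QuotientGroup.eq_one_iff _).2 (hpow a a.2)
  have := h H (K.subgroupOf H) ⊤ ⟨⟨fun a b => Subtype.ext (hcomm a b)⟩⟩ fun a _ => hexp a
  rw [Subgroup.card_top] at this
  rw [Subgroup.card_eq_card_quotient_mul_card_subgroup (K.subgroupOf H),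
    Nat.card_congr (Subgroup.subgroupOfEquivOfLe hKH).toEquiv]
  exact Nat.mul_le_mul_right _ this

theorem Rank3.of_injective {G' : Type*} [Group G'] (h : Rank3 p G') (f : G →* G')
    (hf : Function.Injective f) : Rank3 p G := by
  intro H K hKH hc hpow
  have := h (H.map f) (K.map f) (Subgroup.map_mono hKH)
    (by
      rintro _ ⟨a, ha, rfl⟩ _ ⟨b, hb, rfl⟩
      exact ⟨_, hc a ha b hb, map_commutatorElement f a b⟩)
    (by
      rintro _ ⟨a, ha, rfl⟩
      exact ⟨_, hpow a ha, map_pow f a p⟩)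
  rwa [Subgroup.card_map_of_injective hf, Subgroup.card_map_of_injective hf] at this

/-- The Frattini subgroup of a subgroup lies in the Frattini subgroup. -/
theorem frattini_map_le [Finite G] (hG : IsPGroup p G) (E : Subgroup G) :
    (frattini ↥E).map E.subtype ≤ frattini G := by
  haveI : Group.IsNilpotent G := hG.isNilpotent
  rw [Subgroup.map_le_iff_le_comap]
  exact CfsgLib.LocalEven.Residual.frattini_le (p := p)
    (fun x y => by
      rw [Subgroup.mem_comap, map_commutatorElement]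
      exact CfsgLib.PGroup.Frattini.commutatorElement_mem_frattini hG _ _)
    fun x => by
      rw [Subgroup.mem_comap, map_pow]
      exact CfsgLib.PGroup.Frattini.pow_mem_frattini hG _

end CfsgLib.Fsys.RankThree
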