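import Cfsg.Agent.Lib.FusionSystem.TransvectionEmbedded
import Cfsg.Agent.Lib.FusionSystem.RankThree.Tools

/-! A group with a strongly embedded subgroup fixes no line reached by a double shift. -/

set_option autoImplicit false
set_option linter.unusedSectionVars false
set_option linter.style.haveILetI false

namespace CfsgLib.Fsys.RankThree

open Cfsg

variable {X : Type*} [Group X] [Finite X] {p : ℕ} [hp : Fact p.Prime] {V : Type*} [Group V] [Finite V]

theorem line_false (hp2 : p ≠ 2) (hV : Nat.card V = p ^ 3) (hVc : ∀ a b : V, a * b = b * a)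
    (hVe : ∀ a : V, a ^ p = 1) (act : X →* MulAut V) (hinj : Function.Injective act)
    {Y₀ : Subgroup X} (hY₀ : IsStronglyPEmbedded p Y₀) {P : Subgroup X} (hP : IsPGroup p P)
    {t : X} (ht : t ∈ P) {L : Subgroup V} (hL : Nat.card L = p)
    (hLinv : ∀ x : X, ∀ l ∈ L, act x l ∈ L)
    {d : V} (hd : d⁻¹ * act t d ∈ L) (hd1 : d⁻¹ * act t d ≠ 1) {e : V} (he : e⁻¹ * act t e ∉ L) : False := by
  classical
  have hVp : IsPGroup p V := IsPGroup.of_card hV
  obtain ⟨Y, hY, hPY⟩ := Transvection.exists_emb hY₀ P hP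
  obtain ⟨kt, hkt⟩ := hP ⟨t, ht⟩
  have htp : t ^ p ^ kt = 1 := by simpa using congrArg Subtype.val hkt
  have hmap : ∀ (x : X) (v : V), act x⁻¹ (act x v) = v := fun x v => by
    rw [← MulAut.mul_apply, ← map_mul, inv_mul_cancel, map_one, MulAut.one_apply]
  have hmap' : ∀ (x : X) (v : V), act x (act x⁻¹ v) = v := fun x v => by
    rw [← MulAut.mul_apply, ← map_mul, mul_inv_cancel, map_one, MulAut.one_apply]
  haveI hLn : L.Normal := ⟨fun k hk g => by rwa [hVc g k, mul_inv_cancel_right]⟩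
  have hsmall : ∀ x : X, (∃ k, x ^ p ^ k = 1) → ∀ l ∈ L, act x l = l := by
    rintro x ⟨k, hk⟩ l hl
    have := SmallEssential.shift_small hVp (K := ⊥) (L := L) bot_le (by rw [Subgroup.relIndex_bot_left, hL])
      (show act x ^ p ^ k = 1 by rw [← map_pow, hk, map_one]) (fun x hx => by rw [Subgroup.mem_bot.1 hx]; simp)
      (hLinv x) hl
    rw [Subgroup.mem_bot, inv_mul_eq_one] at this
    exact this.symm
  have htL := hsmall t ⟨kt, htp⟩
  have ht1 : t ≠ 1 := fun h => hd1 (by rw [h, map_one, MulAut.one_apply, inv_mul_cancel])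
  let π := QuotientGroup.mk' L
  have hπ1 : ∀ {a : V}, π a = 1 ↔ a ∈ L := fun {a} => QuotientGroup.eq_one_iff a
  have hπeq : ∀ {a b : V}, π a = π b ↔ a⁻¹ * b ∈ L := fun {a b} => QuotientGroup.eq
  have hclose : ∀ (x : X) {a b : V}, π a = π b → π (act x a) = π (act x b) := fun x a b h => by
    rw [hπeq] at h ⊢
    rw [← map_inv, ← map_mul]
    exact hLinv x _ h
  -- the plane above the line
  let δ : V →* V := MonoidHom.mk' (fun v => v⁻¹ * act t v) fun a b => by
    rw [map_mul, mul_inv_rev, hVc b⁻¹ a⁻¹]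
    simp only [mul_assoc]
    congr 1
    rw [← mul_assoc b⁻¹, hVc b⁻¹ (act t a), mul_assoc]
  set D := L.comap δ with hD
  have hDmem : ∀ v, v ∈ D ↔ v⁻¹ * act t v ∈ L := fun v => Iff.rfl
  have hLD : L ≤ D := fun l hl => by rw [hDmem, htL l hl, inv_mul_cancel]; exact one_mem L
  have hdL : d ∉ L := fun h => hd1 (by rw [htL d h, inv_mul_cancel])
  have hDc : Nat.card D = p ^ 2 := by
    obtain ⟨j, hj3, hj⟩ := (Nat.dvd_prime_pow hp.out).1 (hV ▸ Subgroup.card_subgroup_dvd_card D)
    have h1 : p ^ 1 < p ^ j := by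
      rw [pow_one, ← hj, ← hL]
      exact card_lt_of_lt (lt_of_le_not_ge hLD fun h => hdL (h ((hDmem d).2 hd)))
    have h2 : p ^ j < p ^ 3 := by
      rw [← hj, ← hV, ← Subgroup.card_top (G := V)]
      exact card_lt_of_lt (lt_top_iff_ne_top.2 fun h => he ((hDmem e).1 (h ▸ Subgroup.mem_top e)))
    have := (Nat.pow_lt_pow_iff_right hp.out.one_lt).1 h1
    have := (Nat.pow_lt_pow_iff_right hp.out.one_lt).1 h2
    rw [hj, show j = 2 by omega]
  haveI hDn : D.Normal := ⟨fun k hk g => by rwa [hVc g k, mul_inv_cancel_right]⟩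
  have hDidx : D.index = p := by
    have h1 := Subgroup.card_mul_index D
    rw [hDc, hV, pow_succ p 2] at h1
    exact Nat.eq_of_mul_eq_mul_left (pow_pos hp.out.pos 2) h1
  have htD : ∀ v ∈ D, act t v ∈ D := fun v hv => by
    have := D.mul_mem hv (hLD ((hDmem v).1 hv))
    rwa [mul_inv_cancel_left] at this
  have htshift : ∀ v, v⁻¹ * act t v ∈ D := fun v =>
    SmallEssential.shift_small hVp le_top (by rw [Subgroup.relIndex_top_right, hDidx])
      (show act t ^ p ^ kt = 1 by rw [← map_pow, htp, map_one]) htD (fun _ _ => Subgroup.mem_top _)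
      (Subgroup.mem_top v)
  obtain ⟨g, -, hg⟩ := SetLike.exists_of_lt (lt_top_iff_ne_top.2 hY.ne)
  set t' := g * t * g⁻¹ with ht'
  have ht'p : t' ^ p ^ kt = 1 := by rw [ht', conj_pow, htp, mul_one, mul_inv_cancel]
  have ht'L := hsmall t' ⟨kt, ht'p⟩
  set D' := D.map (act g).toMonoidHom with hD'
  have hLD' : L ≤ D' := fun l hl => ⟨act g⁻¹ l, hLD (hLinv _ l hl), hmap' g l⟩
  have ht'apply : ∀ v, v⁻¹ * act t' v = act g ((act g⁻¹ v)⁻¹ * act t (act g⁻¹ v)) := fun v => by
    rw [map_mul (act g), map_inv (act g), hmap', ht', map_mul act, map_mul act, MulAut.mul_apply, MulAut.mul_apply]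
  have ht'shift : ∀ v, v⁻¹ * act t' v ∈ D' := fun v => ⟨_, htshift _, (ht'apply v).symm⟩
  have ht'D' : ∀ v ∈ D', v⁻¹ * act t' v ∈ L := by
    rintro _ ⟨v, hv, rfl⟩
    show (act g v)⁻¹ * act t' (act g v) ∈ L
    rw [ht'apply, hmap]
    exact hLinv g _ ((hDmem v).1 hv)
  have ht'D'iff : ∀ v, v⁻¹ * act t' v ∈ L → v ∈ D' := fun v hv => by
    refine ⟨act g⁻¹ v, (hDmem _).2 ?_, hmap' g v⟩
    rw [ht'apply] at hv
    have := hLinv g⁻¹ _ hv
    rwa [hmap] at this
  -- the conjugate plane is different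
  have hne : D' ≠ D := by
    intro hDD
    let Q : Subgroup X :=
      { carrier := {x | (∀ v, v⁻¹ * act x v ∈ D) ∧ (∀ k ∈ D, k⁻¹ * act x k ∈ L) ∧ ∀ l ∈ L, act x l = l}
        one_mem' := ⟨fun v => by simp, fun k _ => by simp, fun l _ => by simp⟩
        mul_mem' := fun {a b} ha hb => by
          have hbK : ∀ k ∈ D, act b k ∈ D := fun k hk => by
            have := D.mul_mem hk (hLD (hb.2.1 k hk)); rwa [mul_inv_cancel_left] at this
          refine ⟨fun v => ?_, fun k hk => ?_, fun l hl => ?_⟩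
          · rw [map_mul, MulAut.mul_apply,
              show v⁻¹ * act a (act b v) = (v⁻¹ * act b v) * ((act b v)⁻¹ * act a (act b v)) by group]
            exact D.mul_mem (hb.1 v) (ha.1 _)
          · rw [map_mul, MulAut.mul_apply,
              show k⁻¹ * act a (act b k) = (k⁻¹ * act b k) * ((act b k)⁻¹ * act a (act b k)) by group]
            exact L.mul_mem (hb.2.1 k hk) (ha.2.1 _ (hbK k hk))
          · rw [map_mul, MulAut.mul_apply, hb.2.2 l hl, ha.2.2 l hl]
        inv_mem' := fun {a} ha => by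
          refine ⟨fun v => ?_, fun k hk => ?_, fun l hl => ?_⟩
          · have h1 := D.inv_mem (ha.1 (act a⁻¹ v))
            rwa [hmap', mul_inv_rev, inv_inv] at h1
          · have hk' : act a⁻¹ k ∈ D := by
              have h1 := D.inv_mem (ha.1 (act a⁻¹ k))
              rw [hmap', mul_inv_rev, inv_inv] at h1
              have := D.mul_mem hk h1
              rwa [mul_inv_cancel_left] at this
            have h1 := L.inv_mem (ha.2.1 _ hk')
            rwa [hmap', mul_inv_rev, inv_inv] at h1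
          · calc act a⁻¹ l = act a⁻¹ (act a l) := by rw [ha.2.2 l hl]
              _ = l := hmap a l }
    have hQp : IsPGroup p Q := isPGroup_of_forall_coprime fun a ha => by
      have hco : (orderOf (act (a : X))).Coprime p :=
        ha.coprime_dvd_left ((orderOf_map_dvd act (a : X)).trans (Subgroup.orderOf_coe a).dvd)
      have hk : ∀ k ∈ D, act (a : X) k = k := fun k hk =>
        fixed_of_fixed_shift hVp hco (a.2.2.2 _ (a.2.2.1 k hk))
      refine Subtype.ext (hinj (MulEquiv.ext fun v => ?_))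
      rw [Subgroup.coe_one, map_one, MulAut.one_apply]
      exact fixed_of_fixed_shift hVp hco (hk _ (a.2.1 v))
    have htQ : t ∈ Q := ⟨htshift, fun k hk => (hDmem k).1 hk, htL⟩
    have ht'Q : t' ∈ Q := ⟨fun v => hDD ▸ ht'shift v, fun k hk => ht'D' k (hDD.symm ▸ hk), ht'L⟩
    refine hg (hY.uniq g t' (fun h => ht1 (conj_eq_one_iff.1 h)) ⟨kt, ht'p⟩
      (hY.comp Q hQp t htQ ht1 (hPY ht) ht'Q) ?_)
    simpa [ht', mul_assoc] using hPY ht
  obtain ⟨u, huD', huD⟩ : ∃ u ∈ D', u ∉ D := by
    by_contra hno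
    push Not at hno
    exact hne (Subgroup.eq_of_le_of_card_ge hno (le_of_eq (by
      rw [hD', Subgroup.card_map_of_injective (f := (act g).toMonoidHom) (act g).injective])))
  set v := u⁻¹ * act t u with hv
  have hvD : v ∈ D := htshift u
  have hvL : v ∉ L := fun h => huD ((hDmem u).2 h)
  have hmodp : ∀ {a : V}, π a ^ p = 1 := fun {a} => by rw [← map_pow, hVe, map_one]
  have hline : ∀ {B : Subgroup V}, L ≤ B → Nat.card B = p ^ 2 → ∀ {a : V}, a ∈ B → a ∉ L →
      B = L ⊔ Subgroup.zpowers a := by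
    intro B hLB hB a ha haL
    refine (Subgroup.eq_of_le_of_card_ge (sup_le hLB (Subgroup.zpowers_le.2 ha)) ?_).symm
    have := CfsgLib.Fusion.MaxClass.card_mul_le_of_lt hVp (lt_of_le_not_ge
      (le_sup_left : L ≤ L ⊔ Subgroup.zpowers a) fun h => haL (h (Subgroup.mem_sup_right (Subgroup.mem_zpowers a))))
    rwa [hL, ← pow_two, ← hB] at this
  have hD'c : Nat.card D' = p ^ 2 := by
    rw [hD', Subgroup.card_map_of_injective (f := (act g).toMonoidHom) (act g).injective, hDc]
  have hvD' : v ∉ D' := fun h => huD (by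
    rw [hline hLD hDc hvD hvL, ← hline hLD' hD'c h hvL]
    exact huD')
  have hsh : v⁻¹ * act t' v ∉ L := fun h => hvD' (ht'D'iff v h)
  obtain ⟨r, hr⟩ : ∃ r : ℤ, π (v⁻¹ * act t' v) = π u ^ r := by
    have h1 := ht'shift v
    rw [hline hLD' hD'c huD' fun h => huD (hLD h)] at h1
    obtain ⟨l, hl, z, hz, hlz⟩ := Subgroup.mem_sup_of_normal_left.1 h1
    obtain ⟨r, rfl⟩ := Subgroup.mem_zpowers_iff.1 hz
    exact ⟨r, by rw [← hlz, map_mul, hπ1.2 hl, one_mul, map_zpow]⟩
  have hr0 : (r : ZMod p) ≠ 0 := fun h => hsh (hπ1.1 (by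
    rw [hr, zpow_congr hmodp (j := 0) (by simpa using h), zpow_zero]))
  set m : ℕ := (-(r : ZMod p)⁻¹).val with hm
  have hpow : ∀ (x : X) (a c : V), π (act x a) = π a * π c → π (act x c) = π c →
      ∀ n : ℕ, π (act (x ^ n) a) = π a * π c ^ n := by
    intro x a c h1 h2 n
    induction n with
    | zero => simp
    | succ n ih =>
      rw [pow_succ', map_mul, MulAut.mul_apply, hclose x (ih.trans (by rw [← map_pow, ← map_mul])),
        map_mul, map_mul, map_pow, map_pow, h1, h2, pow_succ' (π c), mul_assoc]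
  have h1u : π (act t u) = π u * π v := by
    rw [hv, ← map_mul, mul_inv_cancel_left]
  have h1v : π (act t v) = π v := (hπeq.2 ((hDmem v).1 hvD)).symm
  have ht'u : π (act t' u) = π u := (hπeq.2 (ht'D' u huD')).symm
  have h2u : π (act (t' ^ m) u) = π u := by
    have := hpow t' u 1 (by rw [ht'u, map_one, mul_one]) (by simp) m
    rwa [map_one, one_pow, mul_one] at this
  have h2v : π (act (t' ^ m) v) = π v * (π u)⁻¹ := by
    have h3 : π (act t' v) = π v * π (u ^ r) := by
      rw [map_zpow, ← hr, ← map_mul, mul_inv_cancel_left]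
    have h4 : π (act t' (u ^ r)) = π (u ^ r) := by rw [map_zpow, map_zpow, ht'u, map_zpow]
    rw [hpow t' v _ h3 h4 m, map_zpow, ← zpow_natCast, ← zpow_mul,
      zpow_congr hmodp (j := -1) (by
        rw [Int.cast_mul, Int.cast_natCast, hm, ZMod.natCast_zmod_val, Int.cast_neg, Int.cast_one,
          mul_neg, mul_inv_cancel₀ hr0]), zpow_neg_one]
  clear_value v m
  set w₀ := t * t' ^ m * t with hw0
  have hwapply : ∀ a, act w₀ a = act t (act (t' ^ m) (act t a)) := fun a => by
    rw [hw0, map_mul, map_mul, MulAut.mul_apply, MulAut.mul_apply]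
  clear_value w₀
  have hwu : π (act w₀ u) = π v := by
    rw [hwapply]
    have e1 : π (act (t' ^ m) (act t u)) = π v := by
      rw [hclose _ (h1u.trans (map_mul π u v).symm), map_mul, map_mul, h2u, h2v, ← map_inv, ← map_mul,
        ← map_mul, hVc v u⁻¹, mul_inv_cancel_left]
    rw [hclose t e1, h1v]
  have hwv : π (act w₀ v) = (π u)⁻¹ := by
    rw [hwapply]
    have e1 : π (act (t' ^ m) (act t v)) = π (v * u⁻¹) := by
      rw [hclose _ h1v, h2v, map_mul, map_inv]
    rw [hclose t e1, map_mul, map_mul, h1v, map_inv, map_inv, h1u, ← map_mul, ← map_inv, ← map_inv,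
      ← map_mul, mul_inv_rev, mul_inv_cancel_left]
  set i := w₀ * w₀ with hi
  have hiu : π (act i u) = (π u)⁻¹ := by
    rw [hi, map_mul, MulAut.mul_apply, hclose w₀ hwu, hwv]
  have hiv : π (act i v) = (π v)⁻¹ := by
    rw [hi, map_mul, MulAut.mul_apply, hclose w₀ (hwv.trans (map_inv π u).symm), map_inv, map_inv, hwu]
  clear_value i
  have hiL : ∀ l ∈ L, act i l = l := by
    have h1 : ∀ l ∈ L, act w₀ l = l := fun l hl => by
      rw [hwapply, htL l hl, hsmall (t' ^ m) ⟨kt, by rw [← pow_mul, mul_comm, pow_mul, ht'p, one_pow]⟩ l hl,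
        htL l hl]
    intro l hl
    rw [hi, map_mul, MulAut.mul_apply, h1 l hl, h1 l hl]
  have hneg : ∀ a, π (act i a) = (π a)⁻¹ := by
    let J : Subgroup V :=
      { carrier := {a | π (act i a) = (π a)⁻¹}
        one_mem' := by simp
        mul_mem' := fun {a b} ha hb => by
          show π (act i (a * b)) = _
          rw [map_mul, map_mul, ha, hb, ← map_inv, ← map_inv, ← map_mul, ← map_inv π, mul_inv_rev, hVc]
        inv_mem' := fun {a} ha => by
          show π (act i a⁻¹) = _
          rw [map_inv, map_inv, ha, map_inv] }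
    have hDJ : D ≤ J := by
      rw [hline hLD hDc hvD hvL]
      refine sup_le (fun l hl => ?_) (Subgroup.zpowers_le.2 hiv)
      show π (act i l) = _
      rw [hiL l hl, hπ1.2 hl, inv_one]
    have hJ : (⊤ : Subgroup V) ≤ J := by
      refine le_trans ?_ (sup_le hDJ (Subgroup.zpowers_le.2 (show u ∈ J from hiu)))
      refine (Subgroup.eq_of_le_of_card_ge le_top ?_).ge
      have := CfsgLib.Fusion.MaxClass.card_mul_le_of_lt hVp (lt_of_le_not_ge
        (le_sup_left : D ≤ D ⊔ Subgroup.zpowers u) fun h => huD (h (Subgroup.mem_sup_right (Subgroup.mem_zpowers u))))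
      rwa [hDc, ← pow_succ', ← hV, ← Subgroup.card_top (G := V)] at this
    exact fun a => hJ (Subgroup.mem_top a)
  -- the two commute
  let Z : Subgroup X :=
    { carrier := {x | (∀ a, π (act x a) = π a) ∧ ∀ l ∈ L, act x l = l}
      one_mem' := ⟨fun a => by simp, fun l _ => by simp⟩
      mul_mem' := fun {a b} ha hb => ⟨fun c => by rw [map_mul, MulAut.mul_apply, ha.1, hb.1],
        fun l hl => by rw [map_mul, MulAut.mul_apply, hb.2 l hl, ha.2 l hl]⟩
      inv_mem' := fun {a} ha => ⟨fun c => by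
          have := ha.1 (act a⁻¹ c)
          rw [hmap'] at this
          exact this.symm,
        fun l hl => by
          calc act a⁻¹ l = act a⁻¹ (act a l) := by rw [ha.2 l hl]
            _ = l := hmap a l⟩ }
  have hZn : Z.Normal := ⟨fun a ha y => by
    refine ⟨fun c => ?_, fun l hl => ?_⟩
    · rw [map_mul, map_mul, MulAut.mul_apply, MulAut.mul_apply, hclose y (ha.1 _), hmap']
    · rw [map_mul, map_mul, MulAut.mul_apply, MulAut.mul_apply, ha.2 _ (hLinv y⁻¹ l hl), hmap']⟩
  have hZp : IsPGroup p Z := isPGroup_of_forall_coprime fun a ha => by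
    have hco : (orderOf (act (a : X))).Coprime p :=
      ha.coprime_dvd_left ((orderOf_map_dvd act (a : X)).trans (Subgroup.orderOf_coe a).dvd)
    refine Subtype.ext (hinj (MulEquiv.ext fun c => ?_))
    rw [Subgroup.coe_one, map_one, MulAut.one_apply]
    exact fixed_of_fixed_shift hVp hco (a.2.2 _ (hπeq.1 (a.2.1 c).symm))
  have hZbot : Z = ⊥ := le_bot_iff.1
    ((CfsgLib.Solvable.Cores.le_pCore (hn := hZn) hZp).trans (pCore_eq_bot_of_stronglyPEmbedded hY₀).le)
  have hcomm : i * t * i⁻¹ * t⁻¹ ∈ Z := by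
    refine ⟨fun a => ?_, fun l hl => ?_⟩
    · have hinv : ∀ c, π (act i⁻¹ c) = (π c)⁻¹ := fun c => by
        have := hneg (act i⁻¹ c)
        rw [hmap'] at this
        rw [this, inv_inv]
      rw [map_mul, map_mul, map_mul, MulAut.mul_apply, MulAut.mul_apply, MulAut.mul_apply, hneg,
        hclose t ((hinv (act t⁻¹ a)).trans (map_inv π _).symm), map_inv, map_inv, inv_inv, hmap']
    · rw [map_mul, map_mul, map_mul, MulAut.mul_apply, MulAut.mul_apply, MulAut.mul_apply]
      have h1 : act t⁻¹ l = l := by conv_lhs => rw [← htL l hl, hmap]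
      have h2 : act i⁻¹ l = l := by conv_lhs => rw [← hiL l hl, hmap]
      rw [h1, h2, htL l hl, hiL l hl]
  rw [hZbot, Subgroup.mem_bot, mul_inv_eq_one, mul_inv_eq_iff_eq_mul] at hcomm
  set l := d⁻¹ * act t d with hl
  have htd : act t d = d * l := by rw [hl, mul_inv_cancel_left]
  clear_value l
  obtain ⟨l', hl', hid⟩ : ∃ l' ∈ L, act i d = d⁻¹ * l' :=
    ⟨d * act i d, by
      rw [← hπ1, map_mul, hneg, mul_inv_cancel], by rw [inv_mul_cancel_left]⟩
  have e1 : act (i * t) d = act (t * i) d := by rw [hcomm]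
  rw [map_mul, map_mul, MulAut.mul_apply, MulAut.mul_apply, htd, map_mul, hid, map_mul, map_inv, htd,
    htL l' hl', hiL l hd, mul_inv_rev, hVc d⁻¹ l', hVc (l⁻¹ * d⁻¹) l', mul_assoc, hVc d⁻¹ l] at e1
  have e2 : l = l⁻¹ := mul_right_cancel (mul_left_cancel e1)
  rw [eq_inv_iff_mul_eq_one, ← pow_two] at e2
  have h1 : orderOf l ∣ Nat.gcd p 2 := Nat.dvd_gcd (orderOf_dvd_of_pow_eq_one (hVe l)) (orderOf_dvd_of_pow_eq_one e2)
  rw [(Nat.coprime_primes hp.out Nat.prime_two).2 hp2, Nat.dvd_one, orderOf_eq_one_iff] at h1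
  exact hd1 h1

end CfsgLib.Fsys.RankThree
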