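import Cfsg.Agent.Lib.FusionSystem.RankThree.Quot
import Cfsg.Agent.Lib.PGroup.FrattiniAct
import Cfsg.Agent.Lib.Fusion.MaxClass

/-! A regular unipotent automorphism of a group with three generators and sectional rank three. -/

set_option autoImplicit false
set_option linter.unusedSectionVars false
set_option linter.style.haveILetI false
set_option maxHeartbeats 800000

open scoped commutatorElement
open CfsgLib.PGroup.FrattiniAct (quot quot_mk)

namespace CfsgLib.Fsys.RankThree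

variable {G : Type*} [Group G] [Finite G] {p : ℕ} [hp : Fact p.Prime]

section ClassTwo

variable {Q : Type*} [Group Q]

theorem mul_commutator_left {x y z : Q} (hc : ∀ w : Q, Commute ⁅y, z⁆ w) :
    ⁅x * y, z⁆ = ⁅x, z⁆ * ⁅y, z⁆ := by
  calc ⁅x * y, z⁆ = x * ⁅y, z⁆ * x⁻¹ * ⁅x, z⁆ := by simp only [commutatorElement_def]; group
    _ = ⁅y, z⁆ * ⁅x, z⁆ := by rw [← (hc x).eq, mul_inv_cancel_right]
    _ = ⁅x, z⁆ * ⁅y, z⁆ := (hc _).eq

theorem mul_commutator_right {x y z : Q} (hc : ∀ w : Q, Commute ⁅x, z⁆ w) :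
    ⁅x, y * z⁆ = ⁅x, y⁆ * ⁅x, z⁆ := by
  calc ⁅x, y * z⁆ = ⁅x, y⁆ * (y * ⁅x, z⁆ * y⁻¹) := by simp only [commutatorElement_def]; group
    _ = ⁅x, y⁆ * ⁅x, z⁆ := by rw [← (hc y).eq, mul_inv_cancel_right]

theorem commutator_zpow_left {x z : Q} (hc : ∀ w u : Q, Commute ⁅w, z⁆ u) (m : ℤ) :
    ⁅x ^ m, z⁆ = ⁅x, z⁆ ^ m :=
  map_zpow (MonoidHom.mk' (fun w => ⁅w, z⁆) fun _ b => mul_commutator_left (hc b)) x m

theorem map_bracket (ψ : MulAut Q) (x y : Q) : ψ ⁅x, y⁆ = ⁅ψ x, ψ y⁆ :=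
  map_commutatorElement ψ.toMonoidHom x y

end ClassTwo

theorem split_eq {V : Type*} [CommGroup V] (A B D E L : V) : A * B * (D * E) * L = A * D * L * (B * E) := by
  ac_rfl

theorem regular_pow (hG : IsPGroup p G) (hp5 : 5 ≤ p) (hidx : (frattini G).index = p ^ 3) (h3 : Rank3 p G)
    {A : Subgroup (MulAut G)} {φ : MulAut G} {k : ℕ} (hφk : φ ^ p ^ k = 1)
    {a d l : G} (ha : φ a = a * d) (hd : φ d = d * l) (hl : l⁻¹ * φ l ∈ frattini G) (hlΦ : l ∉ frattini G)
    (hline : ∀ R : Subgroup G, frattini G ≤ R → l ∈ R → (∀ α ∈ A, ∀ r ∈ R, α r ∈ R) → d ∈ R)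
    {K : Subgroup G} (hKΦ : K ≤ frattini G) (hKi : Nat.card (frattini G) = Nat.card K * p)
    (hΦK : ∀ f ∈ frattini G, ∀ g, ⁅f, g⁆ ∈ K) (hlK : ∀ g, ⁅l, g⁆ ∈ K)
    (hdp : d ^ p ∈ K) (hlp : l ^ p ∈ K) (had : ⁅a, d⁆ ∉ K)
    {m : ℤ} {f₀ : G} (hf₀ : f₀ ∈ frattini G)
    (hpow : ∀ g, (φ ^ p) g = l ^ m * f₀ * g * (l ^ m * f₀)⁻¹) :
    (m : ZMod p) ≠ 0 ∧ a ^ p * ⁅a, d⁆ ^ m ∈ K := by
  classical
  haveI hKn : K.Normal := ⟨fun x hx g => by
    have := K.mul_mem (inv_mem (hΦK x (hKΦ hx) g)) hx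
    rwa [commutatorElement_inv, commutatorElement_def, inv_mul_cancel_right] at this⟩
  have hKpow : ∀ f ∈ frattini G, f ^ p ∈ K := by
    intro f hf
    have hi : (K.subgroupOf (frattini G)).index = p := by
      have h1 := Subgroup.card_mul_index (K.subgroupOf (frattini G))
      rw [Nat.card_congr (Subgroup.subgroupOfEquivOfLe hKΦ).toEquiv, hKi] at h1
      exact Nat.eq_of_mul_eq_mul_left Nat.card_pos h1
    have := Subgroup.pow_index_mem (K.subgroupOf (frattini G)) ⟨f, hf⟩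
    rwa [hi, Subgroup.mem_subgroupOf] at this
  have h2K : phiTwo p G ≤ K := by
    refine (Subgroup.closure_le _).2 ?_
    rintro _ (⟨x, hx, rfl⟩ | ⟨x, hx, y, rfl⟩)
    · exact hKpow x hx
    · exact hΦK x hx y
  obtain ⟨hWc, hWe, hcW, hpW, hW3, hWmem, hWcard⟩ := phiTwo_facts p hG h3
  set π := QuotientGroup.mk' (phiTwo p G) with hπ
  set W := (frattini G).map π with hW
  set ψ := phiTwoAut p φ with hψdef
  have hψ : ∀ g, ψ (π g) = π (φ g) := phiTwoAut_mk p φ
  have hψk : ψ ^ p ^ k = 1 := phiTwoAut_pow_eq_one p hφk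
  have hQ : IsPGroup p (G ⧸ phiTwo p G) := hG.to_quotient _
  have hWinv : ∀ w ∈ W, ψ w ∈ W := by
    rintro _ ⟨x, hx, rfl⟩
    exact ⟨φ x, (Subgroup.characteristic_iff_map_le.1 frattini_characteristic φ) ⟨x, hx, rfl⟩, (hψ x).symm⟩
  -- independence modulo the Frattini subgroup
  have hVc := PGroup.Frattini.quotient_mul_comm (p := p) (P := G) hG
  have hVe := PGroup.Frattini.quotient_pow_eq_one (p := p) (P := G) hG
  have hVcard : Nat.card (G ⧸ frattini G) = p ^ 3 := by rw [← Subgroup.index_eq_card, hidx]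
  let σ := QuotientGroup.mk' (frattini G)
  have hσl : σ l ≠ 1 := fun e => hlΦ ((QuotientGroup.eq_one_iff l).1 e)
  have hVind : Indep3 p (σ a) (σ d) (σ l) := by
    have hqa : quot φ (σ a) = σ a * σ d := (quot_mk φ a).trans (by rw [ha]; rfl)
    have hqd : quot φ (σ d) = σ d * σ l := (quot_mk φ d).trans (by rw [hd]; rfl)
    have hql : quot φ (σ l) = σ l := (quot_mk φ l).trans (QuotientGroup.eq.2 hl).symm
    letI : CommGroup (G ⧸ frattini G) := { (inferInstance : Group (G ⧸ frattini G)) with mul_comm := hVc }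
    intro i j n hijn
    have h1 := congrArg (quot φ) hijn
    rw [map_mul, map_mul, map_zpow, map_zpow, map_zpow, hqa, hqd, hql, map_one, mul_zpow, mul_zpow] at h1
    rw [split_eq, hijn, one_mul] at h1
    have h2 : σ d ^ i * σ l ^ j = 1 := h1
    have h3' := congrArg (quot φ) h2
    rw [map_mul, map_zpow, map_zpow, hqd, hql, map_one, mul_zpow, mul_right_comm, h2, one_mul] at h3'
    have hi0 : (i : ZMod p) = 0 := by
      have := eq_of_zpow (p := p) (hVe (σ l)) hσl (h3'.trans (zpow_zero _).symm)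
      simpa using this
    rw [zpow_congr (hVe (σ d)) (j := 0) (by simpa using hi0), zpow_zero, one_mul] at h2
    have hj0 : (j : ZMod p) = 0 := by
      have := eq_of_zpow (p := p) (hVe (σ l)) hσl (h2.trans (zpow_zero _).symm)
      simpa using this
    rw [zpow_congr (hVe (σ a)) (j := 0) (by simpa using hi0), zpow_congr (hVe (σ d)) (j := 0) (by simpa using hj0),
      zpow_zero, zpow_zero, one_mul, one_mul] at hijn
    have hn0 := eq_of_zpow (p := p) (hVe (σ l)) hσl (hijn.trans (zpow_zero _).symm)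
    exact ⟨hi0, hj0, by simpa using hn0⟩
  -- powers
  have hsq : ∀ x y : G ⧸ phiTwo p G, (x * y) ^ p = x ^ p * y ^ p := fun x y => by
    have hη : (y⁻¹ * x⁻¹ * y * x : G ⧸ phiTwo p G) ∈ W := by
      have := hcW y⁻¹ x⁻¹
      rwa [commutatorElement_def, inv_inv, inv_inv] at this
    rw [mul_pow_shift (η := y⁻¹ * x⁻¹ * y * x) (by group) (hWc _ hη y).symm (hWc _ hη x).symm,
      choose_pow_eq_one (hWe _ hη) (by norm_num) (by omega), mul_one]
  let P : G →* G ⧸ phiTwo p G := MonoidHom.mk' (fun g => π g ^ p) fun x y => by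
    show π (x * y) ^ p = _
    rw [map_mul, hsq]
  have hPW : ∀ g, P g ∈ W := fun g => hpW _
  have hPΦ : ∀ f ∈ frattini G, P f = 1 := fun f hf => hWe _ ⟨f, hf, rfl⟩
  have hψP : ∀ g, ψ (P g) = P (φ g) := fun g => by
    show ψ (π g ^ p) = π (φ g) ^ p
    rw [map_pow, hψ]
  have hPψa : ψ (P a) = P a * P d := by rw [hψP, ha, map_mul]
  have hPψd : ψ (P d) = P d * P l := by rw [hψP, hd, map_mul]
  have hPψl : ψ (P l) = P l := by
    rw [hψP, show φ l = l * (l⁻¹ * φ l) by group, map_mul, hPΦ _ hl, mul_one]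
  -- commutators
  have hC : ∀ x y w : G ⧸ phiTwo p G, Commute ⁅x, y⁆ w := fun x y w => hWc _ (hcW x y) w
  have hψl : ∀ x, ⁅x, ψ (π l)⁆ = ⁅x, π l⁆ := fun x => by
    have hfl : π (l⁻¹ * φ l) ∈ W := (hWmem _).2 hl
    rw [hψ, show φ l = l * (l⁻¹ * φ l) by group, map_mul, mul_commutator_right fun w => hC _ _ w,
      commutatorElement_eq_one_iff_commute.2 (hWc _ hfl x).symm, mul_one]
  have hψd : ψ (π d) = π d * π l := by rw [hψ, hd, map_mul]
  have hψa : ψ (π a) = π a * π d := by rw [hψ, ha, map_mul]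
  set c := ⁅π a, π d⁆ with hc
  have hc1 : ψ c = c * (⁅π a, π l⁆ * ⁅π d, π l⁆) := by
    rw [hc, map_bracket]
    rw [hψa, hψd, mul_commutator_left fun w => hC _ _ w, mul_commutator_right fun w => hC _ _ w,
      mul_commutator_right fun w => hC _ _ w, commutatorElement_self, one_mul, mul_assoc]
  have hc2 : ψ (⁅π a, π l⁆ * ⁅π d, π l⁆) = ⁅π a, π l⁆ * ⁅π d, π l⁆ * ⁅π d, π l⁆ := by
    rw [map_mul, map_bracket, map_bracket]
    rw [hψl, hψl, hψa, hψd, mul_commutator_left fun w => hC _ _ w, mul_commutator_left fun w => hC _ _ w,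
      commutatorElement_self, mul_one]
  have hδc : c⁻¹ * ψ c = ⁅π a, π l⁆ * ⁅π d, π l⁆ := by rw [hc1, inv_mul_cancel_left]
  have hδ2c : (fun v => v⁻¹ * ψ v)^[2] c = ⁅π d, π l⁆ := by
    show (c⁻¹ * ψ c)⁻¹ * ψ (c⁻¹ * ψ c) = _
    rw [hδc, hc2, inv_mul_cancel_left]
  have hQ3 : Rank3 p (G ⧸ phiTwo p G) := h3.quotient _
  have hel : ∀ B : Subgroup (G ⧸ phiTwo p G), (∀ x ∈ B, ∀ y ∈ B, Commute x y) → (∀ x ∈ B, x ^ p = 1) →
      Nat.card B ≤ p ^ 3 := fun B hB1 hB2 => by
    have := hQ3 B ⊥ bot_le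
      (fun a ha b hb => by rw [Subgroup.mem_bot]; exact commutatorElement_eq_one_iff_commute.2 (hB1 a ha b hb))
      (fun a ha => by rw [Subgroup.mem_bot]; exact hB2 a ha)
    rwa [Subgroup.card_bot, mul_one] at this
  -- the line has nontrivial power
  have hPl : P l ≠ 1 := by
    intro hPl
    have hPd : P d = 1 := by
      have hR : ∀ α ∈ A, ∀ r ∈ P.ker, α r ∈ P.ker := fun α _ r hr => by
        rw [MonoidHom.mem_ker] at hr ⊢
        show π (α r) ^ p = 1
        rw [← map_pow, ← map_pow]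
        refine (QuotientGroup.eq_one_iff _).2 (phiTwo_map_le p α ((QuotientGroup.eq_one_iff _).1 ?_))
        show π (r ^ p) = 1
        rw [map_pow]
        exact hr
      exact MonoidHom.mem_ker.1 (hline P.ker (fun f hf => MonoidHom.mem_ker.2 (hPΦ f hf))
        (MonoidHom.mem_ker.2 hPl) hR)
    -- the section above the line
    set B₁ := Subgroup.zpowers (π l) ⊔ W with hB₁
    have hB₁c : ∀ x ∈ B₁, ∀ y ∈ B₁, Commute x y := by
      have hle : B₁ ≤ Subgroup.centralizer (B₁ : Set (G ⧸ phiTwo p G)) := by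
        refine sup_le (Subgroup.zpowers_le.2 ?_) fun w hw => Subgroup.mem_centralizer_iff.2 fun q _ => (hWc w hw q).symm.eq
        refine Subgroup.mem_centralizer_iff.2 fun q hq => ?_
        have : B₁ ≤ Subgroup.centralizer {π l} := sup_le (Subgroup.zpowers_le.2 (Subgroup.mem_centralizer_iff.2
          (by simp))) fun w hw => Subgroup.mem_centralizer_iff.2 (by simpa using (hWc w hw (π l)).symm.eq)
        exact (Subgroup.mem_centralizer_iff.1 (this hq) (π l) rfl).symm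
      exact fun x hx y hy => (Subgroup.mem_centralizer_iff.1 (hle hy) x hx)
    have hB₁e : ∀ x ∈ B₁, x ^ p = 1 := fun x hx => by
      haveI : W.Normal := ⟨fun w hw g => by rwa [← (hWc w hw g).eq, mul_inv_cancel_right]⟩
      obtain ⟨y, hy, w, hw, rfl⟩ := Subgroup.mem_sup_of_normal_right.1 hx
      obtain ⟨i, rfl⟩ := Subgroup.mem_zpowers_iff.1 hy
      rw [((hWc w hw _).symm).mul_pow, hWe w hw, mul_one, ← zpow_natCast, ← zpow_mul, mul_comm, zpow_mul,
        zpow_natCast, show π l ^ p = P l from rfl, hPl, one_zpow]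
    have hlW : π l ∉ W := fun hh => hlΦ ((hWmem l).1 hh)
    have hlt1 : W < B₁ := lt_of_le_not_ge le_sup_right fun hh =>
      hlW (hh (Subgroup.mem_sup_left (Subgroup.mem_zpowers _)))
    have h1 : Nat.card W * p ≤ p ^ 3 :=
      (CfsgLib.Fusion.MaxClass.card_mul_le_of_lt hQ hlt1).trans' (by rw [mul_comm]) |>.trans (hel B₁ hB₁c hB₁e)
    have hW2 : Nat.card W ≤ p ^ 2 := Nat.le_of_mul_le_mul_right (by rwa [pow_succ] at h1) hp.out.pos
    have hdl : ⁅π d, π l⁆ = 1 := by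
      rw [← hδ2c]
      exact shift_iter hQ hψk 2 W (fun x hx y _ => (hWc x hx y).eq) hWinv hW2 c (hcW _ _)
    set B₂ := Subgroup.zpowers (π d) ⊔ B₁ with hB₂
    have hdB₁ : ∀ x ∈ B₁, Commute (π d) x := by
      have : B₁ ≤ Subgroup.centralizer {π d} := sup_le (Subgroup.zpowers_le.2 (Subgroup.mem_centralizer_iff.2
        (by simpa using (commutatorElement_eq_one_iff_commute.1 hdl).eq)))
        fun w hw => Subgroup.mem_centralizer_iff.2 (by simpa using (hWc w hw (π d)).symm.eq)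
      exact fun x hx => Subgroup.mem_centralizer_iff.1 (this hx) (π d) rfl
    haveI hB₁n : B₁.Normal := ⟨fun x hx g => by
      have h2 : ⁅g, x⁆ ∈ B₁ := Subgroup.mem_sup_right (hcW g x)
      have := B₁.mul_mem h2 hx
      rwa [commutatorElement_def, inv_mul_cancel_right] at this⟩
    have hB₂mem : ∀ x ∈ B₂, ∃ i : ℤ, ∃ b ∈ B₁, x = π d ^ i * b := fun x hx => by
      obtain ⟨y, hy, b, hb, rfl⟩ := Subgroup.mem_sup_of_normal_right.1 hx
      obtain ⟨i, rfl⟩ := Subgroup.mem_zpowers_iff.1 hy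
      exact ⟨i, b, hb, rfl⟩
    have hB₂c : ∀ x ∈ B₂, ∀ y ∈ B₂, Commute x y := fun x hx y hy => by
      obtain ⟨i, b, hb, rfl⟩ := hB₂mem x hx
      obtain ⟨j, b', hb', rfl⟩ := hB₂mem y hy
      exact ((Commute.zpow_zpow_self _ i j).mul_right ((hdB₁ b' hb').zpow_left i)).mul_left
        (((hdB₁ b hb).symm.zpow_right j).mul_right (hB₁c b hb b' hb'))
    have hB₂e : ∀ x ∈ B₂, x ^ p = 1 := fun x hx => by
      obtain ⟨i, b, hb, rfl⟩ := hB₂mem x hx
      rw [((hdB₁ b hb).zpow_left i).mul_pow, hB₁e b hb, mul_one, ← zpow_natCast, ← zpow_mul, mul_comm, zpow_mul,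
        zpow_natCast, show π d ^ p = P d from rfl, hPd, one_zpow]
    have hdB : π d ∉ B₁ := by
      intro hh
      haveI : W.Normal := ⟨fun w hw g => by rwa [← (hWc w hw g).eq, mul_inv_cancel_right]⟩
      obtain ⟨y, hy, w, hw, hyw⟩ := Subgroup.mem_sup_of_normal_right.1 hh
      obtain ⟨i, rfl⟩ := Subgroup.mem_zpowers_iff.1 hy
      have h2 : π ((l ^ i)⁻¹ * d) ∈ W := by
        rw [map_mul, map_inv, map_zpow, ← hyw, inv_mul_cancel_left]; exact hw
      have h3' : σ d = σ l ^ i := by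
        rw [← map_zpow]; exact (QuotientGroup.eq.2 ((hWmem _).1 h2)).symm
      have := (hVind 0 1 (-i) (by rw [zpow_zero, one_mul, zpow_one, h3', ← zpow_add, add_neg_cancel, zpow_zero])).2.1
      simp at this
    have hlt2 : B₁ < B₂ := lt_of_le_not_ge le_sup_right fun hh =>
      hdB (hh (Subgroup.mem_sup_left (Subgroup.mem_zpowers _)))
    have h2 : Nat.card W * p * p ≤ p ^ 3 := by
      have e1 := CfsgLib.Fusion.MaxClass.card_mul_le_of_lt hQ hlt1
      have e2 := CfsgLib.Fusion.MaxClass.card_mul_le_of_lt hQ hlt2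
      have e3 := hel B₂ hB₂c hB₂e
      nlinarith
    have hW1 : Nat.card W ≤ p := Nat.le_of_mul_le_mul_right
      (Nat.le_of_mul_le_mul_right (by rwa [pow_succ, pow_succ, pow_one] at h2) hp.out.pos) hp.out.pos
    have hK2 : phiTwo p G = K := Subgroup.eq_of_le_of_card_ge h2K (by
      refine Nat.le_of_mul_le_mul_right ?_ hp.out.pos
      rw [← hKi, hWcard]
      exact Nat.mul_le_mul_left _ hW1)
    let R : Subgroup G := (Subgroup.center (G ⧸ phiTwo p G)).comap π
    have hmemR : ∀ r, r ∈ R ↔ ∀ g, ⁅r, g⁆ ∈ K := fun r => by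
      rw [Subgroup.mem_comap, Subgroup.mem_center_iff, ← hK2]
      refine ⟨fun hr g => ?_, fun hr q => ?_⟩
      · rw [← QuotientGroup.eq_one_iff]
        show π _ = 1
        rw [map_commutatorElement, commutatorElement_eq_one_iff_mul_comm]
        exact (hr _).symm
      · obtain ⟨g, rfl⟩ := QuotientGroup.mk'_surjective (phiTwo p G) q
        refine (commutatorElement_eq_one_iff_mul_comm.1 ?_).symm
        rw [← map_commutatorElement]
        exact (QuotientGroup.eq_one_iff _).2 (hr g)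
    have hdR := hline R (fun f hf => (hmemR f).2 (hΦK f hf)) ((hmemR l).2 hlK) fun α _ r hr => by
      rw [hmemR] at hr ⊢
      intro g
      rw [← hK2]
      have := phiTwo_map_le p α (hK2.symm ▸ hr (α⁻¹ g))
      rwa [map_bracket, show α (α⁻¹ g) = g from α.apply_symm_apply g] at this
    refine had ?_
    rw [← commutatorElement_inv]
    exact inv_mem ((hmemR d).1 hdR a)
  -- coordinates of the commutator
  have hWcomm : ∀ x y : W, x * y = y * x := fun x y => Subtype.ext (hWc x x.2 y).eq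
  have hWe' : ∀ x : W, x ^ p = 1 := fun x => Subtype.ext (hWe x x.2)
  set pa : W := ⟨P a, hPW a⟩
  set pd : W := ⟨P d, hPW d⟩
  set pl : W := ⟨P l, hPW l⟩
  have hind : Indep3 p pa pd pl := by
    intro i j n hijn
    have h0 : P a ^ i * P d ^ j * P l ^ n = 1 := by simpa [pa, pd, pl] using congrArg Subtype.val hijn
    have hcm : ∀ x y z : G ⧸ phiTwo p G, x ∈ W → Commute x y := fun x y _ hx => hWc x hx y
    have h1 := congrArg ψ h0
    rw [map_mul, map_mul, map_zpow, map_zpow, map_zpow, hPψa, hPψd, hPψl, map_one,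
      (hWc _ (hPW a) _).mul_zpow, (hWc _ (hPW d) _).mul_zpow] at h1
    have h2 : P d ^ i * P l ^ j = 1 := by
      have e : P a ^ i * P d ^ i * (P d ^ j * P l ^ j) * P l ^ n =
          P a ^ i * P d ^ j * P l ^ n * (P d ^ i * P l ^ j) := by
        have c1 : Commute (P d ^ i) (P d ^ j) := Commute.zpow_zpow_self _ i j
        have c2 : Commute (P l ^ j) (P l ^ n) := Commute.zpow_zpow_self _ j n
        have c3 : Commute (P d ^ i) (P l ^ n) := hWc _ (W.zpow_mem (hPW d) i) _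
        calc P a ^ i * P d ^ i * (P d ^ j * P l ^ j) * P l ^ n
            = P a ^ i * (P d ^ i * P d ^ j) * (P l ^ j * P l ^ n) := by group
          _ = P a ^ i * P d ^ j * (P d ^ i * P l ^ n) * P l ^ j := by rw [c1.eq, c2.eq]; group
          _ = _ := by rw [c3.eq]; group
      rw [e, h0, one_mul] at h1
      exact h1
    have h3' := congrArg ψ h2
    rw [map_mul, map_zpow, map_zpow, hPψd, hPψl, map_one, (hWc _ (hPW d) _).mul_zpow, mul_assoc,
      (Commute.zpow_zpow_self (P l) i j).eq, ← mul_assoc, h2, one_mul] at h3'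
    have hi0 : (i : ZMod p) = 0 := by
      have := eq_of_zpow (p := p) (hWe _ (hPW l)) hPl (h3'.trans (zpow_zero _).symm)
      simpa using this
    rw [zpow_congr (hWe _ (hPW d)) (j := 0) (by simpa using hi0), zpow_zero, one_mul] at h2
    have hj0 : (j : ZMod p) = 0 := by
      have := eq_of_zpow (p := p) (hWe _ (hPW l)) hPl (h2.trans (zpow_zero _).symm)
      simpa using this
    rw [zpow_congr (hWe _ (hPW a)) (j := 0) (by simpa using hi0),
      zpow_congr (hWe _ (hPW d)) (j := 0) (by simpa using hj0), zpow_zero, zpow_zero, one_mul, one_mul] at h0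
    have hn0 := eq_of_zpow (p := p) (hWe _ (hPW l)) hPl (h0.trans (zpow_zero _).symm)
    exact ⟨hi0, hj0, by simpa using hn0⟩
  have hWc3 : Nat.card W = p ^ 3 := by
    refine le_antisymm hW3 ?_
    let f : ZMod p × ZMod p × ZMod p → W := fun q =>
      pa ^ (q.1.val : ℤ) * pd ^ (q.2.1.val : ℤ) * pl ^ (q.2.2.val : ℤ)
    have hinj : Function.Injective f := fun q r hqr => by
      obtain ⟨h1, h2, h3'⟩ := indep_eq hWcomm hWe' hind hqr
      rw [intCast_val, intCast_val] at h1 h2 h3'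
      exact Prod.ext h1 (Prod.ext h2 h3')
    refine le_trans (le_of_eq ?_) (Nat.card_le_card_of_injective f hinj)
    rw [Nat.card_prod, Nat.card_prod, Nat.card_zmod]
    ring
  obtain ⟨α, β, γ, hαβγ⟩ := coords_of_indep hWcomm hWe' hWc3 hind ⟨c, hcW _ _⟩
  have hcval : c = P a ^ α * P d ^ β * P l ^ γ := by simpa [pa, pd, pl] using congrArg Subtype.val hαβγ
  have hdl : ⁅π d, π l⁆ = P l ^ α := by
    rw [← hδ2c]
    show (c⁻¹ * ψ c)⁻¹ * ψ (c⁻¹ * ψ c) = _
    have e1 : c⁻¹ * ψ c = P d ^ α * P l ^ β := by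
      rw [inv_mul_eq_iff_eq_mul, hcval, map_mul, map_mul, map_zpow, map_zpow, map_zpow, hPψa, hPψd, hPψl,
        (hWc _ (hPW a) _).mul_zpow, (hWc _ (hPW d) _).mul_zpow]
      have c1 : Commute (P d ^ α) (P d ^ β * P l ^ γ) := hWc _ (W.zpow_mem (hPW d) α) _
      have c2 : Commute (P l ^ β) (P l ^ γ) := Commute.zpow_zpow_self _ β γ
      calc P a ^ α * P d ^ α * (P d ^ β * P l ^ β) * P l ^ γ
          = P a ^ α * P d ^ α * P d ^ β * (P l ^ β * P l ^ γ) := by group
        _ = P a ^ α * (P d ^ α * (P d ^ β * P l ^ γ)) * P l ^ β := by rw [c2.eq]; group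
        _ = _ := by rw [c1.eq]; group
    rw [e1, map_mul, map_zpow, map_zpow, hPψd, hPψl, (hWc _ (hPW d) _).mul_zpow, mul_assoc (P d ^ α),
      (Commute.zpow_zpow_self (P l) α β).eq, ← mul_assoc (P d ^ α), inv_mul_cancel_left]
  -- the `p`-th power of the automorphism
  set F1 := (π l)⁻¹ * ψ (π l) with hF1
  set F2 := F1⁻¹ * ψ F1 with hF2
  set F3 := F2⁻¹ * ψ F2 with hF3
  have hF1W : F1 ∈ W := by rw [hF1, hψ, ← map_inv, ← map_mul]; exact (hWmem _).2 hl
  have hF2W : F2 ∈ W := W.mul_mem (inv_mem hF1W) (hWinv _ hF1W)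
  have hF3W : F3 ∈ W := W.mul_mem (inv_mem hF2W) (hWinv _ hF2W)
  have hF3 : ψ F3 = F3 := by
    have := shift_iter hQ hψk 3 W (fun x hx y _ => (hWc x hx y).eq) hWinv hW3 F1 hF1W
    exact (inv_mul_eq_one.1 (show F3⁻¹ * ψ F3 = 1 from this)).symm
  have hpow5 := pow_shift_five (p := p) hp5 (φ := ψ) hψd (show ψ (π l) = π l * F1 by rw [hF1, mul_inv_cancel_left])
    (show ψ F1 = F1 * F2 by rw [hF2, mul_inv_cancel_left]) (show ψ F2 = F2 * _ by rw [mul_inv_cancel_left])
    hF3 (hWc _ hF1W _).symm (hWc _ hF1W) (hWc _ hF2W) (hWc _ hF3W) (hWe _ hF1W) (hWe _ hF2W) (hWe _ hF3W)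
  have hαm : ((-(α * m) : ℤ) : ZMod p) = ((1 : ℤ) : ZMod p) := by
    refine eq_of_zpow (p := p) (hWe _ (hPW l)) hPl ?_
    rw [zpow_one]
    have e : (ψ ^ p) (π d) = ⁅π d, π l⁆ ^ (-m) * π d := by
      rw [phiTwoAut_pow_mk, hpow, map_mul, map_mul, map_inv, map_mul, map_zpow, mul_inv_rev]
      have hw : π f₀ ∈ W := (hWmem _).2 hf₀
      rw [mul_assoc (π l ^ m) (π f₀) (π d), (hWc _ hw (π d)).eq]
      have ec : ⁅π d, π l⁆ ^ (-m) = ⁅π l ^ m, π d⁆ := by
        rw [zpow_neg, ← inv_zpow, commutatorElement_inv, commutator_zpow_left (fun w u => hC w _ u) m]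
      rw [ec, commutatorElement_def]
      show π l ^ m * (π d * π f₀) * ((π f₀)⁻¹ * (π l ^ m)⁻¹) = _
      group
    rw [hpow5, hdl, ← zpow_mul, mul_neg] at e
    rw [← (hWc _ (W.zpow_mem (hPW l) _) (π d)).symm.eq] at e
    exact (mul_left_cancel e).symm
  -- modulo `K`
  let κ := QuotientGroup.mk' K
  have hκ : ∀ {x y : G}, π x = π y → κ x = κ y := fun {x y} e => QuotientGroup.eq.2 (h2K (QuotientGroup.eq.1 e))
  have hκc : κ ⁅a, d⁆ = κ (a ^ p) ^ α := by
    have e : π ⁅a, d⁆ = π ((a ^ p) ^ α * (d ^ p) ^ β * (l ^ p) ^ γ) := by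
      rw [map_commutatorElement, map_mul, map_mul, map_zpow, map_zpow, map_zpow, map_pow, map_pow, map_pow]
      exact hcval
    rw [hκ e, map_mul, map_mul, map_zpow, map_zpow, map_zpow, show κ (d ^ p) = 1 from (QuotientGroup.eq_one_iff _).2 hdp,
      show κ (l ^ p) = 1 from (QuotientGroup.eq_one_iff _).2 hlp, one_zpow, one_zpow, mul_one, mul_one]
  refine ⟨fun h0 => by simp [h0] at hαm, (QuotientGroup.eq_one_iff _).1 ?_⟩
  show κ _ = 1
  have hap : κ (a ^ p) ^ p = 1 := by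
    rw [← map_pow]
    exact (QuotientGroup.eq_one_iff _).2 (hKpow _ (PGroup.Frattini.pow_mem_frattini hG a))
  rw [map_mul, map_zpow, hκc, ← zpow_mul, zpow_congr hap (i := α * m) (j := -1) (by
    have := hαm
    push_cast at this ⊢
    linear_combination -this), zpow_neg_one, mul_inv_cancel]

end CfsgLib.Fsys.RankThree
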