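import Cfsg.Agent.Lib.FusionSystem.RankThree.Conj
import Cfsg.Agent.Lib.FusionSystem.RankThree.Line
import Cfsg.Agent.Lib.FusionSystem.RankThree.RegularAlg

/-! The normalizer does not induce a regular unipotent element. -/

set_option autoImplicit false
set_option linter.unusedSectionVars false
set_option linter.style.haveILetI false
set_option maxHeartbeats 800000

open Cfsg Cfsg.FusionSystem
open scoped commutatorElement
open CfsgLib.PGroup.FrattiniAct (quot quot_mk)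

namespace CfsgLib.Fsys.RankThree

universe u

variable {Ω : Type u} [Group Ω] {S : Subgroup Ω} [Finite S] {p : ℕ} [hpf : Fact p.Prime] {F : FusionSystem S}
  {E : Subgroup Ω}

theorem not_caseJ (h : Hyp p F E) (hlt : normalizerIn S E < S) (hJ : CaseJ p F E h.le) : False := by
  classical
  haveI := h.finite
  obtain ⟨hcard, L, hΦL, hLc, hfix⟩ := hJ
  set N := normalizerIn S E with hNdef
  haveI : Finite N := finite_of_le_base normalizerIn_le
  have hEN : E ≤ N := le_normalizerIn h.le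
  have hEp := h.pgroup
  have hΦpos : 0 < Nat.card (frattini ↥E) := Nat.card_pos
  have hp1 := hpf.out.one_lt
  haveI hLn : L.Normal := ⟨fun v hv g => by
    have := PGroup.Frattini.commutatorElement_mem_frattini hEp g v
    have h2 := L.mul_mem (hΦL this) hv
    rwa [commutatorElement_def, inv_mul_cancel_right] at h2⟩
  let σ := QuotientGroup.mk' (frattini ↥E)
  have hσ1 : ∀ {v : E}, σ v = 1 ↔ v ∈ frattini ↥E := fun {v} => QuotientGroup.eq_one_iff v
  have hVc := PGroup.Frattini.quotient_mul_comm (p := p) (P := E) hEp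
  have hVe := PGroup.Frattini.quotient_pow_eq_one (p := p) (P := E) hEp
  -- a conjugate contains two elements with commutator outside
  have hpair : ∀ y ∈ normalizerIn S N, y ∉ N → ∃ b ∈ cnj y E, ∃ c ∈ cnj y E, ⁅b, c⁆ ∉ phi E := by
    intro y hy hyN
    have hm := h.meet hcard hy hyN
    obtain ⟨n, hn, hnE⟩ : ∃ n ∈ cnj y E, n ∉ E := by
      by_contra hno
      push Not at hno
      refine hm.ne (le_of_eq ?_)
      haveI : Finite E := h.finite
      exact (Subgroup.eq_of_le_of_card_ge hno (card_cnj y E).ge).symm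
    obtain ⟨d, hd, hdL⟩ : ∃ d, d ∈ (cnj y E).subgroupOf E ∧ d ∉ L := by
      by_contra hno
      push Not at hno
      have h1 := Subgroup.card_le_of_le (show (cnj y E).subgroupOf E ≤ L from hno)
      have h2 := Subgroup.card_mul_index ((cnj y E).subgroupOf E)
      rw [hm.index, h.card] at h2
      rw [hLc] at h1
      have h3 : Nat.card (frattini ↥E) * p ^ 3 ≤ Nat.card (frattini ↥E) * p * p :=
        h2.ge.trans (Nat.mul_le_mul_right _ h1)
      rw [mul_assoc, ← pow_two] at h3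
      have := (Nat.pow_le_pow_iff_right hp1).1 (Nat.le_of_mul_le_mul_left h3 hΦpos)
      omega
    refine ⟨(d : Ω)⁻¹, inv_mem hd, n, hn, fun hc => hdL ?_⟩
    have h1 : d ∈ fixMod ((autHom F h.le ⟨n, hm.le hn⟩ : F.autGroup E) : MulAut E) := by
      rw [mem_fixMod, ← mem_phi]
      convert hc using 1
      simp [commutatorElement_def, mul_assoc]
    rwa [hfix ⟨n, hm.le hn⟩ hnE] at h1
  obtain ⟨y, hy, hyN⟩ := SetLike.exists_of_lt (lt_normalizerIn h.hS hlt)
  have hm := h.meet hcard hy hyN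
  -- the commutators of `E` do not lie in the conjugate of the Frattini subgroup
  have hcommE : ¬ ∀ b c : E, ⁅(b : Ω), (c : Ω)⁆ ∈ cnj y (phi E) := by
    intro hall
    obtain ⟨b, hb, c, hc, hbc⟩ := hpair y⁻¹ (inv_mem hy) fun hh => hyN (by simpa using inv_mem hh)
    rw [mem_cnj, inv_inv] at hb hc
    refine hbc ?_
    have := hall ⟨_, hb⟩ ⟨_, hc⟩
    rw [mem_cnj] at this
    convert this using 1
    simp [commutatorElement_def, mul_assoc]
  -- the elements
  obtain ⟨a₀, ha₀E, ha₀⟩ := SetLike.not_le_iff_exists.1 hm.ne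
  let a : E := ⟨a₀, ha₀E⟩
  let x : N := ⟨y⁻¹ * a₀ * y, (mem_normalizer_iff'.1 hy.2).2 _ (hEN ha₀E)⟩
  have hxE : (x : Ω) ∉ E := fun hh => ha₀ (mem_cnj.2 hh)
  set φ := ((autHom F h.le x : F.autGroup E) : MulAut E) with hφ
  obtain ⟨k, hk⟩ := h.autHom_pow x
  set DE := (cnj y E).subgroupOf E with hDE
  have hDEinv : ∀ n : N, ∀ v ∈ DE, ((autHom F h.le n : F.autGroup E) : MulAut E) v ∈ DE := fun n v hv => by
    rw [hDE, Subgroup.mem_subgroupOf, autHom_apply]
    exact hm.conj_mem n n.2 _ hv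
  haveI hDEn : DE.Normal := ⟨fun v hv g => by
    have := PGroup.Frattini.commutatorElement_mem_frattini hEp g v
    have h2 := DE.mul_mem (hm.frattini_le this) hv
    rwa [commutatorElement_def, inv_mul_cancel_right] at h2⟩
  have hDEc : Nat.card DE = Nat.card (frattini ↥E) * p ^ 2 := by
    have h2 := Subgroup.card_mul_index DE
    rw [hm.index, h.card, pow_succ p 2, ← mul_assoc] at h2
    exact Nat.eq_of_mul_eq_mul_right hpf.out.pos h2
  have haDE : a ∉ DE := ha₀
  have hfx : fixMod φ = L := hfix x hxE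
  have hLfix : ∀ {v : E}, v ∈ L ↔ v⁻¹ * φ v ∈ frattini ↥E := fun {v} => by rw [← hfx, mem_fixMod]
  have hgenL : ∀ {z : E}, z ∈ L → z ∉ frattini ↥E → frattini ↥E ⊔ Subgroup.zpowers z = L := by
    intro z hz hzΦ
    refine Subgroup.eq_of_le_of_card_ge (sup_le hΦL (Subgroup.zpowers_le.2 hz)) ?_
    have h1 := CfsgLib.Fusion.MaxClass.card_mul_le_of_lt hEp (lt_of_le_not_ge
      (le_sup_left : frattini ↥E ≤ frattini ↥E ⊔ Subgroup.zpowers z) fun hh =>
        hzΦ (hh (Subgroup.mem_sup_right (Subgroup.mem_zpowers z))))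
    rwa [hLc, mul_comm]
  have hLDE : L ≤ DE := by
    obtain ⟨z, hz, hz1, hzf⟩ := exists_fixed_mem (hEp.to_quotient (frattini ↥E)) (φ := quot φ) (k := k)
      (by rw [← map_pow, hk, map_one]) (B := DE.map σ)
      (by
        rintro _ ⟨v, hv, rfl⟩
        exact ⟨φ v, hDEinv x v hv, (quot_mk φ v).symm⟩)
      (fun e => by
        rw [Subgroup.map_eq_bot_iff, QuotientGroup.ker_mk'] at e
        have := Subgroup.card_le_of_le e
        rw [hDEc] at this
        have h2 : 1 < p ^ 2 := Nat.one_lt_pow two_ne_zero hp1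
        nlinarith)
    obtain ⟨v, hv, rfl⟩ := hz
    have hvL : v ∈ L := hLfix.2 (QuotientGroup.eq.1 (((quot_mk φ v).symm.trans hzf).symm))
    rw [← hgenL hvL fun hh => hz1 (hσ1.2 hh)]
    exact sup_le hm.frattini_le (Subgroup.zpowers_le.2 hv)
  have hLinv : ∀ v ∈ L, φ v ∈ L := fun v hv => by
    have := L.mul_mem hv (hΦL (hLfix.1 hv))
    rwa [mul_inv_cancel_left] at this
  have hshiftDE : ∀ v : E, v⁻¹ * φ v ∈ DE := fun v =>
    SmallEssential.shift_small hEp le_top (by rw [Subgroup.relIndex_top_right, hm.index]) hk (hDEinv x)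
      (fun _ _ => Subgroup.mem_top _) (Subgroup.mem_top v)
  have hshiftL : ∀ v ∈ DE, v⁻¹ * φ v ∈ L := fun v hv => by
    refine SmallEssential.shift_small hEp hLDE ?_ hk hLinv (hDEinv x) hv
    refine le_of_eq (Nat.eq_of_mul_eq_mul_left (Nat.mul_pos hΦpos hpf.out.pos) ?_)
    calc Nat.card (frattini ↥E) * p * L.relIndex DE = Nat.card L * L.relIndex DE := by rw [hLc]
      _ = Nat.card DE := (card_of_relIndex hLDE rfl).symm
      _ = _ := by rw [hDEc, pow_two, mul_assoc]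
  -- the shift on the Frattini quotient
  let δ : E →* E ⧸ frattini ↥E := MonoidHom.mk' (fun v => σ (v⁻¹ * φ v)) fun v w => by
    show σ ((v * w)⁻¹ * φ (v * w)) = σ (v⁻¹ * φ v) * σ (w⁻¹ * φ w)
    simp only [map_mul, map_inv, mul_inv_rev]
    rw [hVc (σ w)⁻¹ (σ v)⁻¹]
    simp only [mul_assoc]
    rw [hVc (σ w)⁻¹, hVc (σ w)⁻¹ (σ (φ w))]
    simp only [mul_assoc]
  have hδker : δ.ker = L := by
    ext v
    rw [MonoidHom.mem_ker, hLfix]
    exact hσ1
  let J₀ : Subgroup E := (L.map σ).comap δ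
  have hJ₀ : ∀ v, v ∈ J₀ ↔ v⁻¹ * φ v ∈ L := fun v => by
    refine ⟨fun ⟨w, hw, he⟩ => ?_, fun hv => ⟨_, hv, rfl⟩⟩
    have h1 : w⁻¹ * (v⁻¹ * φ v) ∈ L := hΦL (QuotientGroup.eq.1 he)
    have := L.mul_mem hw h1
    rwa [mul_inv_cancel_left] at this
  have hJ₀top : J₀ ≠ ⊤ := by
    intro e
    have hr : δ.range ≤ L.map σ := by
      rintro _ ⟨v, rfl⟩
      exact (e ▸ Subgroup.mem_top v : v ∈ J₀)
    have h1 := Subgroup.card_le_of_le hr
    rw [← Subgroup.index_ker, hδker] at h1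
    have h2 : Nat.card (L.map σ) = p := by
      have h3 := Subgroup.relIndex_ker (f := σ) L
      have hk' : σ.ker = frattini ↥E := QuotientGroup.ker_mk' _
      rw [hk'] at h3
      have h4 := card_of_relIndex hΦL h3
      rw [hLc] at h4
      exact (Nat.eq_of_mul_eq_mul_left hΦpos h4).symm
    rw [h2] at h1
    have h5 := Subgroup.card_mul_index L
    rw [hLc, h.card] at h5
    have h6 : Nat.card (frattini ↥E) * p ^ 3 ≤ Nat.card (frattini ↥E) * p * p := h5.ge.trans (Nat.mul_le_mul_left _ h1)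
    rw [mul_assoc, ← pow_two] at h6
    have := (Nat.pow_le_pow_iff_right hp1).1 (Nat.le_of_mul_le_mul_left h6 hΦpos)
    omega
  have hJ₀DE : J₀ = DE := by
    refine (eq_of_index_eq (fun v hv => (hJ₀ v).2 (hshiftL v hv)) ?_).symm
    rcases (Nat.dvd_prime hpf.out).1 (hm.index ▸ Subgroup.index_dvd_of_le
      (show DE ≤ J₀ from fun v hv => (hJ₀ v).2 (hshiftL v hv))) with h1 | h1
    · exact absurd (Subgroup.index_eq_one.1 h1) hJ₀top
    · rw [h1]; exact hm.index
  set d := a⁻¹ * φ a with hd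
  have hdDE : d ∈ DE := hshiftDE a
  have hdL : d ∉ L := fun hh => haDE (hJ₀DE ▸ (hJ₀ a).2 hh)
  set l := d⁻¹ * φ d with hl
  have hlL : l ∈ L := hshiftL d hdDE
  have hlΦ : l ∉ frattini ↥E := fun hh => hdL (hLfix.2 hh)
  have hgenDE : ∀ {z : E}, z ∈ DE → z ∉ L → L ⊔ Subgroup.zpowers z = DE := by
    intro z hz hzL
    refine Subgroup.eq_of_le_of_card_ge (sup_le hLDE (Subgroup.zpowers_le.2 hz)) ?_
    have h1 := CfsgLib.Fusion.MaxClass.card_mul_le_of_lt hEp (lt_of_le_not_ge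
      (le_sup_left : L ≤ L ⊔ Subgroup.zpowers z) fun hh => hzL (hh (Subgroup.mem_sup_right (Subgroup.mem_zpowers z))))
    rw [hLc] at h1
    rw [hDEc]
    exact le_trans (le_of_eq (by ring)) h1
  -- the line is not invariant
  have hline : ∀ R : Subgroup E, frattini ↥E ≤ R → l ∈ R → (∀ α ∈ F.autGroup E, ∀ r ∈ R, α r ∈ R) → d ∈ R := by
    intro R hΦR hlR hRinv
    have hLR : L ≤ R := by
      rw [← hgenL hlL hlΦ]
      exact sup_le hΦR (Subgroup.zpowers_le.2 hlR)
    by_cases hRL : R ≤ L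
    · exfalso
      have hRe : R = L := le_antisymm hRL hLR
      subst hRe
      obtain ⟨X, _, _, ρ, act, Y₀, hρ, hinj, hY₀, hact, -⟩ := h.exists_model
      let ψ : N →* X := ρ.comp (autHom F h.le)
      have hactx : ∀ v : E, act (ψ x) (σ v) = σ (φ v) := fun v => hact _ v
      have hP : IsPGroup p ψ.range :=
        (h.hS.to_le normalizerIn_le).of_surjective ψ.rangeRestrict ψ.rangeRestrict_surjective
      have hLV : Nat.card (R.map σ) = p := by
        have h3 := Subgroup.relIndex_ker (f := σ) R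
        have hk' : σ.ker = frattini ↥E := QuotientGroup.ker_mk' _
        rw [hk'] at h3
        have h4 := card_of_relIndex hΦL h3
        rw [hLc] at h4
        exact (Nat.eq_of_mul_eq_mul_left hΦpos h4).symm
      have hmemR : ∀ {v : E}, σ v ∈ R.map σ → v ∈ R := by
        rintro v ⟨w, hw, he⟩
        have := R.mul_mem hw (hΦR (QuotientGroup.eq.1 he))
        rwa [mul_inv_cancel_left] at this
      refine line_false (by have := h.hp; omega) h.quotient_card hVc hVe act hinj hY₀ hP (t := ψ x) ⟨x, rfl⟩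
        (L := R.map σ) hLV ?_ (d := σ d) ?_ ?_ (e := σ a) ?_
      · rintro z _ ⟨v, hv, rfl⟩
        obtain ⟨α, rfl⟩ := hρ z
        exact ⟨(α : MulAut E) v, hRinv _ α.2 v hv, (hact α v).symm⟩
      · rw [hactx, ← map_inv, ← map_mul, ← hl]
        exact ⟨l, hlL, rfl⟩
      · rw [hactx, ← map_inv, ← map_mul, ← hl]
        exact fun e => hlΦ (hσ1.1 e)
      · rw [hactx, ← map_inv, ← map_mul, ← hd]
        exact fun hh => hdL (hmemR hh)
    · obtain ⟨e, he, heL⟩ := SetLike.not_le_iff_exists.1 hRL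
      have key : ∀ z ∈ R, z ∈ DE → z ∉ L → d ∈ R := fun z hz hzD hzL => by
        have : DE ≤ R := by rw [← hgenDE hzD hzL]; exact sup_le hLR (Subgroup.zpowers_le.2 hz)
        exact this hdDE
      by_cases heD : e ∈ DE
      · exact key e he heD heL
      · refine key (e⁻¹ * φ e) (R.mul_mem (inv_mem he) (hRinv _ (autHom F h.le x).2 e he)) (hshiftDE e) fun hh => ?_
        exact heD (hJ₀DE ▸ (hJ₀ e).2 hh)
  -- the intersection of the two Frattini subgroups
  set Φ' : Subgroup E := (cnj y (phi E)).subgroupOf E with hΦ'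
  set K : Subgroup E := frattini ↥E ⊓ Φ' with hK
  have hΦ'inv : ∀ n : N, ∀ v ∈ Φ', ((autHom F h.le n : F.autGroup E) : MulAut E) v ∈ Φ' := by
    intro n v hv
    rw [hΦ', Subgroup.mem_subgroupOf, mem_cnj] at hv ⊢
    rw [autHom_apply]
    obtain ⟨w, hw, he⟩ := hv
    have hn' : y⁻¹ * (n : Ω) * y ∈ N := (mem_normalizer_iff'.1 hy.2).2 _ n.2
    refine ⟨conjAut E hn'.2 w, frattini_invariant _ hw, ?_⟩
    have he' : (w : Ω) = y⁻¹ * v * y := he
    simp [he', mul_assoc]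
  have hΦ'D : Φ' ≤ DE := fun v hv => by
    rw [hDE, Subgroup.mem_subgroupOf, mem_cnj]
    rw [hΦ', Subgroup.mem_subgroupOf, mem_cnj] at hv
    exact phi_le E hv
  have hKinv : ∀ n : N, ∀ v ∈ K, ((autHom F h.le n : F.autGroup E) : MulAut E) v ∈ K := fun n v hv =>
    ⟨frattini_invariant _ hv.1, hΦ'inv n v hv.2⟩
  haveI hKn : K.Normal := ⟨fun v hv g => by
    have := hKinv ⟨(g : Ω), hEN g.2⟩ v hv
    have e : ((autHom F h.le ⟨(g : Ω), hEN g.2⟩ : F.autGroup E) : MulAut E) v = g * v * g⁻¹ :=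
      Subtype.ext (by simp)
    rwa [e] at this⟩
  have hΦ'c : Nat.card Φ' = Nat.card (frattini ↥E) := by
    rw [hΦ', Nat.card_congr (Subgroup.subgroupOfEquivOfLe hm.phi_le).toEquiv, card_cnj,
      Subgroup.card_map_of_injective E.subtype_injective]
  have hKΦ : K ≤ frattini ↥E := inf_le_left
  have hKne : K ≠ frattini ↥E := fun e => hcommE fun b c => by
    have h1 : ⁅b, c⁆ ∈ K := e.symm ▸ PGroup.Frattini.commutatorElement_mem_frattini hEp b c
    have h2 : (⁅b, c⁆ : E) ∈ Φ' := h1.2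
    rw [hΦ', Subgroup.mem_subgroupOf] at h2
    simpa [commutatorElement_def] using h2
  have hpowD : ∀ v ∈ DE, v ^ p ∈ K := fun v hv => by
    refine ⟨PGroup.Frattini.pow_mem_frattini hEp v, ?_⟩
    rw [hDE, Subgroup.mem_subgroupOf, mem_cnj] at hv
    show v ^ p ∈ Φ'
    rw [hΦ', Subgroup.mem_subgroupOf, mem_cnj]
    refine ⟨⟨_, hv⟩ ^ p, PGroup.Frattini.pow_mem_frattini hEp _, ?_⟩
    show (y⁻¹ * (v : Ω) * y) ^ p = y⁻¹ * ((v ^ p : E) : Ω) * y
    rw [Subgroup.coe_pow]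
    have := conj_pow (i := p) (a := y⁻¹) (b := (v : Ω))
    rwa [inv_inv] at this
  have hcommD : ∀ u ∈ DE, ∀ v ∈ DE, ⁅u, v⁆ ∈ K := fun u hu v hv => by
    refine ⟨PGroup.Frattini.commutatorElement_mem_frattini hEp u v, ?_⟩
    rw [hDE, Subgroup.mem_subgroupOf, mem_cnj] at hu hv
    show ⁅u, v⁆ ∈ Φ'
    rw [hΦ', Subgroup.mem_subgroupOf, mem_cnj]
    refine ⟨⁅⟨_, hu⟩, ⟨_, hv⟩⁆, PGroup.Frattini.commutatorElement_mem_frattini hEp _ _, ?_⟩
    simp [commutatorElement_def, mul_assoc]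
  have hKi : Nat.card (frattini ↥E) = Nat.card K * p := by
    refine le_antisymm ?_ ?_
    · have h1 := h.rank DE K (hKΦ.trans hm.frattini_le) hcommD hpowD
      rw [hDEc] at h1
      refine Nat.le_of_mul_le_mul_right (h1.trans (le_of_eq ?_)) (pow_pos hpf.out.pos 2)
      ring
    · have h1 := CfsgLib.Fusion.MaxClass.card_mul_le_of_lt hEp (lt_of_le_of_ne hKΦ hKne)
      rwa [mul_comm]
  have hrelK : ∀ {B : Subgroup E}, K ≤ B → Nat.card B = Nat.card (frattini ↥E) → K.relIndex B = p := by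
    intro B hKB hB
    have h1 := card_of_relIndex hKB rfl
    rw [hB, hKi] at h1
    exact (Nat.eq_of_mul_eq_mul_left Nat.card_pos h1).symm
  have hshiftΦ : ∀ (n : N), ∀ v ∈ frattini ↥E, v⁻¹ * ((autHom F h.le n : F.autGroup E) : MulAut E) v ∈ K :=
    fun n v hv => by
      obtain ⟨j, hj⟩ := h.autHom_pow n
      exact SmallEssential.shift_small hEp hKΦ (hrelK hKΦ rfl).le hj (hKinv n)
        (fun w hw => frattini_invariant _ hw) hv
  have hshiftΦ' : ∀ (n : N), ∀ v ∈ Φ', v⁻¹ * ((autHom F h.le n : F.autGroup E) : MulAut E) v ∈ K :=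
    fun n v hv => by
      obtain ⟨j, hj⟩ := h.autHom_pow n
      exact SmallEssential.shift_small hEp inf_le_right (hrelK inf_le_right hΦ'c).le hj (hKinv n) (hΦ'inv n) hv
  have hΦ'L : Φ' ≤ L := fun v hv => hLfix.2 (hKΦ (hshiftΦ' x v hv))
  let κ := QuotientGroup.mk' K
  let Z : Subgroup E := (Subgroup.center (E ⧸ K)).comap κ
  have hZ : ∀ {v : E}, (∀ g : E, ⁅v⁻¹, g⁆ ∈ K) → v ∈ Z := by
    intro v hv
    rw [Subgroup.mem_comap, Subgroup.mem_center_iff]
    intro q
    obtain ⟨g, rfl⟩ := QuotientGroup.mk'_surjective K q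
    have : κ ⁅v⁻¹, g⁆ = 1 := (QuotientGroup.eq_one_iff _).2 (hv g)
    rw [map_commutatorElement, map_inv, commutatorElement_eq_one_iff_commute, Commute.inv_left_iff] at this
    exact this.eq.symm
  have hcomm_shift : ∀ v g : E, ⁅v⁻¹, g⁆ = v⁻¹ * ((autHom F h.le ⟨(g : Ω), hEN g.2⟩ : F.autGroup E) : MulAut E) v :=
    fun v g => Subtype.ext (by simp [commutatorElement_def, mul_assoc])
  have hLZ : L ≤ Z := by
    have h1 : frattini ↥E ⊔ Φ' = L := by
      refine le_antisymm (sup_le hΦL hΦ'L) ?_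
      have h2 : frattini ↥E < frattini ↥E ⊔ Φ' := lt_of_le_not_ge le_sup_left fun hh =>
        hKne (le_antisymm hKΦ (le_inf le_rfl (Subgroup.eq_of_le_of_card_ge (le_sup_right.trans hh) hΦ'c.ge).ge))
      have h3 := CfsgLib.Fusion.MaxClass.card_mul_le_of_lt hEp h2
      exact (Subgroup.eq_of_le_of_card_ge (sup_le hΦL hΦ'L) (by rw [hLc, mul_comm]; exact h3)).ge
    rw [← h1]
    exact sup_le (fun v hv => hZ fun g => hcomm_shift v g ▸ hshiftΦ _ v hv)
      (fun v hv => hZ fun g => hcomm_shift v g ▸ hshiftΦ' _ v hv)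
  have hZK : ∀ v ∈ Z, ∀ g : E, ⁅v, g⁆ ∈ K := fun v hv g => by
    rw [← QuotientGroup.eq_one_iff (N := K)]
    show κ _ = 1
    rw [map_commutatorElement, commutatorElement_eq_one_iff_mul_comm]
    exact ((Subgroup.mem_center_iff.1 hv) _).symm
  have had : ⁅a, d⁆ ∉ K := by
    intro had
    have hgenE : Subgroup.zpowers a ⊔ DE = ⊤ := by
      refine Subgroup.index_eq_one.1 (((Nat.dvd_prime hpf.out).1
        (hm.index ▸ Subgroup.index_dvd_of_le le_sup_right)).resolve_right fun e => ?_)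
      exact haDE ((eq_of_index_eq (le_sup_right : DE ≤ Subgroup.zpowers a ⊔ DE) (hm.index.trans e.symm)).ge
        (Subgroup.mem_sup_left (Subgroup.mem_zpowers a)))
    have hada : Commute (κ a) (κ d) := by
      rw [← commutatorElement_eq_one_iff_commute, ← map_commutatorElement]
      exact (QuotientGroup.eq_one_iff _).2 had
    have hcen : ∀ v : E, κ v ∈ Subgroup.centralizer {κ a} → κ v ∈ Subgroup.centralizer {κ d} → v ∈ Z := by
      intro v hva hvd
      have hle : (⊤ : Subgroup E) ≤ (Subgroup.centralizer {κ v}).comap κ := by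
        rw [← hgenE, ← hgenDE hdDE hdL]
        refine sup_le (Subgroup.zpowers_le.2 ?_) (sup_le (fun w hw => ?_) (Subgroup.zpowers_le.2 ?_))
        · rw [Subgroup.mem_comap, Subgroup.mem_centralizer_iff]
          simp only [Set.mem_singleton_iff, forall_eq]
          exact (Subgroup.mem_centralizer_iff.1 hva _ rfl).symm
        · rw [Subgroup.mem_comap, Subgroup.mem_centralizer_iff]
          simp only [Set.mem_singleton_iff, forall_eq]
          exact Subgroup.mem_center_iff.1 (hLZ hw) _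
        · rw [Subgroup.mem_comap, Subgroup.mem_centralizer_iff]
          simp only [Set.mem_singleton_iff, forall_eq]
          exact (Subgroup.mem_centralizer_iff.1 hvd _ rfl).symm
      rw [Subgroup.mem_comap, Subgroup.mem_center_iff]
      intro q
      obtain ⟨g, rfl⟩ := QuotientGroup.mk'_surjective K q
      exact (Subgroup.mem_centralizer_iff.1 (hle (Subgroup.mem_top g)) _ rfl).symm
    have haZ : a ∈ Z := hcen a (Subgroup.mem_centralizer_iff.2 (by simp))
      (Subgroup.mem_centralizer_iff.2 (by simpa using hada.symm.eq))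
    have hdZ : d ∈ Z := hcen d (Subgroup.mem_centralizer_iff.2 (by simpa using hada.eq))
      (Subgroup.mem_centralizer_iff.2 (by simp))
    have hZtop : (⊤ : Subgroup E) ≤ Z := by
      rw [← hgenE, ← hgenDE hdDE hdL]
      exact sup_le (Subgroup.zpowers_le.2 haZ) (sup_le hLZ (Subgroup.zpowers_le.2 hdZ))
    refine hcommE fun b c => ?_
    have h2 : (⁅b, c⁆ : E) ∈ Φ' := (hZK b (hZtop (Subgroup.mem_top b)) c).2
    rw [hΦ', Subgroup.mem_subgroupOf] at h2
    simpa [commutatorElement_def] using h2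
  -- the `p`-th power of the outer element
  set B := E.subgroupOf N with hB
  haveI : B.Normal := ⟨fun v hv n => (mem_normalizer_iff'.1 n.2.2).1 _ hv⟩
  have hBidx : B.index = p := by
    have h1 := Subgroup.card_mul_index B
    rw [Nat.card_congr (Subgroup.subgroupOfEquivOfLe hEN).toEquiv, hcard, mul_comm p] at h1
    exact Nat.eq_of_mul_eq_mul_left Nat.card_pos h1
  have hxpE : ((x : Ω) ^ p) ∈ E := by
    have := Subgroup.pow_index_mem B x
    rwa [hBidx, hB, Subgroup.mem_subgroupOf, Subgroup.coe_pow] at this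
  set xp : E := ⟨_, hxpE⟩ with hxp
  have hxpL : xp ∈ L := by
    rw [hLfix]
    have : φ xp = xp := Subtype.ext (by
      rw [hφ, autHom_apply, hxp]
      show (x : Ω) * (x : Ω) ^ p * (x : Ω)⁻¹ = (x : Ω) ^ p
      rw [← pow_succ', pow_succ, mul_inv_cancel_right])
    rw [this, inv_mul_cancel]
    exact one_mem _
  obtain ⟨m, f₀, hf₀, hm0⟩ : ∃ m : ℤ, ∃ f₀ ∈ frattini ↥E, xp = l ^ m * f₀ := by
    rw [← hgenL hlL hlΦ] at hxpL
    obtain ⟨f, hf, z, hz, hfz⟩ := Subgroup.mem_sup_of_normal_left.1 hxpL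
    obtain ⟨m, rfl⟩ := Subgroup.mem_zpowers_iff.1 hz
    exact ⟨m, (l ^ m)⁻¹ * f * l ^ m, by
      have := (inferInstance : (frattini ↥E).Normal).conj_mem f hf (l ^ m)⁻¹
      rwa [inv_inv] at this, by rw [← hfz]; group⟩
  have hpow : ∀ g, (φ ^ p) g = l ^ m * f₀ * g * (l ^ m * f₀)⁻¹ := fun g => by
    rw [← hm0]
    apply Subtype.ext
    rw [hφ, ← Subgroup.coe_pow, ← map_pow, autHom_apply]
    simp [hxp]
  obtain ⟨hm', hreg⟩ := regular_pow hEp h.hp h.hrk h.rank (A := F.autGroup E) hk (a := a) (d := d) (l := l)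
    (by rw [hd, mul_inv_cancel_left]) (by rw [hl, mul_inv_cancel_left]) (hLfix.1 hlL) hlΦ hline hKΦ hKi
    (fun f hf g => hZK f (hLZ (hΦL hf)) g) (fun g => hZK l (hLZ hlL) g) (hpowD d hdDE) (hpowD l (hLDE hlL))
    had hf₀ hpow
  -- the conjugate relation
  have hxd : σ (φ d * d⁻¹) = σ l := by
    rw [hl, map_mul σ (φ d), map_mul σ d⁻¹, hVc]
  have hrel : xp * ((φ d * d⁻¹) ^ m)⁻¹ ∈ frattini ↥E := by
    rw [← hσ1, map_mul σ xp, map_inv, map_zpow, hxd, hm0, map_mul σ (l ^ m), map_zpow, hσ1.2 hf₀, mul_one,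
      mul_inv_cancel]
  set z := y * a₀ * y⁻¹ with hz
  have hzN : z ∈ N := hm.le ⟨a₀, ha₀E, rfl⟩
  set d' := y * (d : Ω) * y⁻¹ with hd'
  have hd'eq : d' = z⁻¹ * a₀ * z * a₀⁻¹ := by
    rw [hd', hz]
    simp [hd, hφ, x, a, mul_assoc]
  have hd'E : d' ∈ E := by
    rw [hd'eq]
    refine E.mul_mem ?_ (inv_mem ha₀E)
    exact (mem_normalizer_iff'.1 hzN.2).2 _ ha₀E
  have hd'D : d' ∈ cnj y E := ⟨d, d.2, rfl⟩
  set d1 : E := ⟨d', hd'E⟩ with hd1
  have hd1D : d1 ∈ DE := hd'D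
  have hcxd : y * ((φ d * d⁻¹ : E) : Ω) * y⁻¹ = ((⁅a, d1⁆ : E) : Ω) := by
    simp [hφ, x, a, hd1, hd', commutatorElement_def, mul_assoc]
  have hxpy : y * (xp : Ω) * y⁻¹ = a₀ ^ p := by
    show y * ((x : Ω) ^ p) * y⁻¹ = _
    rw [← conj_pow]
    congr 1
    simp [x, mul_assoc]
  have hrel' : a ^ p * (⁅a, d1⁆ ^ m)⁻¹ ∈ K := by
    refine ⟨(frattini ↥E).mul_mem (PGroup.Frattini.pow_mem_frattini hEp a)
      (inv_mem ((frattini ↥E).zpow_mem (PGroup.Frattini.commutatorElement_mem_frattini hEp a d1) m)), ?_⟩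
    show _ ∈ Φ'
    rw [hΦ', Subgroup.mem_subgroupOf]
    have h1 : y * ((xp * ((φ d * d⁻¹) ^ m)⁻¹ : E) : Ω) * y⁻¹ ∈ cnj y (phi E) := ⟨_, ⟨_, hrel, rfl⟩, rfl⟩
    convert h1 using 1
    rw [Subgroup.coe_mul, Subgroup.coe_mul, Subgroup.coe_inv, Subgroup.coe_inv, SubgroupClass.coe_zpow,
      SubgroupClass.coe_zpow, Subgroup.coe_pow, ← hcxd, conj_zpow, ← hxpy]
    show y * (xp : Ω) * y⁻¹ * _ = _
    group
  -- `y` moves `d` inside its coset of the line
  set D := E ⊓ cnj y E with hD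
  haveI : Finite D := finite_of_le_base (inf_le_left.trans h.le)
  set LΩ := L.map E.subtype with hLΩ
  have hLΩD : LΩ ≤ D := by
    rintro _ ⟨v, hv, rfl⟩
    exact ⟨v.2, hLDE hv⟩
  have hyL : ∀ v ∈ LΩ, y * v * y⁻¹ ∈ LΩ := by
    have hle : L ≤ (LΩ.comap (MulAut.conj y).toMonoidHom).comap E.subtype := by
      rw [← hgenL hlL hlΦ]
      refine sup_le (fun v hv => ?_) (Subgroup.zpowers_le.2 ?_)
      · have h1 : y * (v : Ω) * y⁻¹ ∈ cnj y (phi E) := ⟨_, mem_phi.2 hv, rfl⟩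
        exact ⟨⟨_, hm.phi_le h1⟩, hΦ'L h1, rfl⟩
      · obtain ⟨f, hf, hlf⟩ : ∃ f ∈ frattini ↥E, l = (φ d * d⁻¹) * f := ⟨_, QuotientGroup.eq.1 hxd,
          (mul_inv_cancel_left _ _).symm⟩
        have h1 : y * (f : Ω) * y⁻¹ ∈ cnj y (phi E) := ⟨_, mem_phi.2 hf, rfl⟩
        refine ⟨⁅a, d1⁆ * ⟨_, hm.phi_le h1⟩, L.mul_mem
          (hΦL (PGroup.Frattini.commutatorElement_mem_frattini hEp _ _)) (hΦ'L h1), ?_⟩
        show ((⁅a, d1⁆ * ⟨_, hm.phi_le h1⟩ : E) : Ω) = y * (l : Ω) * y⁻¹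
        rw [hlf, Subgroup.coe_mul, Subgroup.coe_mul, ← hcxd]
        group
    rintro _ ⟨v, hv, rfl⟩
    exact hle hv
  have hyD : ∀ v ∈ D, y * v * y⁻¹ ∈ D := by
    have hle : DE ≤ (D.comap (MulAut.conj y).toMonoidHom).comap E.subtype := by
      rw [← hgenDE hdDE hdL]
      exact sup_le (fun v hv => hLΩD (hyL _ ⟨v, hv, rfl⟩)) (Subgroup.zpowers_le.2 ⟨hd'E, hd'D⟩)
    intro v hv
    exact hle (show (⟨v, hv.1⟩ : E) ∈ DE from hv.2)
  have hyDn : y ∈ Subgroup.normalizer (D : Set Ω) := mem_normalizer_of_map_le hyD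
  haveI hLDn : (LΩ.subgroupOf D).Normal := ⟨fun v hv g => by
    obtain ⟨w, hw, he⟩ := hv
    exact ⟨⟨(g : Ω), g.2.1⟩ * w * ⟨(g : Ω), g.2.1⟩⁻¹, hLn.conj_mem w hw _, by
      have he' : (w : Ω) = ((v : D) : Ω) := he
      simp [he']⟩⟩
  have hshift : (⟨(d : Ω), ⟨d.2, hdDE⟩⟩ : D)⁻¹ * conjAut D hyDn ⟨(d : Ω), ⟨d.2, hdDE⟩⟩ ∈ LΩ.subgroupOf D := by
    obtain ⟨j, hj⟩ := h.hS ⟨y, hy.1⟩
    refine SmallEssential.shift_small (h.hS.to_le (inf_le_left.trans h.le)) le_top ?_ (k := j) ?_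
      (fun v hv => hyL _ hv) (fun _ _ => Subgroup.mem_top _) (Subgroup.mem_top _)
    · rw [Subgroup.relIndex_top_right]
      have h1 := Subgroup.card_mul_index (LΩ.subgroupOf D)
      have hDc : Nat.card D = Nat.card DE := by
        rw [← Subgroup.card_map_of_injective (K := DE) E.subtype_injective, hDE,
          Subgroup.subgroupOf_map_subtype, inf_comm]
      rw [Nat.card_congr (Subgroup.subgroupOfEquivOfLe hLΩD).toEquiv,
        Subgroup.card_map_of_injective E.subtype_injective, hLc, hDc, hDEc, pow_two, ← mul_assoc] at h1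
      exact (Nat.eq_of_mul_eq_mul_left (Nat.mul_pos hΦpos hpf.out.pos) h1).le
    · rw [conjAut, ← map_pow, show (⟨y, hyDn⟩ : Subgroup.normalizer (D : Set Ω)) ^ p ^ j = 1 from
        Subtype.ext (by simpa using congrArg Subtype.val hj), map_one]
  obtain ⟨l₀, hl₀, hl₀e⟩ := hshift
  have hd1eq : d1 = d * l₀ := Subtype.ext (by
    have he : (l₀ : Ω) = (d : Ω)⁻¹ * d' := hl₀e.trans (by simp [hd'])
    rw [Subgroup.coe_mul, he, mul_inv_cancel_left])
  -- contradiction
  have hκd1 : κ ⁅a, d1⁆ = κ ⁅a, d⁆ := by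
    rw [hd1eq, map_commutatorElement, map_mul κ d]
    have hc : ∀ q, Commute (κ l₀) q := fun q => ((Subgroup.mem_center_iff.1 (hLZ hl₀)) q).symm
    rw [map_commutatorElement κ a d, mul_commutator_right fun q => by
        rw [commutatorElement_eq_one_iff_commute.2 (hc (κ a)).symm]; exact Commute.one_left q,
      commutatorElement_eq_one_iff_commute.2 (hc (κ a)).symm, mul_one]
  have e1 : κ (a ^ p) * κ ⁅a, d⁆ ^ m = 1 := by
    rw [← map_zpow, ← map_mul]; exact (QuotientGroup.eq_one_iff _).2 hreg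
  have e2 : κ (a ^ p) * (κ ⁅a, d⁆ ^ m)⁻¹ = 1 := by
    rw [← hκd1, ← map_zpow, ← map_inv, ← map_mul]; exact (QuotientGroup.eq_one_iff _).2 hrel'
  have e3 : κ ⁅a, d⁆ ^ (m + m) = 1 := by
    rw [zpow_add]
    calc κ ⁅a, d⁆ ^ m * κ ⁅a, d⁆ ^ m = κ ⁅a, d⁆ ^ m * κ (a ^ p) := by rw [mul_inv_eq_one.1 e2]
      _ = (κ (a ^ p))⁻¹ * κ (a ^ p) := by rw [eq_inv_of_mul_eq_one_right e1]
      _ = 1 := inv_mul_cancel _
  refine had (mem_of_zpow_mem (p := p) (i := m + m) ?_ ((QuotientGroup.eq_one_iff _).1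
    (by show κ _ = 1; rw [map_zpow]; exact e3)) ?_)
  · have hi : (K.subgroupOf (frattini ↥E)).index = p := hrelK hKΦ rfl
    have h1 := Subgroup.pow_index_mem (K.subgroupOf (frattini ↥E))
      ⟨⁅a, d⁆, PGroup.Frattini.commutatorElement_mem_frattini hEp a d⟩
    rwa [hi, Subgroup.mem_subgroupOf] at h1
  · rw [Int.cast_add, ← two_mul]
    refine mul_ne_zero ?_ hm'
    have h5 := h.hp
    intro e
    have : ((2 : ℕ) : ZMod p) = 0 := by exact_mod_cast e
    have := Nat.le_of_dvd two_pos ((ZMod.natCast_eq_zero_iff _ _).1 this)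
    omega

end CfsgLib.Fsys.RankThree
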