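import Cfsg.Agent.Lib.FusionSystem.EssentialCube
import Cfsg.Agent.Lib.FusionSystem.RankThree.Tools

/-! Extending a map along a series reaching the Frattini subgroup. -/

set_option autoImplicit false
set_option linter.unusedSectionVars false
set_option linter.style.haveILetI false

open Cfsg Cfsg.FusionSystem
open CfsgLib.PGroup.FrattiniAct (quot quot_mk eq_one_of_quot)

namespace CfsgLib.Fsys.RankThree

variable {Ω : Type*} [Group Ω] {S : Subgroup Ω} [Finite S] {p : ℕ} [hp : Fact p.Prime] {F : FusionSystem S}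

theorem extend_series (hS : IsPGroup p S) (hF : F.IsSaturated p) {M : Subgroup Ω} (hM : F.IsFullyNormalized M)
    {f : Ω → Ω} (hf : Fn F M f)
    (hfM : ∀ x ∈ M, f x ∈ M) (D : ℕ → Subgroup Ω) (m : ℕ) (h0 : D 0 = M)
    (hm : D m ≤ (frattini ↥M).map M.subtype) (hle : ∀ k, D k ≤ M)
    (hinv : ∀ k, k ≤ m → ∀ x ∈ D k, f x ∈ D k)
    (hstep : ∀ y ∈ normalizerIn S M, ∀ k, k < m → ∀ x ∈ D k, x⁻¹ * (y * x * y⁻¹) ∈ D (k + 1))
    (hanti : ∀ k, k < m → D (k + 1) ≤ D k) :
    ∃ g : Ω → Ω, Fn F (normalizerIn S M) g ∧ (∀ y ∈ normalizerIn S M, g y ∈ normalizerIn S M) ∧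
      ∀ x ∈ M, g x = f x := by
  haveI := finite_of_le_base hM.1
  obtain ⟨α, hα, hαf⟩ := exists_aut_of_fn hf (hf.img_eq_self hfM)
  let St : Subgroup (MulAut M) :=
    { carrier := {a | ∀ k, k < m → ∀ x : M, (x : Ω) ∈ D k → (x : Ω)⁻¹ * (a x : Ω) ∈ D (k + 1)}
      one_mem' := fun k _ x _ => by simp
      mul_mem' := fun {a b} ha hb k hk x hx => by
        have h1 := hb k hk x hx
        have hbx : ((b x : M) : Ω) ∈ D k := by
          have := (D k).mul_mem hx (hanti k hk h1)
          rwa [mul_inv_cancel_left] at this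
        have h2 := (D (k + 1)).mul_mem h1 (ha k hk (b x) hbx)
        rwa [mul_assoc, mul_inv_cancel_left] at h2
      inv_mem' := fun {a} ha k hk x hx => by
        have hiter : ∀ j : ℕ, ∀ x : M, (x : Ω) ∈ D k → (x : Ω)⁻¹ * ((a ^ j) x : Ω) ∈ D (k + 1) := fun j => by
          induction j with
          | zero => intro x _; simp
          | succ j ih =>
            intro x hx
            rw [pow_succ, MulAut.mul_apply]
            have h1 := ha k hk x hx
            have hax : ((a x : M) : Ω) ∈ D k := by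
              have := (D k).mul_mem hx (hanti k hk h1)
              rwa [mul_inv_cancel_left] at this
            have h2 := (D (k + 1)).mul_mem h1 (ih (a x) hax)
            rwa [mul_assoc, mul_inv_cancel_left] at h2
        rw [inv_eq_of_mul_eq_one_left (by rw [← pow_succ, Nat.sub_add_cancel (orderOf_pos a), pow_orderOf_eq_one] :
          a ^ (orderOf a - 1) * a = 1)]
        exact hiter _ x hx }
  have hMp : IsPGroup p M := hS.to_le hM.1
  have hStp : IsPGroup p St := isPGroup_of_forall_coprime fun a ha => by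
    have hco : (orderOf (a : MulAut M)).Coprime p := by rwa [Subgroup.orderOf_coe]
    have hco' : (orderOf (quot (a : MulAut M))).Coprime p := hco.coprime_dvd_left (orderOf_map_dvd quot _)
    have hfix : ∀ j, j ≤ m → ∀ x : M, (x : Ω) ∈ D (m - j) →
        quot (a : MulAut M) (x : M ⧸ frattini ↥M) = (x : M ⧸ frattini ↥M) := by
      intro j
      induction j with
      | zero =>
        intro _ x hx
        rw [Nat.sub_zero] at hx
        obtain ⟨y, hy, he⟩ := hm hx
        rw [← M.subtype_injective he, (QuotientGroup.eq_one_iff y).2 hy, map_one]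
      | succ j ih =>
        intro hj x hx
        refine fixed_of_fixed_shift (hMp.to_quotient _) hco' ?_
        have h1 := a.2 (m - (j + 1)) (by omega) x hx
        rw [show m - (j + 1) + 1 = m - j by omega] at h1
        have := ih (by omega) (x⁻¹ * (a : MulAut M) x) h1
        rwa [QuotientGroup.mk_mul, QuotientGroup.mk_inv, ← quot_mk] at this
    refine Subtype.ext (eq_one_of_quot hMp hco (MulEquiv.ext fun q => ?_))
    obtain ⟨x, rfl⟩ := QuotientGroup.mk'_surjective (frattini ↥M) q
    exact hfix m le_rfl x (by rw [Nat.sub_self, h0]; exact x.2)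
  have hStS : autInducedBy S M ≤ St := fun c hc k hk x hx => by
    obtain ⟨y, hy, hyc⟩ := mem_autInducedBy.1 hc
    rw [hyc x]
    exact hstep y ⟨hy, mem_normalizer_of_autEq hyc⟩ k hk x hx
  obtain ⟨-, R, hR⟩ := (fullyNormalized_good hS hF hM).1
  have hP0 : IsPGroup p (St.subgroupOf (F.autGroup M)) :=
    hStp.comap_of_injective _ (Subgroup.subtype_injective _)
  have hmax : St.subgroupOf (F.autGroup M) = (R : Subgroup (F.autGroup M)) :=
    R.3 hP0 (hR.le.trans fun a ha => hStS ha)
  have hconj : ∀ c ∈ autInducedBy S M, α * c * α⁻¹ ∈ autInducedBy S M := fun c hc => by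
    have hcA : α * c * α⁻¹ ∈ F.autGroup M :=
      mul_mem (mul_mem hα (autInducedBy_le_autGroup hM.1 hc)) (inv_mem hα)
    have hmem : α * c * α⁻¹ ∈ St := fun k hk x hx => by
      haveI : Finite (D k) := finite_of_le_base ((hle k).trans hM.1)
      have hpre : ((α⁻¹ x : M) : Ω) ∈ D k := by
        let g : D k → D k := fun d => ⟨f d, hinv k hk.le d d.2⟩
        have hg : Function.Injective g := fun d e hde =>
          Subtype.ext (hf.inj (hle k d.2) (hle k e.2) (congrArg Subtype.val hde))
        obtain ⟨d, hd⟩ := Finite.surjective_of_injective hg ⟨(x : Ω), hx⟩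
        have : α⁻¹ x = ⟨d, hle k d.2⟩ := α.injective (Subtype.ext (by
          rw [MulAut.apply_inv_self, hαf]
          exact (congrArg Subtype.val hd).symm))
        rw [this]
        exact d.2
      have h1 := hStS hc k hk (α⁻¹ x) hpre
      have h2 := hinv (k + 1) hk _ h1
      have e : ((α * c * α⁻¹) x : M) = α (c (α⁻¹ x)) := rfl
      rw [hf.map_mul (M.inv_mem (α⁻¹ x).2) (c (α⁻¹ x)).2, hf.map_inv (α⁻¹ x).2, ← hαf, ← hαf,
        MulAut.apply_inv_self] at h2
      exact h2
    have : (⟨_, hcA⟩ : F.autGroup M) ∈ St.subgroupOf (F.autGroup M) := hmem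
    rw [hmax, hR] at this
    exact this
  obtain ⟨N, g, hg, hMN, hN, hge⟩ :=
    receptive_extend (fullyNormalized_receptive hS hF hM) hf (hf.img_eq_self hfM)
  have hle' : normalizerIn S M ≤ N := fun y hy => by
    refine (hN y).2 ⟨hy.1, hy.2, ?_⟩
    obtain ⟨h, hh, he⟩ := mem_autInducedBy.1 (hconj _ (conjAut_mem_autInducedBy hy.2 hy.1))
    refine ⟨h, hh, fun x hx => ?_⟩
    have := he (α ⟨x, hx⟩)
    rw [MulAut.mul_apply, MulAut.mul_apply, MulAut.inv_apply_self, hαf, hαf, conjAut_coe] at this
    exact this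
  exact ⟨g, hg.mono hle', fun y hy => hg.map_normalizer hMN
    ((img_congr hge).trans (hf.img_eq_self hfM)) (hle' hy) hy.2, hge⟩

end CfsgLib.Fsys.RankThree
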