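import Cfsg.Agent.Lib.FusionSystem.RankThree.FrameAlg
import Cfsg.Agent.Lib.Fusion.MaxClass

/-! No element outside the frame is moved compatibly with a torus. -/

set_option autoImplicit false
set_option linter.unusedSectionVars false
set_option linter.style.haveILetI false
set_option maxHeartbeats 800000

open scoped commutatorElement

namespace CfsgLib.Fsys.RankThree

variable {Q : Type*} [Group Q] {p : ℕ} [hp : Fact p.Prime] {N : Subgroup Q} {X U V W : Q}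

namespace Frame

variable (D : Frame p N X U V W)
include D

theorem mul_eq (i k j l i' k' j' l' : ℤ) :
    X ^ i * U ^ k * V ^ j * W ^ l * (X ^ i' * U ^ k' * V ^ j' * W ^ l') =
      X ^ (i + i') * U ^ (k + k') * V ^ (j + j' - i' * k) * W ^ (l + l') := by
  have hV : ∀ s a b : ℤ, Commute (V ^ s) (X ^ a * U ^ b) := fun s a b =>
    ((D.xv.zpow_zpow a s).symm).mul_right ((D.uv.zpow_zpow b s).symm)
  have hW : ∀ s a b c : ℤ, Commute (W ^ s) (X ^ a * U ^ b * V ^ c) := fun s a b c =>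
    (((D.xw.zpow_zpow a s).symm).mul_right ((D.uw.zpow_zpow b s).symm)).mul_right ((D.vw.zpow_zpow c s).symm)
  calc X ^ i * U ^ k * V ^ j * W ^ l * (X ^ i' * U ^ k' * V ^ j' * W ^ l')
      = X ^ i * U ^ k * V ^ j * (W ^ l * (X ^ i' * U ^ k' * V ^ j')) * W ^ l' := by group
    _ = X ^ i * U ^ k * (V ^ j * (X ^ i' * U ^ k')) * V ^ j' * (W ^ l * W ^ l') := by rw [(hW l i' k' j').eq]; group
    _ = X ^ i * (U ^ k * X ^ i') * U ^ k' * (V ^ j * V ^ j') * (W ^ l * W ^ l') := by rw [(hV j i' k').eq]; group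
    _ = X ^ i * X ^ i' * U ^ k * (V ^ (-(i' * k)) * U ^ k') * (V ^ j * V ^ j') * (W ^ l * W ^ l') := by
      rw [D.swap]; group
    _ = _ := by
      rw [((D.uv.zpow_zpow k' (-(i' * k))).symm).eq, ← zpow_add, ← zpow_add, ← zpow_add]
      calc X ^ (i + i') * U ^ k * (U ^ k' * V ^ (-(i' * k))) * V ^ (j + j') * W ^ (l + l')
          = X ^ (i + i') * (U ^ k * U ^ k') * (V ^ (-(i' * k)) * V ^ (j + j')) * W ^ (l + l') := by group
        _ = _ := by rw [← zpow_add, ← zpow_add, show -(i' * k) + (j + j') = j + j' - i' * k by ring]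

theorem eq_iff {i k j l i' k' j' l' : ℤ}
    (h : X ^ i * U ^ k * V ^ j * W ^ l = X ^ i' * U ^ k' * V ^ j' * W ^ l') :
    (i : ZMod p) = i' ∧ (k : ZMod p) = k' ∧ (j : ZMod p) = j' ∧ (l : ZMod p) = l' := by
  have e := D.mul_eq i' k' j' l' (i - i') (k - k') (j - j' + (i - i') * k') (l - l')
  simp only [add_sub_cancel] at e
  rw [show j' + (j - j' + (i - i') * k') - (i - i') * k' = j by ring, h] at e
  obtain ⟨h1, h2, h3, h4⟩ := D.ind _ _ _ _ (mul_eq_left.1 e)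
  push_cast at h1 h2 h3 h4
  rw [h1, zero_mul, add_zero] at h3
  rw [sub_eq_zero] at h1 h2 h3 h4
  exact ⟨h1, h2, h3, h4⟩

theorem zpow_mem_frame (i k j l : ℤ) : X ^ i * U ^ k * V ^ j * W ^ l ∈ N :=
  N.mul_mem (N.mul_mem (N.mul_mem (N.zpow_mem D.memX i) (N.zpow_mem D.memU k)) (N.zpow_mem D.memV j))
    (N.zpow_mem D.memW l)

/-- The exponent homomorphism. -/
theorem exists_coord : ∃ χ : N →* Multiplicative (ZMod p × ZMod p × ZMod p),
    ∀ (q : N) (i k j l : ℤ), (q : Q) = X ^ i * U ^ k * V ^ j * W ^ l →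
      χ q = Multiplicative.ofAdd ((i : ZMod p), (k : ZMod p), (l : ZMod p)) := by
  classical
  choose ci ck cj cl hc using D.gen
  let f : N → Multiplicative (ZMod p × ZMod p × ZMod p) := fun q =>
    Multiplicative.ofAdd ((ci q q.2 : ZMod p), (ck q q.2 : ZMod p), (cl q q.2 : ZMod p))
  have hf : ∀ (q : N) (i k j l : ℤ), (q : Q) = X ^ i * U ^ k * V ^ j * W ^ l →
      f q = Multiplicative.ofAdd ((i : ZMod p), (k : ZMod p), (l : ZMod p)) := fun q i k j l hq => by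
    obtain ⟨h1, h2, -, h4⟩ := D.eq_iff ((hc q q.2).symm.trans hq)
    simp only [f, h1, h2, h4]
  refine ⟨MonoidHom.mk' f fun q r => ?_, hf⟩
  rw [hf (q * r) _ _ _ _ (by rw [Subgroup.coe_mul, hc q q.2, hc r r.2, D.mul_eq]),
    hf q _ _ _ _ (hc q q.2), hf r _ _ _ _ (hc r r.2), ← ofAdd_add]
  simp

theorem conj_X (i k j l : ℤ) :
    X ^ i * U ^ k * V ^ j * W ^ l * X * (X ^ i * U ^ k * V ^ j * W ^ l)⁻¹ = X * V ^ (-k) := by
  rw [mul_inv_eq_iff_eq_mul]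
  have e1 := D.mul_eq i k j l 1 0 0 0
  have e2 := D.mul_eq 1 0 (-k) 0 i k j l
  simp only [zpow_one, zpow_zero, mul_one, one_mul, add_zero, zero_add, sub_zero, mul_zero] at e1 e2
  rw [e1, e2, add_comm i 1, show j - k = -k + j by ring]

theorem conj_U_zpow (i k j l b : ℤ) :
    X ^ i * U ^ k * V ^ j * W ^ l * U ^ b * (X ^ i * U ^ k * V ^ j * W ^ l)⁻¹ = U ^ b * V ^ (i * b) := by
  rw [mul_inv_eq_iff_eq_mul]
  have e1 := D.mul_eq i k j l 0 b 0 0
  have e2 := D.mul_eq 0 b (i * b) 0 i k j l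
  simp only [zpow_zero, mul_one, one_mul, add_zero, zero_add, sub_zero, zero_mul] at e1 e2
  rw [e1, e2, add_comm k b, show i * b + j - i * b = j by ring]

end Frame

variable {a b q₀ r₀ : ℤ} {g : Q →* Q}

/-- The first consequences for an element moving `U` by `X`. -/
theorem frame_step [Finite Q] (hab : ((a * b : ℤ) : ZMod p) = 1) (ha2 : (a : ZMod p) ^ 2 ≠ 1)
    (ha5 : (a : ZMod p) ^ 5 ≠ 1) (D : Frame p N X U V W) {Y : Q}
    (hyu : ∃ j l : ℤ, Y * U * Y⁻¹ = U * X * V ^ j * W ^ l) (hyx : ∃ j l : ℤ, Y * X * Y⁻¹ = X * V ^ j * W ^ l)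
    (hyw : ∃ j : ℤ, Y * W * Y⁻¹ = W * V ^ j) (hyv : Commute Y V)
    (hgU : g U = U ^ b) (hgV : g V = V ^ a) (hgW : g W = W) (hgX : g X = X ^ (a * a) * V ^ q₀ * W ^ r₀)
    {n : ℕ} {ν : Q} (hν : ν ∈ N) (hgY : g Y = Y ^ n * ν) :
    (n : ZMod p) = (a : ZMod p) ^ 3 ∧ Commute Y W ∧ ∃ i : ℤ, Y * X * Y⁻¹ = X * V ^ i := by
  classical
  obtain ⟨ju, lu, hyu⟩ := hyu
  obtain ⟨jx, lx, hyx⟩ := hyx
  obtain ⟨jw, hyw⟩ := hyw
  obtain ⟨χ, hχ⟩ := D.exists_coord
  rw [Int.cast_mul] at hab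
  have hz : ∀ (q r : Q) (m : ℤ), Commute q r → Commute q (r ^ m) := fun q r m h => h.zpow_right m
  -- conjugation by `Y`
  have hconj : ∀ i k j l : ℤ, Y * (X ^ i * U ^ k * V ^ j * W ^ l) * Y⁻¹ =
      (X * V ^ jx * W ^ lx) ^ i * (U * X * V ^ ju * W ^ lu) ^ k * V ^ j * (W * V ^ jw) ^ l := by
    intro i k j l
    calc Y * (X ^ i * U ^ k * V ^ j * W ^ l) * Y⁻¹
        = Y * X ^ i * Y⁻¹ * (Y * U ^ k * Y⁻¹) * (Y * V ^ j * Y⁻¹) * (Y * W ^ l * Y⁻¹) := by group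
      _ = _ := by rw [← conj_zpow (a := Y) (b := X), ← conj_zpow (a := Y) (b := U), ← conj_zpow (a := Y) (b := W), hyx, hyu, hyw, (hz Y V j hyv).eq,
          mul_inv_cancel_right]
  have hmX : X * V ^ jx * W ^ lx ∈ N :=
    N.mul_mem (N.mul_mem D.memX (N.zpow_mem D.memV _)) (N.zpow_mem D.memW _)
  have hmU : U * X * V ^ ju * W ^ lu ∈ N :=
    N.mul_mem (N.mul_mem (N.mul_mem D.memU D.memX) (N.zpow_mem D.memV _)) (N.zpow_mem D.memW _)
  have hmW : W * V ^ jw ∈ N := N.mul_mem D.memW (N.zpow_mem D.memV _)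
  have hchi1 : χ ⟨_, hmX⟩ = Multiplicative.ofAdd ((1 : ZMod p), (0 : ZMod p), (lx : ZMod p)) := by
    rw [hχ ⟨_, hmX⟩ 1 0 jx lx (by simp)]
    simp
  have hchi2 : χ ⟨_, hmU⟩ = Multiplicative.ofAdd ((1 : ZMod p), (1 : ZMod p), (lu : ZMod p)) := by
    have e := D.mul_eq 0 1 0 0 1 0 ju lu
    simp only [zpow_zero, zpow_one, mul_one, one_mul, zero_add, add_zero] at e
    rw [show U * (X * V ^ ju * W ^ lu) = U * X * V ^ ju * W ^ lu by group] at e
    rw [hχ ⟨_, hmU⟩ 1 1 (ju - 1) lu (e.trans (by simp))]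
    simp
  have hchi3 : χ ⟨_, hmW⟩ = Multiplicative.ofAdd ((0 : ZMod p), (0 : ZMod p), (1 : ZMod p)) := by
    rw [hχ ⟨_, hmW⟩ 0 0 jw 1 (by simp [(hz W V jw D.vw.symm).eq])]
    simp
  -- its effect on the first two exponents
  have hY1 : ∀ q ∈ N, ∃ hq' : Y * q * Y⁻¹ ∈ N, ∀ hq : q ∈ N,
      (Multiplicative.toAdd (χ ⟨_, hq'⟩)).1 =
          (Multiplicative.toAdd (χ ⟨q, hq⟩)).1 + (Multiplicative.toAdd (χ ⟨q, hq⟩)).2.1 ∧
        (Multiplicative.toAdd (χ ⟨_, hq'⟩)).2.1 = (Multiplicative.toAdd (χ ⟨q, hq⟩)).2.1 := by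
    intro q hq0
    obtain ⟨i, k, j, l, hq⟩ := D.gen q hq0
    set M : N := (⟨_, hmX⟩ : N) ^ i * (⟨_, hmU⟩ : N) ^ k * (⟨V, D.memV⟩ : N) ^ j * (⟨_, hmW⟩ : N) ^ l with hM
    have hMe : Y * q * Y⁻¹ = (M : Q) := by rw [hq, hconj, hM]; simp
    refine ⟨hMe ▸ M.2, fun hq' => ?_⟩
    have hMe' : (⟨Y * q * Y⁻¹, hMe ▸ M.2⟩ : N) = M := Subtype.ext hMe
    rw [hMe', hχ ⟨q, hq'⟩ i k j l hq, hM, map_mul χ, map_mul χ, map_mul χ, map_zpow χ, map_zpow χ, map_zpow χ, map_zpow χ,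
      hchi1, hchi2, hchi3, hχ ⟨V, D.memV⟩ 0 0 1 0 (by simp)]
    simp
  have hYm : ∀ (m : ℕ) (q : Q) (hq : q ∈ N), ∃ hq' : Y ^ m * q * (Y ^ m)⁻¹ ∈ N,
      (Multiplicative.toAdd (χ ⟨_, hq'⟩)).1 =
          (Multiplicative.toAdd (χ ⟨q, hq⟩)).1 + m * (Multiplicative.toAdd (χ ⟨q, hq⟩)).2.1 ∧
        (Multiplicative.toAdd (χ ⟨_, hq'⟩)).2.1 = (Multiplicative.toAdd (χ ⟨q, hq⟩)).2.1 := by
    intro m
    induction m with
    | zero => intro q hq; refine ⟨by simpa using hq, ?_⟩; simp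
    | succ m ih =>
      intro q hq
      obtain ⟨h1, e1, e2⟩ := ih q hq
      obtain ⟨h2, h3⟩ := hY1 _ h1
      obtain ⟨e3, e4⟩ := h3 h1
      have he : Y ^ (m + 1) * q * (Y ^ (m + 1))⁻¹ = Y * (Y ^ m * q * (Y ^ m)⁻¹) * Y⁻¹ := by rw [pow_succ']; group
      refine ⟨he ▸ h2, ?_⟩
      simp only [he]
      rw [e3, e4, e1, e2]
      push_cast
      exact ⟨by ring, rfl⟩
  obtain ⟨i, k, j, l, hνe⟩ := D.gen ν hν
  -- the first exponent
  have hn : (n : ZMod p) = (a : ZMod p) ^ 3 := by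
    have e : Y ^ n * (U ^ b * V ^ (i * b)) * (Y ^ n)⁻¹ = g (U * X * V ^ ju * W ^ lu) := by
      rw [← hyu, map_mul, map_mul, map_inv, hgY, hgU, ← D.conj_U_zpow i k j l b, ← hνe]
      group
    have hm : U ^ b * V ^ (i * b) ∈ N := N.mul_mem (N.zpow_mem D.memU _) (N.zpow_mem D.memV _)
    obtain ⟨h1, e1, -⟩ := hYm n _ hm
    rw [hχ ⟨_, hm⟩ 0 b (i * b) 0 (by simp)] at e1
    have hr : g (U * X * V ^ ju * W ^ lu) =
        X ^ (a * a) * U ^ b * V ^ (q₀ + a * ju - a * a * b) * W ^ (r₀ + lu) := by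
      have := D.mul_eq 0 b 0 0 (a * a) 0 (q₀ + a * ju) (r₀ + lu)
      simp only [zpow_zero, mul_one, one_mul, zero_add, add_zero] at this
      rw [← this, map_mul, map_mul, map_mul, map_zpow, map_zpow, hgU, hgX, hgV, hgW, ← zpow_mul,
        zpow_add, zpow_add]
      have hc : Commute (W ^ r₀) (V ^ (a * ju)) := (D.vw.zpow_zpow (a * ju) r₀).symm
      calc U ^ b * (X ^ (a * a) * V ^ q₀ * W ^ r₀) * V ^ (a * ju) * W ^ lu
          = U ^ b * (X ^ (a * a) * V ^ q₀ * (W ^ r₀ * V ^ (a * ju))) * W ^ lu := by group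
        _ = _ := by rw [hc.eq]; group
    rw [hχ ⟨_, h1⟩ _ _ _ _ (e.trans hr)] at e1
    simp at e1
    linear_combination (-(a : ZMod p)) * e1 - (n : ZMod p) * hab
  -- `Y` commutes with `W`
  have hVne : V ≠ 1 := fun e => by
    have := (D.ind 0 0 1 0 (by simp [e])).2.2.1
    simp at this
  have hYV : ∀ m : ℕ, Commute (Y ^ m) V := fun m => hyv.pow_left m
  have hYW : Commute Y W := by
    have hm : ∀ m : ℕ, Y ^ m * W * (Y ^ m)⁻¹ = W * V ^ ((m : ℤ) * jw) := by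
      intro m
      induction m with
      | zero => simp
      | succ m ih =>
        calc Y ^ (m + 1) * W * (Y ^ (m + 1))⁻¹ = Y * (Y ^ m * W * (Y ^ m)⁻¹) * Y⁻¹ := by rw [pow_succ']; group
          _ = (Y * W * Y⁻¹) * (Y * V ^ ((m : ℤ) * jw) * Y⁻¹) := by rw [ih]; group
          _ = _ := by
            rw [hyw, (hz Y V _ hyv).eq, mul_inv_cancel_right, mul_assoc, ← zpow_add]
            congr 2
            push_cast
            ring
    have hνW : ν * W * ν⁻¹ = W := by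
      rw [mul_inv_eq_iff_eq_mul, hνe]
      exact (((D.xw.zpow_left i).mul_left (D.uw.zpow_left k)).mul_left (D.vw.zpow_left j)).mul_left
        ((Commute.refl W).zpow_left l)
    have e : g (Y * W * Y⁻¹) = g (W * V ^ jw) := by rw [hyw]
    rw [map_mul, map_mul, map_inv, hgY, hgW, map_mul, map_zpow, hgW, hgV, ← zpow_mul,
      show Y ^ n * ν * W * (Y ^ n * ν)⁻¹ = Y ^ n * (ν * W * ν⁻¹) * (Y ^ n)⁻¹ by group, hνW, hm] at e
    have e' := eq_of_zpow D.vp hVne (mul_left_cancel e)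
    push_cast at e'
    have ha0 : (a : ZMod p) ≠ 0 := fun h0 => by rw [h0, zero_mul] at hab; exact zero_ne_one hab
    have hj : (jw : ZMod p) = 0 :=
      (mul_eq_zero.1 (show (jw : ZMod p) * ((a : ZMod p) * ((a : ZMod p) ^ 2 - 1)) = 0 by
        linear_combination e' - (jw : ZMod p) * hn)).resolve_right (mul_ne_zero ha0 (sub_ne_zero.2 ha2))
    rw [zpow_congr D.vp (j := 0) (by simpa using hj), zpow_zero, mul_one, mul_inv_eq_iff_eq_mul] at hyw
    exact hyw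
  refine ⟨hn, hYW, jx, ?_⟩
  -- the image of `X`
  have hm : ∀ m : ℕ, Y ^ m * X * (Y ^ m)⁻¹ = X * V ^ ((m : ℤ) * jx) * W ^ ((m : ℤ) * lx) := by
    intro m
    induction m with
    | zero => simp
    | succ m ih =>
      calc Y ^ (m + 1) * X * (Y ^ (m + 1))⁻¹ = Y * (Y ^ m * X * (Y ^ m)⁻¹) * Y⁻¹ := by rw [pow_succ']; group
        _ = (Y * X * Y⁻¹) * (Y * V ^ ((m : ℤ) * jx) * Y⁻¹) * (Y * W ^ ((m : ℤ) * lx) * Y⁻¹) := by rw [ih]; group
        _ = X * V ^ jx * (W ^ lx * V ^ ((m : ℤ) * jx)) * W ^ ((m : ℤ) * lx) := by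
          rw [hyx, (hz Y V _ hyv).eq, mul_inv_cancel_right, (hz Y W _ hYW).eq, mul_inv_cancel_right]; group
        _ = X * (V ^ jx * V ^ ((m : ℤ) * jx)) * (W ^ lx * W ^ ((m : ℤ) * lx)) := by
          rw [((D.vw.zpow_zpow ((m : ℤ) * jx) lx).symm).eq]; group
        _ = _ := by rw [← zpow_add, ← zpow_add]; push_cast; ring_nf
  have e : g (Y * X * Y⁻¹) = g (X * V ^ jx * W ^ lx) := by rw [hyx]
  have hνX : ν * X * ν⁻¹ = X * V ^ (-k) := by rw [hνe]; exact D.conj_X i k j l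
  have hc1 : Commute (Y ^ n) (V ^ (-k)) := (hYV n).zpow_right _
  have e2 : Y ^ n * ν * X * (Y ^ n * ν)⁻¹ = X * V ^ ((n : ℤ) * jx - k) * W ^ ((n : ℤ) * lx) := by
    calc Y ^ n * ν * X * (Y ^ n * ν)⁻¹ = Y ^ n * (ν * X * ν⁻¹) * (Y ^ n)⁻¹ := by group
      _ = Y ^ n * X * (Y ^ n)⁻¹ * (Y ^ n * V ^ (-k) * (Y ^ n)⁻¹) := by rw [hνX]; group
      _ = X * V ^ ((n : ℤ) * jx) * (W ^ ((n : ℤ) * lx) * V ^ (-k)) := by
        rw [hm, hc1.eq, mul_inv_cancel_right, mul_assoc (X * _)]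
      _ = _ := by
        rw [((D.vw.zpow_zpow (-k) ((n : ℤ) * lx)).symm).eq, mul_assoc X, ← mul_assoc (V ^ _), ← zpow_add,
          ← sub_eq_add_neg, ← mul_assoc]
  have hmem1 : X * V ^ ((n : ℤ) * jx - k) * W ^ ((n : ℤ) * lx) ∈ N :=
    N.mul_mem (N.mul_mem D.memX (N.zpow_mem D.memV _)) (N.zpow_mem D.memW _)
  have hgV' : ∀ s : ℤ, g Y * V ^ s * (g Y)⁻¹ = V ^ s := fun s => by
    rw [mul_inv_eq_iff_eq_mul, hgY]
    refine (Commute.mul_left ((hYV n).zpow_right s) ?_).eq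
    rw [hνe]
    exact ((((D.xv.zpow_zpow i s)).mul_left (D.uv.zpow_zpow k s)).mul_left ((Commute.refl V).zpow_zpow j s)).mul_left
      ((D.vw.symm).zpow_zpow l s)
  have hgW' : ∀ s : ℤ, g Y * W ^ s * (g Y)⁻¹ = W ^ s := fun s => by
    rw [mul_inv_eq_iff_eq_mul, hgY]
    refine (Commute.mul_left ((hYW.pow_left n).zpow_right s) ?_).eq
    rw [hνe]
    exact ((((D.xw.zpow_zpow i s)).mul_left (D.uw.zpow_zpow k s)).mul_left (D.vw.zpow_zpow j s)).mul_left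
      ((Commute.refl W).zpow_zpow l s)
  have e3 : g Y * g X * (g Y)⁻¹ =
      (X * V ^ ((n : ℤ) * jx - k) * W ^ ((n : ℤ) * lx)) ^ (a * a) * V ^ q₀ * W ^ r₀ := by
    calc g Y * g X * (g Y)⁻¹
        = (g Y * X * (g Y)⁻¹) ^ (a * a) * (g Y * V ^ q₀ * (g Y)⁻¹) * (g Y * W ^ r₀ * (g Y)⁻¹) := by
          rw [hgX, conj_zpow]; group
      _ = _ := by rw [hgV', hgW', hgY, e2]
  rw [map_mul, map_mul, map_inv, e3, map_mul, map_mul, map_zpow, map_zpow, hgV, hgW, hgX, ← zpow_mul] at e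
  have hA : (X ^ (a * a) * V ^ q₀ * W ^ r₀ * V ^ (a * jx) * W ^ lx : Q) ∈ N :=
    N.mul_mem (N.mul_mem (N.mul_mem (N.mul_mem (N.zpow_mem D.memX _) (N.zpow_mem D.memV _)) (N.zpow_mem D.memW _))
      (N.zpow_mem D.memV _)) (N.zpow_mem D.memW _)
  have e4 : (⟨_, hmem1⟩ : N) ^ (a * a) * (⟨V, D.memV⟩ : N) ^ q₀ * (⟨W, D.memW⟩ : N) ^ r₀ =
      (⟨X, D.memX⟩ : N) ^ (a * a) * (⟨V, D.memV⟩ : N) ^ q₀ * (⟨W, D.memW⟩ : N) ^ r₀ *
        (⟨V, D.memV⟩ : N) ^ (a * jx) * (⟨W, D.memW⟩ : N) ^ lx := Subtype.ext (by simpa using e)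
  have e5 := congrArg (fun q : N => (Multiplicative.toAdd (χ q)).2.2) e4
  simp only [map_mul, map_zpow, hχ ⟨_, hmem1⟩ 1 0 ((n : ℤ) * jx - k) ((n : ℤ) * lx) (by simp),
    hχ ⟨X, D.memX⟩ 1 0 0 0 (by simp), hχ ⟨V, D.memV⟩ 0 0 1 0 (by simp), hχ ⟨W, D.memW⟩ 0 0 0 1 (by simp)] at e5
  simp at e5
  have hl : (lx : ZMod p) = 0 :=
    (mul_eq_zero.1 (show (lx : ZMod p) * ((a : ZMod p) ^ 5 - 1) = 0 by
      linear_combination e5 - (a : ZMod p) * (a : ZMod p) * (lx : ZMod p) * hn)).resolve_right (sub_ne_zero.2 ha5)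
  rw [hyx, zpow_congr D.wp (i := lx) (j := 0) (by simpa using hl), zpow_zero, mul_one]

/-- No element outside the frame is moved compatibly with the torus. -/
theorem frame_false [Finite Q] (h3 : Rank3 p Q) (hQ : IsPGroup p Q) (hp2 : p ≠ 2)
    (hab : ((a * b : ℤ) : ZMod p) = 1) (ha2 : (a : ZMod p) ^ 2 ≠ 1) (ha3 : (a : ZMod p) ^ 3 ≠ 1)
    (ha5 : (a : ZMod p) ^ 5 ≠ 1) (D : Frame p N X U V W) [N.Normal] {Y : Q}
    (hY : Subgroup.zpowers Y ⊔ N = ⊤) (hYN : Y ∉ N) (hYp : ∀ q : Q, q ^ p ∈ N)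
    (hyu : ∃ j l : ℤ, Y * U * Y⁻¹ = U * X * V ^ j * W ^ l) (hyx : ∃ j l : ℤ, Y * X * Y⁻¹ = X * V ^ j * W ^ l)
    (hyw : ∃ j : ℤ, Y * W * Y⁻¹ = W * V ^ j) (hyv : Commute Y V)
    (hgU : g U = U ^ b) (hgV : g V = V ^ a) (hgW : g W = W) (hgX : g X = X ^ (a * a) * V ^ q₀ * W ^ r₀) :
    False := by
  classical
  have hdec : ∀ (Z : Q), Subgroup.zpowers Z ⊔ N = ⊤ → ∀ q : Q, ∃ n : ℕ, ∃ ν ∈ N, q = Z ^ n * ν := by
    intro Z hZ q
    obtain ⟨z, hz, ν, hν, rfl⟩ := Subgroup.mem_sup_of_normal_right.1 (hZ ▸ Subgroup.mem_top q)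
    obtain ⟨n, rfl⟩ := mem_powers_iff_mem_zpowers.2 hz
    exact ⟨n, ν, hν, rfl⟩
  obtain ⟨n, ν, hν, hgY⟩ := hdec Y hY (g Y)
  obtain ⟨-, hYW, i, hi⟩ := frame_step hab ha2 ha5 D hyu hyx hyw hyv hgU hgV hgW hgX hν hgY
  set Y' := Y * U ^ i with hY'
  have hUi : U ^ i ∈ N := N.zpow_mem D.memU i
  have hY'N : Y' ∉ N := fun hh => hYN (by
    have := N.mul_mem hh (N.inv_mem hUi)
    rwa [hY', mul_inv_cancel_right] at this)
  have hY'top : Subgroup.zpowers Y' ⊔ N = ⊤ := by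
    refine top_le_iff.1 (hY.ge.trans (sup_le (Subgroup.zpowers_le.2 ?_) le_sup_right))
    have := Subgroup.mul_mem (Subgroup.zpowers Y' ⊔ N) (Subgroup.mem_sup_left (Subgroup.mem_zpowers _))
      (Subgroup.mem_sup_right (N.inv_mem hUi))
    rwa [hY', mul_inv_cancel_right] at this
  have hY'V : Commute Y' V := hyv.mul_left (D.uv.zpow_left i)
  have hY'W : Commute Y' W := hYW.mul_left (D.uw.zpow_left i)
  have hY'X : Commute Y' X := by
    rw [commute_iff_eq, ← mul_inv_eq_iff_eq_mul]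
    have e := D.conj_X 0 i 0 0
    simp only [zpow_zero, one_mul, mul_one] at e
    calc Y' * X * Y'⁻¹ = Y * (U ^ i * X * (U ^ i)⁻¹) * Y⁻¹ := by rw [hY']; group
      _ = (Y * X * Y⁻¹) * (Y * V ^ (-i) * Y⁻¹) := by rw [e]; group
      _ = X := by rw [hi, (hyv.zpow_right _).eq, mul_inv_cancel_right, zpow_neg, mul_inv_cancel_right]
  have hY'U : ∃ j l : ℤ, Y' * U * Y'⁻¹ = U * X * V ^ j * W ^ l := by
    obtain ⟨j, l, e⟩ := hyu
    refine ⟨j, l, ?_⟩
    rw [← e, hY']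
    calc Y * U ^ i * U * (Y * U ^ i)⁻¹ = Y * (U ^ i * U * (U ^ i)⁻¹) * Y⁻¹ := by group
      _ = _ := by group
  obtain ⟨m, μ, hμ, hgY'⟩ := hdec Y' hY'top (g Y')
  obtain ⟨hm, -, -⟩ := frame_step hab ha2 ha5 D hY'U
    ⟨0, 0, by rw [hY'X.eq, mul_inv_cancel_right]; simp⟩ ⟨0, by rw [hY'W.eq, mul_inv_cancel_right]; simp⟩ hY'V
    hgU hgV hgW hgX hμ hgY'
  rw [Int.cast_mul] at hab
  have ha0 : (a : ZMod p) ≠ 0 := fun h0 => by rw [h0, zero_mul] at hab; exact zero_ne_one hab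
  -- the correction commutes with `Y'`
  obtain ⟨i', k', j', l', rfl⟩ := D.gen μ hμ
  have hk' : (k' : ZMod p) = 0 := by
    have h1 : Commute (g Y') (g X) := hY'X.map g
    rw [hgY', hgX] at h1
    have h2 : Commute (Y' ^ m) (X ^ (a * a) * V ^ q₀ * W ^ r₀) :=
      (((hY'X.zpow_right _).mul_right (hY'V.zpow_right _)).mul_right (hY'W.zpow_right _)).pow_left m
    have h3 : Commute (X ^ i' * U ^ k' * V ^ j' * W ^ l') (X ^ (a * a) * V ^ q₀ * W ^ r₀) := by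
      have h4 := h2.inv_left.mul_left h1
      rwa [inv_mul_cancel_left] at h4
    have e1 := D.mul_eq i' k' j' l' (a * a) 0 q₀ r₀
    have e2 := D.mul_eq (a * a) 0 q₀ r₀ i' k' j' l'
    simp only [zpow_zero, mul_one, add_zero, zero_add, mul_zero, sub_zero] at e1 e2
    obtain ⟨-, -, hj, -⟩ := D.eq_iff (e1.symm.trans (h3.eq.trans e2))
    push_cast at hj
    exact (mul_eq_zero.1 (show (k' : ZMod p) * ((a : ZMod p) * a) = 0 by linear_combination -hj)).resolve_right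
      (mul_ne_zero ha0 ha0)
  have hμY : Commute Y' (X ^ i' * U ^ k' * V ^ j' * W ^ l') := by
    rw [zpow_congr D.up (i := k') (j := 0) (by simpa using hk'), zpow_zero, mul_one]
    exact ((hY'X.zpow_right _).mul_right (hY'V.zpow_right _)).mul_right (hY'W.zpow_right _)
  have hgp : g (Y' ^ p) = (Y' ^ p) ^ m := by
    rw [map_pow, hgY', (hμY.pow_left m).mul_pow, D.pow_eq_one hp2 hμ, mul_one, ← pow_mul, ← pow_mul, mul_comm]
  -- the power of `Y'` is trivial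
  obtain ⟨i₁, k₁, j₁, l₁, he⟩ := D.gen _ (hYp Y')
  have hVne : V ≠ 1 := fun e => by
    have := (D.ind 0 0 1 0 (by simp [e])).2.2.1
    simp at this
  have hk₁ : (k₁ : ZMod p) = 0 := by
    have h1 : Y' ^ p * X * (Y' ^ p)⁻¹ = X := by rw [(hY'X.pow_left p).eq, mul_inv_cancel_right]
    rw [he, D.conj_X] at h1
    have h4 := eq_of_zpow D.vp hVne ((mul_eq_left.1 h1).trans (zpow_zero V).symm)
    simpa using h4
  rw [zpow_congr D.up (i := k₁) (j := 0) (by simpa using hk₁), zpow_zero, mul_one] at he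
  have hYp1 : Y' ^ p = 1 := by
    have e1 : g (Y' ^ p) = X ^ (a * a * i₁) * U ^ (0 : ℤ) * V ^ (q₀ * i₁ + a * j₁) * W ^ (r₀ * i₁ + l₁) := by
      rw [he, map_mul, map_mul, map_zpow, map_zpow, map_zpow, hgX, hgV, hgW, zpow_zero, mul_one,
        (((D.xw.zpow_zpow (a * a) r₀)).mul_left (D.vw.zpow_zpow q₀ r₀)).mul_zpow,
        (D.xv.zpow_zpow (a * a) q₀).mul_zpow, ← zpow_mul, ← zpow_mul, ← zpow_mul, ← zpow_mul, zpow_add, zpow_add]
      calc X ^ (a * a * i₁) * V ^ (q₀ * i₁) * W ^ (r₀ * i₁) * V ^ (a * j₁) * W ^ l₁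
          = X ^ (a * a * i₁) * V ^ (q₀ * i₁) * (W ^ (r₀ * i₁) * V ^ (a * j₁)) * W ^ l₁ := by group
        _ = _ := by rw [((D.vw.zpow_zpow (a * j₁) (r₀ * i₁)).symm).eq]; group
    have e2 : (Y' ^ p) ^ m = X ^ (i₁ * m) * U ^ (0 : ℤ) * V ^ (j₁ * m) * W ^ (l₁ * m) := by
      rw [he, ← zpow_natCast, (((D.xw.zpow_zpow i₁ l₁)).mul_left (D.vw.zpow_zpow j₁ l₁)).mul_zpow,
        (D.xv.zpow_zpow i₁ j₁).mul_zpow, zpow_zero, mul_one, zpow_mul, zpow_mul, zpow_mul]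
    obtain ⟨h1, -, h3', h4⟩ := D.eq_iff (e1.symm.trans (hgp.trans e2))
    push_cast at h1 h3' h4
    rw [hm] at h1 h3' h4
    have ha1 : (a : ZMod p) - 1 ≠ 0 := sub_ne_zero.2 fun e => ha2 (by rw [e, one_pow])
    have hi0 : (i₁ : ZMod p) = 0 :=
      (mul_eq_zero.1 (show (i₁ : ZMod p) * ((a : ZMod p) * a * (a - 1)) = 0 by linear_combination -h1)).resolve_right
        (mul_ne_zero (mul_ne_zero ha0 ha0) ha1)
    have hj0 : (j₁ : ZMod p) = 0 :=
      (mul_eq_zero.1 (show (j₁ : ZMod p) * ((a : ZMod p) * ((a : ZMod p) ^ 2 - 1)) = 0 by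
        linear_combination -h3' + (q₀ : ZMod p) * hi0)).resolve_right (mul_ne_zero ha0 (sub_ne_zero.2 ha2))
    have hl0 : (l₁ : ZMod p) = 0 :=
      (mul_eq_zero.1 (show (l₁ : ZMod p) * ((a : ZMod p) ^ 3 - 1) = 0 by
        linear_combination -h4 + (r₀ : ZMod p) * hi0)).resolve_right (sub_ne_zero.2 ha3)
    rw [he, zpow_congr D.xp (j := 0) (by simpa using hi0), zpow_congr D.vp (j := 0) (by simpa using hj0),
      zpow_congr D.wp (j := 0) (by simpa using hl0)]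
    simp
  -- an elementary abelian subgroup of order `p ^ 4`
  set B := Subgroup.closure ({X, V, W} : Set Q) with hB
  set A := Subgroup.closure ({Y', X, V, W} : Set Q) with hA
  have hcomm : ∀ s ∈ A, ∀ t ∈ A, Commute s t := by
    have hle : A ≤ Subgroup.centralizer (A : Set Q) := by
      rw [hA, Subgroup.centralizer_closure]
      refine (Subgroup.closure_le _).2 ?_
      intro s hs
      rw [SetLike.mem_coe, Subgroup.mem_centralizer_iff]
      intro t ht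
      simp only [Set.mem_insert_iff, Set.mem_singleton_iff] at hs ht
      rcases hs with rfl | rfl | rfl | rfl <;> rcases ht with rfl | rfl | rfl | rfl <;>
        first
          | rfl
          | exact hY'X.eq | exact hY'X.eq.symm | exact hY'V.eq | exact hY'V.eq.symm
          | exact hY'W.eq | exact hY'W.eq.symm | exact D.xv.eq | exact D.xv.eq.symm
          | exact D.xw.eq | exact D.xw.eq.symm | exact D.vw.eq | exact D.vw.eq.symm
    exact fun s hs t ht => Subgroup.mem_centralizer_iff.1 (hle ht) s hs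
  have hexp : ∀ s ∈ A, s ^ p = 1 := by
    intro s hs
    induction hs using Subgroup.closure_induction with
    | mem s hs =>
      simp only [Set.mem_insert_iff, Set.mem_singleton_iff] at hs
      rcases hs with rfl | rfl | rfl | rfl
      exacts [hYp1, D.xp, D.vp, D.wp]
    | one => exact one_pow p
    | mul s t hs ht es et => rw [(hcomm s hs t ht).mul_pow, es, et, one_mul]
    | inv s hs es => rw [inv_pow, es, inv_one]
  have hBN : B ≤ N := (Subgroup.closure_le _).2 fun s hs => by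
    simp only [Set.mem_insert_iff, Set.mem_singleton_iff] at hs
    rcases hs with rfl | rfl | rfl
    exacts [D.memX, D.memV, D.memW]
  have hlt : B < A := lt_of_le_not_ge (Subgroup.closure_mono (Set.subset_insert _ _)) fun hh =>
    hY'N (hBN (hh (Subgroup.subset_closure (Set.mem_insert _ _))))
  have hBc : p ^ 3 ≤ Nat.card B := by
    let f : ZMod p × ZMod p × ZMod p → B := fun t =>
      ⟨X ^ (t.1.val : ℤ) * U ^ (0 : ℤ) * V ^ (t.2.1.val : ℤ) * W ^ (t.2.2.val : ℤ), by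
        rw [zpow_zero, mul_one]
        exact B.mul_mem (B.mul_mem (B.zpow_mem (Subgroup.subset_closure (by simp)) _)
          (B.zpow_mem (Subgroup.subset_closure (by simp)) _)) (B.zpow_mem (Subgroup.subset_closure (by simp)) _)⟩
    have hf : Function.Injective f := fun s t hst => by
      obtain ⟨h1, -, h3', h4⟩ := D.eq_iff (congrArg Subtype.val hst)
      rw [intCast_val, intCast_val] at h1 h3' h4
      exact Prod.ext h1 (Prod.ext h3' h4)
    refine le_trans (le_of_eq ?_) (Nat.card_le_card_of_injective f hf)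
    rw [Nat.card_prod, Nat.card_prod, Nat.card_zmod]
    ring
  have h4 := CfsgLib.Fusion.MaxClass.card_mul_le_of_lt hQ hlt
  have h5 := h3 A ⊥ bot_le
    (fun s hs t ht => by rw [Subgroup.mem_bot]; exact commutatorElement_eq_one_iff_commute.2 (hcomm s hs t ht))
    (fun s hs => by rw [Subgroup.mem_bot]; exact hexp s hs)
  rw [Subgroup.card_bot, mul_one] at h5
  have h6 : p * p ^ 3 ≤ 1 * p ^ 3 := by
    rw [one_mul]
    exact ((Nat.mul_le_mul_left p hBc).trans h4).trans h5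
  have := Nat.le_of_mul_le_mul_right h6 (pow_pos hp.out.pos 3)
  exact absurd this hp.out.one_lt.not_ge

end CfsgLib.Fsys.RankThree
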