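import Cfsg.Agent.Lib.FusionSystem.RankThree.Centre
import Cfsg.Agent.Lib.FusionSystem.RankThree.Extend
import Cfsg.Agent.Lib.FusionSystem.RankThree.FinalAlg

/-! A transvection in a fully normalized normalizer forces the normalizer to be everything. -/

set_option autoImplicit false
set_option linter.unusedSectionVars false
set_option linter.style.haveILetI false
set_option maxHeartbeats 800000

open Cfsg Cfsg.FusionSystem
open scoped commutatorElement

namespace CfsgLib.Fsys.RankThree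

universe u

theorem Frame.map {Q R : Type*} [Group Q] [Group R] {p : ℕ} {N : Subgroup Q} {X U V W : Q}
    (D : Frame p N X U V W) (f : Q →* R) (hf : Function.Injective f) :
    Frame p (N.map f) (f X) (f U) (f V) (f W) where
  memX := ⟨X, D.memX, rfl⟩
  memU := ⟨U, D.memU, rfl⟩
  memV := ⟨V, D.memV, rfl⟩
  memW := ⟨W, D.memW, rfl⟩
  gen := by
    rintro _ ⟨q, hq, rfl⟩
    obtain ⟨i, k, j, l, rfl⟩ := D.gen q hq
    exact ⟨i, k, j, l, by simp⟩
  ind i k j l he := D.ind i k j l (hf (by simpa using he))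
  xu := by simpa using congrArg f D.xu
  xv := D.xv.map f
  xw := D.xw.map f
  uv := D.uv.map f
  uw := D.uw.map f
  vw := D.vw.map f
  xp := by rw [← map_pow, D.xp, map_one]
  up := by rw [← map_pow, D.up, map_one]
  vp := by rw [← map_pow, D.vp, map_one]
  wp := by rw [← map_pow, D.wp, map_one]

theorem iter_conj {Q : Type*} [Group Q] {Y U Z : Q} {c : ℤ} (h1 : Y * U * Y⁻¹ = U * Z ^ c)
    (h2 : Y * Z * Y⁻¹ = Z) (n : ℕ) : Y ^ n * U * (Y ^ n)⁻¹ = U * Z ^ (c * (n : ℤ)) := by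
  induction n with
  | zero => simp
  | succ n ih =>
    calc Y ^ (n + 1) * U * (Y ^ (n + 1))⁻¹ = Y * (Y ^ n * U * (Y ^ n)⁻¹) * Y⁻¹ := by rw [pow_succ']; group
      _ = (Y * U * Y⁻¹) * (Y * Z * Y⁻¹) ^ (c * (n : ℤ)) := by rw [ih, conj_zpow]; group
      _ = _ := by rw [h1, h2, mul_assoc, ← zpow_add]; push_cast; ring_nf

variable {Ω : Type u} [Group Ω] {S : Subgroup Ω} [Finite S] {p : ℕ} [hpf : Fact p.Prime] {F : FusionSystem S}
  {E : Subgroup Ω}

/-- A normalized step of order `p` is central. -/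
theorem comm_step {M A B : Subgroup Ω} [Finite M] (hMp : IsPGroup p M) (hAB : A ≤ B) (hBM : B ≤ M)
    (hA : ∀ y ∈ M, ∀ a ∈ A, y * a * y⁻¹ ∈ A) (hB : ∀ y ∈ M, ∀ b ∈ B, y * b * y⁻¹ ∈ B)
    (hc : Nat.card B = Nat.card A * p) {y b : Ω} (hy : y ∈ M) (hb : b ∈ B) :
    ⁅y, b⁆ ∈ A ∧ b⁻¹ * (y * b * y⁻¹) ∈ A := by
  haveI : (A.subgroupOf M).Normal := ⟨fun a ha m => hA m m.2 a ha⟩
  haveI : (B.subgroupOf M).Normal := ⟨fun a ha m => hB m m.2 a ha⟩
  have hcA := Nat.card_congr (Subgroup.subgroupOfEquivOfLe (hAB.trans hBM)).toEquiv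
  have hcB := Nat.card_congr (Subgroup.subgroupOfEquivOfLe hBM).toEquiv
  have hlt : A.subgroupOf M < B.subgroupOf M := lt_of_le_of_ne (fun m hm => hAB hm) fun e => by
    have h1 := hcB.symm.trans ((congrArg (fun H : Subgroup M => Nat.card H) e.symm).trans hcA)
    rw [hc] at h1
    haveI := Finite.of_injective (Subgroup.inclusion (hAB.trans hBM)) (Subgroup.inclusion_injective _)
    exact hpf.out.one_lt.ne ((Nat.mul_eq_left Nat.card_pos.ne').1 h1).symm
  obtain ⟨C, hCn, hAC, hCB, hCi, hCc⟩ := exists_normal_step hMp hlt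
  have hC : C = B.subgroupOf M := Subgroup.eq_of_le_of_card_ge hCB (by
    rw [card_of_relIndex hAC hCi, hcA, hcB, hc])
  have h1 := hCc ⟨y, hy⟩ ⟨b, hBM hb⟩ (hC ▸ hb)
  rw [Subgroup.mem_subgroupOf] at h1
  have h2 : ⁅y, b⁆ ∈ A := by simpa [commutatorElement_def] using h1
  refine ⟨h2, ?_⟩
  have h3 := hA _ (inv_mem (hBM hb)) _ h2
  convert h3 using 1
  simp [commutatorElement_def, mul_assoc]

theorem not_caseT (h : Hyp p F E) (hlt : normalizerIn S E < S) (hfn : F.IsFullyNormalized (normalizerIn S E))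
    (hT : CaseT p F E h.le) : False := by
  classical
  haveI := h.finite
  obtain ⟨x, u, v, w, f, a, b, D⟩ := exists_tdata h hT
  have hEN : E ≤ normalizerIn S E := le_normalizerIn h.le
  haveI : Finite (normalizerIn S E) := finite_of_le_base normalizerIn_le
  have hNM : normalizerIn S E ≤ normalizerIn S (normalizerIn S E) := le_normalizerIn normalizerIn_le
  haveI : Finite (normalizerIn S (normalizerIn S E)) := finite_of_le_base normalizerIn_le
  have hMp : IsPGroup p (normalizerIn S (normalizerIn S E)) := h.hS.to_le normalizerIn_le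
  obtain ⟨y₀, hy₀, hy₀N⟩ := SetLike.exists_of_lt (lt_normalizerIn h.hS hlt)
  have hab := D.hab
  rw [Int.cast_mul] at hab
  have ha0 : (a : ZMod p) ≠ 0 := fun e => by rw [e, zero_mul] at hab; exact zero_ne_one hab
  have hVe := PGroup.Frattini.quotient_pow_eq_one (p := p) (P := E) h.pgroup
  have hind := D.indep h
  -- the chain
  obtain ⟨ZΩ, hZdef⟩ : ∃ ZΩ, ZΩ = (plane v w).map E.subtype := ⟨_, rfl⟩
  obtain ⟨V₀, hVdef⟩ : ∃ V₀, V₀ = (vline v).map E.subtype := ⟨_, rfl⟩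
  have hΦV : phi E ≤ V₀ := hVdef ▸ Subgroup.map_mono (frattini_le_vline v)
  have hVZ : V₀ ≤ ZΩ := hVdef ▸ hZdef ▸ Subgroup.map_mono (vline_le_plane v w)
  have hZE : ZΩ ≤ E := hZdef ▸ Subgroup.map_subtype_le _
  have hΦn : ∀ y ∈ normalizerIn S (normalizerIn S E), ∀ z ∈ phi E, y * z * y⁻¹ ∈ phi E :=
    fun y hy => (D.conj_invariant h hy).1
  have hZn : ∀ y ∈ normalizerIn S (normalizerIn S E), ∀ z ∈ ZΩ, y * z * y⁻¹ ∈ ZΩ :=
    fun y hy => hZdef ▸ (D.conj_invariant h hy).2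
  have hcomm : ∀ {m n : Ω}, m ∈ normalizerIn S E → n ∈ normalizerIn S E → ⁅m, n⁆ ∈ V₀ :=
    fun {m n} hm hn => hVdef ▸ D.commutator_mem_vline h hm hn
  have hVn : ∀ y ∈ normalizerIn S (normalizerIn S E), ∀ z ∈ V₀, y * z * y⁻¹ ∈ V₀ := by
    intro y hy
    set c : E := ((autHom F h.le x : F.autGroup E) : MulAut E) u * u⁻¹ with hc
    have hcv : mq E c = mq E v := by
      rw [hc, map_mul, map_inv, D.actu, PGroup.Frattini.quotient_mul_comm (p := p) h.pgroup (mq E u),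
        mul_inv_cancel_right]
    have hconj : y * (c : Ω) * y⁻¹ ∈ V₀ := by
      have h1 := hcomm ((mem_normalizer_iff'.1 hy.2).1 _ x.2) ((mem_normalizer_iff'.1 hy.2).1 _ (hEN u.2))
      convert h1 using 1
      simp [hc, commutatorElement_def, mul_assoc]
    intro z hz
    rw [hVdef] at hz
    obtain ⟨g, hg, rfl⟩ := hz
    obtain ⟨i, hi⟩ := mem_vline.1 hg
    have hr : (c ^ i)⁻¹ * g ∈ frattini ↥E := mq_eq.1 (by rw [map_zpow, hcv, hi])
    have h2 := V₀.mul_mem (V₀.zpow_mem hconj i) (hΦV (hΦn y hy _ (mem_phi.2 hr)))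
    convert h2 using 1
    rw [conj_zpow]
    simp [mul_assoc]
  -- orders
  have hEp := h.pgroup
  have hvΦ : v ∉ frattini ↥E := fun hh => by
    have h1 := (hind 0 1 0 (by
      rw [zpow_zero, zpow_zero, zpow_one, one_mul, mul_one]; exact (QuotientGroup.eq_one_iff v).2 hh)).2.1
    simp at h1
  have hwV : w ∉ vline v := fun hh => by
    obtain ⟨i, hi⟩ := mem_vline.1 hh
    have h1 := (hind 0 (-i) 1 (by rw [zpow_zero, one_mul, zpow_one, hi, ← zpow_add, neg_add_cancel, zpow_zero])).2.2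
    simp at h1
  have hcphi : Nat.card (phi E) = Nat.card (frattini ↥E) := Subgroup.card_map_of_injective E.subtype_injective
  have e1 := CfsgLib.Fusion.MaxClass.card_mul_le_of_lt hEp (lt_of_le_not_ge (frattini_le_vline v)
    fun hh => hvΦ (hh (Subgroup.mem_comap.2 (Subgroup.mem_zpowers _))))
  have e2 := CfsgLib.Fusion.MaxClass.card_mul_le_of_lt hEp (lt_of_le_not_ge (vline_le_plane v w)
    fun hh => hwV (hh (right_mem_plane v w)))
  have e3 := CfsgLib.Fusion.MaxClass.card_mul_le_of_lt hEp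
    (lt_top_iff_ne_top.2 fun e => D.u_notMem h (e ▸ Subgroup.mem_top u) : plane v w < ⊤)
  rw [Subgroup.card_top, h.card] at e3
  have cV : Nat.card V₀ = Nat.card (frattini ↥E) * p := by
    rw [hVdef, Subgroup.card_map_of_injective E.subtype_injective]
    refine le_antisymm ?_ (by rw [mul_comm]; exact e1)
    refine Nat.le_of_mul_le_mul_left ((Nat.mul_le_mul_left p e2).trans (e3.trans (le_of_eq ?_)) |>.trans' (le_of_eq
      (mul_assoc p p _))) (Nat.mul_pos hpf.out.pos hpf.out.pos)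
    ring
  have cZ : Nat.card ZΩ = Nat.card (frattini ↥E) * p ^ 2 := by
    rw [hZdef, Subgroup.card_map_of_injective E.subtype_injective]
    refine le_antisymm (Nat.le_of_mul_le_mul_left (e3.trans (le_of_eq (by ring))) hpf.out.pos) ?_
    rw [hVdef, Subgroup.card_map_of_injective E.subtype_injective] at cV
    rw [cV] at e2
    exact le_trans (le_of_eq (by ring)) e2
  have cN : Nat.card (normalizerIn S E) = Nat.card (frattini ↥E) * p ^ 4 := by
    rw [D.card, h.card]; ring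
  -- the invariant subgroup above the centre
  have hZN : ZΩ ≤ normalizerIn S E := hZE.trans hEN
  haveI : (ZΩ.subgroupOf (normalizerIn S (normalizerIn S E))).Normal := ⟨fun z hz m => hZn m m.2 z hz⟩
  haveI : ((normalizerIn S E).subgroupOf (normalizerIn S (normalizerIn S E))).Normal :=
    ⟨fun z hz m => (mem_normalizer_iff'.1 m.2.2).1 z hz⟩
  have hcZM := Nat.card_congr (Subgroup.subgroupOfEquivOfLe (hZN.trans hNM)).toEquiv
  obtain ⟨C₀, hC₀n, hZC₀, hC₀N, hC₀i, -⟩ := exists_normal_step hMp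
    (show ZΩ.subgroupOf (normalizerIn S (normalizerIn S E)) <
      (normalizerIn S E).subgroupOf (normalizerIn S (normalizerIn S E)) from
      lt_of_le_of_ne (fun m hm => hZN hm) fun e => D.notMem (hZE (e.ge (show
        (⟨(x : Ω), hNM x.2⟩ : normalizerIn S (normalizerIn S E)) ∈
          (normalizerIn S E).subgroupOf (normalizerIn S (normalizerIn S E)) from x.2))))
  obtain ⟨C, hCdef⟩ : ∃ C, C = C₀.map (normalizerIn S (normalizerIn S E)).subtype := ⟨_, rfl⟩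
  have hZC : ZΩ ≤ C := fun z hz => hCdef ▸ ⟨⟨z, hNM (hZN hz)⟩, hZC₀ hz, rfl⟩
  have hCN : C ≤ normalizerIn S E := by
    rw [hCdef]; rintro _ ⟨z, hz, rfl⟩; exact hC₀N hz
  have hCn : ∀ y ∈ normalizerIn S (normalizerIn S E), ∀ z ∈ C, y * z * y⁻¹ ∈ C := by
    intro y hy z hz
    rw [hCdef] at hz ⊢
    obtain ⟨z, hz, rfl⟩ := hz
    exact ⟨_, hC₀n.conj_mem z hz ⟨y, hy⟩, rfl⟩
  have cC : Nat.card C = Nat.card (frattini ↥E) * p ^ 3 := by
    rw [hCdef, Subgroup.card_map_of_injective (Subgroup.subtype_injective _), card_of_relIndex hZC₀ hC₀i, hcZM, cZ]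
    ring
  -- `E` is not normalized
  have hnotnorm : ∀ y ∈ normalizerIn S (normalizerIn S E), y ∉ normalizerIn S E → y * (u : Ω) * y⁻¹ ∉ E := by
    intro y hy hyN hu
    refine hyN ⟨hy.1, mem_normalizer_of_map_le fun z hz => ?_⟩
    obtain ⟨i, j, k, hg⟩ := D.gen ⟨z, hz⟩
    have hr : (u ^ i)⁻¹ * ⟨z, hz⟩ ∈ plane v w := (mem_plane h).2 ⟨j, k, by
      rw [map_mul, map_inv, map_zpow, hg, mul_assoc, inv_mul_cancel_left]⟩
    have h1 := hZn y hy _ (hZdef ▸ ⟨_, hr, rfl⟩ : (((u ^ i)⁻¹ * ⟨z, hz⟩ : E) : Ω) ∈ ZΩ)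
    have h2 := E.mul_mem (E.zpow_mem hu i) (hZE h1)
    convert h2 using 1
    rw [conj_zpow]
    simp [mul_assoc]
  -- the quotient by the centre
  haveI : (ZΩ.subgroupOf (normalizerIn S E)).Normal := ⟨fun z hz m => hZn m (hNM m.2) z hz⟩
  let κ := QuotientGroup.mk' (ZΩ.subgroupOf (normalizerIn S E))
  let ι := Subgroup.inclusion hEN
  have hκ1 : ∀ {m : normalizerIn S E}, κ m = 1 ↔ (m : Ω) ∈ ZΩ := fun {m} => QuotientGroup.eq_one_iff m
  have hκc : ∀ q r, Commute (κ q) (κ r) := fun q r => by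
    rw [← commutatorElement_eq_one_iff_commute, ← map_commutatorElement]
    refine hκ1.2 (hVZ ?_)
    simpa [commutatorElement_def] using hcomm q.2 r.2
  have hκp : ∀ q, κ q ^ p = 1 := fun q => by
    rw [← map_pow]
    refine hκ1.2 (hVZ (hΦV ?_))
    simpa using D.pow_mem_phi h q.2
  have hκE : ∀ {g : E} {i j k : ℤ}, mq E g = mq E u ^ i * mq E v ^ j * mq E w ^ k → κ (ι g) = κ (ι u) ^ i :=
    fun {g i j k} hg => by
      rw [eq_comm, ← inv_mul_eq_one, ← map_zpow, ← map_zpow, ← map_inv, ← map_mul, ← map_inv, ← map_mul]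
      refine hκ1.2 (hZdef ▸ ⟨(u ^ i)⁻¹ * g, (mem_plane h).2 ⟨j, k, ?_⟩, ?_⟩)
      · rw [map_mul, map_inv, map_zpow, hg, mul_assoc, inv_mul_cancel_left]
      · simp [ι]
  obtain ⟨z, hzC, hzZ⟩ : ∃ z, z ∈ C ∧ z ∉ ZΩ := by
    by_contra hno
    push Not at hno
    haveI : Finite ZΩ := finite_of_le_base (hZN.trans normalizerIn_le)
    have h1 := Subgroup.card_le_of_le (show C ≤ ZΩ from hno)
    rw [cC, cZ] at h1
    have := (Nat.pow_le_pow_iff_right hpf.out.one_lt).1 (Nat.le_of_mul_le_mul_left h1 Nat.card_pos)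
    omega
  haveI := phiIn_normal (S := S) h.le
  obtain ⟨i, k, j', l', hzX⟩ := (D.frame h).gen (QuotientGroup.mk (⟨z, hCN hzC⟩ : normalizerIn S E))
    (Subgroup.mem_top _)
  have hκz : κ ⟨z, hCN hzC⟩ = κ x ^ i * κ (ι u) ^ k := by
    let π' : normalizerIn S E →* normalizerIn S E ⧸ phiIn E (normalizerIn S E) := QuotientGroup.mk' _
    have h1 : (x ^ i * (ι u) ^ k * (ι v) ^ j' * (ι w) ^ l')⁻¹ * ⟨z, hCN hzC⟩ ∈ phiIn E (normalizerIn S E) :=
      QuotientGroup.eq.1 (show π' _ = π' _ by simp only [map_mul, map_zpow]; exact hzX.symm)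
    have h2 := hκ1.2 (show (((x ^ i * (ι u) ^ k * (ι v) ^ j' * (ι w) ^ l')⁻¹ * ⟨z, hCN hzC⟩ :
      normalizerIn S E) : Ω) ∈ ZΩ from hVZ (hΦV h1))
    rw [map_mul, map_inv, inv_mul_eq_one, map_mul, map_mul, map_mul, map_zpow, map_zpow, map_zpow, map_zpow] at h2
    rw [← h2, hκ1.2 (show ((ι v : normalizerIn S E) : Ω) ∈ ZΩ from hZdef ▸ ⟨v, left_mem_plane v w, rfl⟩),
      hκ1.2 (show ((ι w : normalizerIn S E) : Ω) ∈ ZΩ from hZdef ▸ ⟨w, right_mem_plane v w, rfl⟩),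
      one_zpow, one_zpow, mul_one, mul_one]
  have hi : (i : ZMod p) ≠ 0 := by
    intro hi0
    rw [zpow_congr (hκp x) (j := 0) (by simpa using hi0), zpow_zero, one_mul] at hκz
    have hk : (k : ZMod p) ≠ 0 := fun hk0 => by
      rw [zpow_congr (hκp (ι u)) (j := 0) (by simpa using hk0), zpow_zero] at hκz
      exact hzZ (hκ1.1 hκz)
    have huC : (u : Ω) ∈ C := by
      have h1 : ((u ^ k : E) : Ω) ∈ C := by
        have h2 := hκ1.1 (show κ ((⟨z, hCN hzC⟩ : normalizerIn S E)⁻¹ * ι (u ^ k)) = 1 by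
          rw [map_mul, map_inv, hκz, map_zpow, map_zpow, inv_mul_cancel])
        have h3 := C.mul_mem hzC (hZC h2)
        simpa [ι] using h3
      have h4 : ((u ^ p : E) : Ω) ∈ C :=
        hZC (hVZ (hΦV (mem_phi.2 (PGroup.Frattini.pow_mem_frattini hEp u))))
      rw [Subgroup.coe_pow] at h4
      rw [SubgroupClass.coe_zpow] at h1
      exact mem_of_zpow_mem h4 h1 hk
    refine hnotnorm y₀ hy₀ hy₀N ?_
    have hEC : E = C := by
      have hle : E ≤ C := by
        intro g hg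
        obtain ⟨i', j'', k'', he⟩ := D.gen ⟨g, hg⟩
        have hr : (u ^ i')⁻¹ * ⟨g, hg⟩ ∈ plane v w := (mem_plane h).2 ⟨j'', k'', by
          rw [map_mul, map_inv, map_zpow, he, mul_assoc, inv_mul_cancel_left]⟩
        have hrZ : (((u ^ i')⁻¹ * ⟨g, hg⟩ : E) : Ω) ∈ ZΩ := hZdef ▸ ⟨_, hr, rfl⟩
        have h2 := C.mul_mem (C.zpow_mem huC i') (hZC hrZ)
        simpa using h2
      exact eq_of_le_of_card (hCN.trans normalizerIn_le) hle (by rw [cC, h.card])
    exact hEC.ge (hCn y₀ hy₀ _ (hEC.le u.2))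
  -- normalize the generator
  set i' : ℤ := (((i : ZMod p))⁻¹.val : ℤ) with hi'
  set j : ℤ := k * i' with hj
  obtain ⟨z₀, hz₀C, hκz₀⟩ : ∃ z₀ : normalizerIn S E, (z₀ : Ω) ∈ C ∧ κ z₀ = κ x * κ (ι u) ^ j := by
    refine ⟨⟨z, hCN hzC⟩ ^ i', ?_, ?_⟩
    · rw [SubgroupClass.coe_zpow]; exact C.zpow_mem hzC i'
    · rw [map_zpow, hκz, (((hκc x (ι u)).zpow_left i).zpow_right k).mul_zpow, ← zpow_mul, ← zpow_mul,
        zpow_congr (hκp x) (j := 1) (by rw [Int.cast_mul, hi', intCast_val, mul_inv_cancel₀ hi, Int.cast_one]),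
        zpow_one]
  have hz₀Z : (z₀ : Ω) ∉ ZΩ := fun hh => by
    have h1 := hκ1.2 hh
    rw [hκz₀, ← zpow_one (κ x)] at h1
    have h2 : (x : Ω) * ((u ^ j : E) : Ω) ∈ ZΩ := by
      have := hκ1.1 (show κ (x * ι (u ^ j)) = 1 by rw [map_mul, map_zpow, map_zpow, ← zpow_one (κ x)]; exact h1)
      simpa [ι] using this
    have h3 := E.mul_mem (hZE h2) (inv_mem (u ^ j).2)
    rw [mul_inv_cancel_right] at h3
    exact D.notMem h3
  have hCgen : ∀ c ∈ C, ∃ n : ℤ, ∃ r ∈ ZΩ, c = (z₀ : Ω) ^ n * r := by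
    intro c hc
    have hNp : IsPGroup p (normalizerIn S E) := h.hS.to_le normalizerIn_le
    have htop : Subgroup.zpowers z₀ ⊔ ZΩ.subgroupOf (normalizerIn S E) = C.subgroupOf (normalizerIn S E) := by
      refine Subgroup.eq_of_le_of_card_ge (sup_le (Subgroup.zpowers_le.2 hz₀C) fun m hm => hZC hm) ?_
      have h1 := CfsgLib.Fusion.MaxClass.card_mul_le_of_lt hNp (lt_of_le_not_ge
        (le_sup_right : ZΩ.subgroupOf (normalizerIn S E) ≤ Subgroup.zpowers z₀ ⊔ ZΩ.subgroupOf (normalizerIn S E))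
        fun hh => hz₀Z (hh (Subgroup.mem_sup_left (Subgroup.mem_zpowers _))))
      rw [Nat.card_congr (Subgroup.subgroupOfEquivOfLe hZN).toEquiv, cZ] at h1
      rw [Nat.card_congr (Subgroup.subgroupOfEquivOfLe hCN).toEquiv, cC]
      exact le_trans (le_of_eq (by ring)) h1
    obtain ⟨s, hs, r, hr, he⟩ := Subgroup.mem_sup_of_normal_right.1
      (htop.ge (show (⟨c, hCN hc⟩ : normalizerIn S E) ∈ C.subgroupOf (normalizerIn S E) from hc))
    obtain ⟨n, rfl⟩ := Subgroup.mem_zpowers_iff.1 hs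
    exact ⟨n, r, hr, by simpa using (congrArg Subtype.val he).symm⟩
  -- modulo the centre, upstairs
  let lamM := QuotientGroup.mk' (ZΩ.subgroupOf (normalizerIn S (normalizerIn S E)))
  have hlam : ∀ {s t : normalizerIn S (normalizerIn S E)}, lamM s = lamM t ↔ (s : Ω)⁻¹ * t ∈ ZΩ := fun {s t} =>
    QuotientGroup.eq
  have hstepNC : ∀ y ∈ normalizerIn S (normalizerIn S E), ∀ m ∈ normalizerIn S E, m⁻¹ * (y * m * y⁻¹) ∈ C :=
    fun y hy m hm => (comm_step hMp hCN hNM hCn (fun y hy b hb => (mem_normalizer_iff'.1 hy.2).1 b hb)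
      (by rw [cN, cC]; ring) hy hm).2
  have hstepCZ : ∀ y ∈ normalizerIn S (normalizerIn S E), ∀ m ∈ C, m⁻¹ * (y * m * y⁻¹) ∈ ZΩ :=
    fun y hy m hm => (comm_step hMp hZC (hCN.trans hNM) hZn hCn (by rw [cC, cZ]; ring) hy hm).2
  -- the power of `y` moving `u` by a given multiple
  have hmoveu : ∀ y ∈ normalizerIn S (normalizerIn S E), y ∉ normalizerIn S E → ∀ t : ZMod p,
      ∃ n : ℕ, ∃ r ∈ ZΩ, y ^ n * (u : Ω) * (y ^ n)⁻¹ = (u : Ω) * (z₀ : Ω) ^ (t.val : ℤ) * r := by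
    intro y hy hyN t
    obtain ⟨c, r, hr, hcr⟩ := hCgen _ (hstepNC y hy u (hEN u.2))
    have hc0 : (c : ZMod p) ≠ 0 := fun h0 => by
      obtain ⟨q, rfl⟩ := (ZMod.intCast_zmod_eq_zero_iff_dvd _ _).1 h0
      refine hnotnorm y hy hyN ?_
      rw [show y * (u : Ω) * y⁻¹ = u * ((u : Ω)⁻¹ * (y * u * y⁻¹)) by group, hcr, zpow_mul, zpow_natCast]
      exact E.mul_mem u.2 (E.mul_mem (E.zpow_mem (phi_le E (D.pow_mem_phi h z₀.2)) q) (hZE hr))
    set Y : normalizerIn S (normalizerIn S E) := ⟨y, hy⟩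
    set U : normalizerIn S (normalizerIn S E) := ⟨u, hNM (hEN u.2)⟩
    set Z₀ : normalizerIn S (normalizerIn S E) := ⟨z₀, hNM z₀.2⟩
    have h1 : lamM Y * lamM U * (lamM Y)⁻¹ = lamM U * lamM Z₀ ^ c := by
      rw [← map_inv, ← map_zpow, ← map_mul, ← map_mul, ← map_mul, eq_comm, hlam]
      simp only [Y, U, Z₀, Subgroup.coe_mul, Subgroup.coe_inv, SubgroupClass.coe_zpow]
      rw [mul_inv_rev, mul_assoc, hcr, inv_mul_cancel_left]
      exact hr
    have h2 : lamM Y * lamM Z₀ * (lamM Y)⁻¹ = lamM Z₀ := by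
      rw [← map_inv, ← map_mul, ← map_mul, eq_comm, hlam]
      exact hstepCZ y hy _ hz₀C
    set n : ℕ := (t / (c : ZMod p)).val with hn
    have h3 := iter_conj h1 h2 n
    have h4 : lamM Z₀ ^ p = 1 := by
      rw [← map_pow]
      exact (QuotientGroup.eq_one_iff _).2 (hVZ (hΦV (by simpa [Z₀] using D.pow_mem_phi h z₀.2)))
    rw [zpow_congr h4 (i := c * (n : ℤ)) (j := (t.val : ℤ)) (by
      rw [Int.cast_mul, intCast_val, Int.cast_natCast, ZMod.natCast_zmod_val]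
      exact mul_div_cancel₀ _ hc0),
      ← map_pow, ← map_inv, ← map_zpow, ← map_mul, ← map_mul, ← map_mul, eq_comm, hlam] at h3
    refine ⟨n, _, h3, ?_⟩
    simp only [Y, U, Z₀, Subgroup.coe_mul, Subgroup.coe_inv, SubgroupClass.coe_zpow, Subgroup.coe_pow]
    rw [mul_inv_cancel_left]
  obtain ⟨β, hβA, hβf, hβu, hβv, hβw⟩ := D.torus
  obtain ⟨zx, hzx, hfx⟩ := D.fx
  have hfE : ∀ g : E, f g = ((β g : E) : Ω) := fun g => (hβf g).symm
  have hβ : ∀ {g : E} {i j k : ℤ}, mq E g = mq E u ^ i * mq E v ^ j * mq E w ^ k →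
      mq E (β g) = mq E u ^ (b * i) * mq E v ^ (a * j) * mq E w ^ k := fun {g i j k} hg => by
    let ω : E →* E ⧸ frattini ↥E := (mq E).comp β.toMonoidHom
    have e0 : ω ((u ^ i * v ^ j * w ^ k)⁻¹ * g) = 1 := (QuotientGroup.eq_one_iff _).2
      (frattini_invariant β (mq_eq.1 (by rw [hg, map_mul, map_mul, map_zpow, map_zpow, map_zpow])))
    rw [map_mul, map_inv, inv_mul_eq_one, map_mul, map_mul, map_zpow, map_zpow, map_zpow,
      show ω u = mq E u ^ b from hβu, show ω v = mq E v ^ a from hβv, show ω w = mq E w from hβw, ← zpow_mul,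
      ← zpow_mul] at e0
    exact e0.symm
  have hfV : ∀ z ∈ V₀, f z ∈ V₀ := by
    intro z hz
    rw [hVdef] at hz ⊢
    obtain ⟨g, hg, rfl⟩ := hz
    obtain ⟨i, hi⟩ := mem_vline.1 hg
    refine ⟨β g, mem_vline.2 ⟨a * i, ?_⟩, hβf g⟩
    rw [hβ (i := 0) (j := i) (k := 0) (by rw [hi, zpow_zero, zpow_zero, one_mul, mul_one]), mul_zero, zpow_zero,
      zpow_zero, one_mul, mul_one]
  have hfΦ : ∀ z ∈ phi E, f z ∈ phi E := by
    rintro _ ⟨g, hg, rfl⟩
    exact ⟨β g, frattini_invariant β hg, hβf g⟩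
  have hfZ : ∀ z ∈ ZΩ, f z ∈ ZΩ := by
    intro z hz
    rw [hZdef] at hz ⊢
    obtain ⟨g, hg, rfl⟩ := hz
    obtain ⟨i, k, hik⟩ := (mem_plane h).1 hg
    refine ⟨β g, (mem_plane h).2 ⟨a * i, k, ?_⟩, hβf g⟩
    rw [hβ (i := 0) (j := i) (k := k) (by rw [hik, zpow_zero, one_mul]), mul_zero, zpow_zero, one_mul]
  -- the invariant subgroup contains `x`
  have hj0 : (j : ZMod p) = 0 := by
    by_contra hjne
    have ha3' : (a : ZMod p) ^ 3 - 1 ≠ 0 := sub_ne_zero.2 D.ha3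
    obtain ⟨n, r, hr, hnr⟩ := hmoveu y₀ hy₀ hy₀N (((j : ZMod p) * ((a : ZMod p) ^ 3 - 1))⁻¹)
    set k₀ : ℤ := ((((j : ZMod p) * ((a : ZMod p) ^ 3 - 1))⁻¹).val : ℤ) with hk₀
    have hy' : y₀ ^ n ∈ normalizerIn S (normalizerIn S E) := pow_mem hy₀ n
    have hmapsN : ∀ e ∈ E, y₀ ^ n * e * (y₀ ^ n)⁻¹ ∈ normalizerIn S E := fun e he =>
      (mem_normalizer_iff'.1 hy'.2).1 e (hEN he)
    let ψ := f ∘ fun e => y₀ ^ n * e * (y₀ ^ n)⁻¹
    have hψ : Fn F E ψ := (fn_conj h.le hy'.1).comp D.fn hmapsN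
    have hfz₀ : ∀ m : ℤ, ∃ s ∈ ZΩ, f ((u : Ω) * (z₀ : Ω) ^ m * r) = f u * f z₀ ^ m * s := fun m => by
      refine ⟨f r, hfZ r hr, ?_⟩
      rw [D.fn.map_mul ((normalizerIn S E).mul_mem (hEN u.2) ((normalizerIn S E).zpow_mem z₀.2 m)) (hZN hr),
        D.fn.map_mul (hEN u.2) ((normalizerIn S E).zpow_mem z₀.2 m), fn_zpow D.fn z₀.2]
    have hψu : ψ u ∈ C := by
      show f (y₀ ^ n * (u : Ω) * (y₀ ^ n)⁻¹) ∈ C
      rw [hnr]
      obtain ⟨s, hs, he⟩ := hfz₀ k₀
      rw [he]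
      refine C.mul_mem ?_ (hZC hs)
      let fz : normalizerIn S E := ⟨f z₀, D.maps _ z₀.2⟩
      let fu : normalizerIn S E := ⟨f u, D.maps _ (hEN u.2)⟩
      have hκfu : κ fu = κ (ι u) ^ b := by
        rw [show fu = ι (β u) from Subtype.ext (hfE u)]
        have := hκE (g := β u) (i := b) (j := 0) (k := 0) (by rw [hβu, zpow_zero, zpow_zero, mul_one, mul_one])
        exact this
      have hκfx : κ ⟨f x, D.maps _ x.2⟩ = κ x ^ (a * a) := by
        rw [show (⟨f x, D.maps _ x.2⟩ : normalizerIn S E) = x ^ (a * a) * ι zx from Subtype.ext (by simpa [ι] using hfx),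
          map_mul, map_zpow, hκ1.2 (show ((ι zx : normalizerIn S E) : Ω) ∈ ZΩ from hZdef ▸ ⟨zx, hzx, rfl⟩), mul_one]
      have hκfz : κ fz = κ x ^ (a * a) * κ (ι u) ^ (b * j) := by
        have h1 : (z₀ : Ω) ∈ normalizerIn S E := z₀.2
        obtain ⟨d, hd, hdz⟩ : ∃ d ∈ ZΩ, (z₀ : Ω) = (x : Ω) * ((u ^ j : E) : Ω) * d :=
          ⟨((x : Ω) * ((u ^ j : E) : Ω))⁻¹ * z₀, by
            have := hκ1.1 (show κ ((x * ι (u ^ j))⁻¹ * z₀) = 1 by
              rw [map_mul, map_inv, map_mul, map_zpow, map_zpow, ← hκz₀, inv_mul_cancel])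
            simpa [ι] using this, by group⟩
        have h2 : fz = ⟨f x, D.maps _ x.2⟩ * ι (β (u ^ j)) * ⟨f d, D.maps _ (hZN hd)⟩ := Subtype.ext (by
          show f z₀ = f x * ((β (u ^ j) : E) : Ω) * f d
          rw [← hfE, hdz, D.fn.map_mul ((normalizerIn S E).mul_mem x.2 (hEN (u ^ j).2)) (hZN hd),
            D.fn.map_mul x.2 (hEN (u ^ j).2)])
        rw [h2, map_mul, map_mul, hκfx,
          hκ1.2 (show ((⟨f d, D.maps _ (hZN hd)⟩ : normalizerIn S E) : Ω) ∈ ZΩ from hfZ d hd), mul_one,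
          hκE (g := β (u ^ j)) (i := b * j) (j := 0) (k := 0) (by
            rw [map_zpow β, map_zpow, hβu, ← zpow_mul, zpow_zero, zpow_zero, mul_one, mul_one])]
      have hκe : κ (fu * fz ^ k₀) = κ (z₀ ^ (a * a * k₀)) := by
        rw [map_mul, map_zpow, map_zpow, hκfu, hκfz, hκz₀, (((hκc x (ι u)).zpow_left _).zpow_right _).mul_zpow,
          ((hκc x (ι u)).zpow_right j).mul_zpow, ← zpow_mul, ← zpow_mul, ← zpow_mul,
          ← mul_assoc, (((hκc (ι u) x).zpow_left b).zpow_right (a * a * k₀)).eq, mul_assoc, ← zpow_add]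
        congr 1
        refine zpow_congr (hκp _) ?_
        push_cast
        rw [hk₀, intCast_val]
        have hD : (j : ZMod p) * ((a : ZMod p) ^ 3 - 1) ≠ 0 := mul_ne_zero hjne ha3'
        have hinv := mul_inv_cancel₀ hD
        linear_combination (-(b : ZMod p)) * hinv +
          ((j : ZMod p) * (a : ZMod p) ^ 2 * ((j : ZMod p) * ((a : ZMod p) ^ 3 - 1))⁻¹) * hab
      have h3 := hκ1.1 (show κ ((z₀ ^ (a * a * k₀))⁻¹ * (fu * fz ^ k₀)) = 1 by
        rw [map_mul, map_inv, hκe, inv_mul_cancel])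
      have h4 := C.mul_mem (C.zpow_mem hz₀C (a * a * k₀)) (hZC h3)
      simpa [fz, fu] using h4
    have hψC : ∀ e ∈ E, ψ e ∈ C := by
      intro e he
      obtain ⟨i', j'', k'', hg⟩ := D.gen ⟨e, he⟩
      have hr' : (u ^ i')⁻¹ * ⟨e, he⟩ ∈ plane v w := (mem_plane h).2 ⟨j'', k'', by
        rw [map_mul, map_inv, map_zpow, hg, mul_assoc, inv_mul_cancel_left]⟩
      have hrZ : (((u ^ i')⁻¹ * ⟨e, he⟩ : E) : Ω) ∈ ZΩ := hZdef ▸ ⟨_, hr', rfl⟩
      have hsplit : e = (u : Ω) ^ i' * (((u ^ i')⁻¹ * ⟨e, he⟩ : E) : Ω) := by simp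
      rw [hsplit, hψ.map_mul (E.zpow_mem u.2 i') (hZE hrZ), fn_zpow hψ u.2]
      exact C.mul_mem (C.zpow_mem hψu i') (hZC (hfZ _ (hZn _ hy' _ hrZ)))
    have himg : img ψ E = C := eq_of_le_of_card (hCN.trans normalizerIn_le) (img_le hψC)
      (by rw [hψ.card_img, cC, h.card])
    have h1 := h.hE.2.1.2 C (himg ▸ isConj_of_fn hψ)
    haveI : Finite C := finite_of_le_base (hCN.trans normalizerIn_le)
    have hle : normalizerIn S (normalizerIn S E) ≤ normalizerIn S C := fun y hy =>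
      ⟨hy.1, mem_normalizer_of_map_le (hCn y hy)⟩
    haveI := finite_of_le_base (normalizerIn_le (S := S) (P := C))
    have h2 := Subgroup.card_le_of_le hle
    have h3 : Nat.card (normalizerIn S E) < Nat.card (normalizerIn S (normalizerIn S E)) :=
      (Subgroup.card_le_of_le hNM).lt_of_ne fun e =>
        (lt_normalizerIn h.hS hlt).ne (eq_of_le_of_card normalizerIn_le hNM e.ge)
    omega
  have hκz₀x : κ z₀ = κ x := by
    rw [hκz₀, zpow_congr (hκp _) (j := 0) (by simpa using hj0), zpow_zero, mul_one]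
  have hxC : (x : Ω) ∈ C := by
    have h3 := hκ1.1 (show κ (z₀⁻¹ * x) = 1 by rw [map_mul, map_inv, hκz₀x, inv_mul_cancel])
    simpa using C.mul_mem hz₀C (hZC h3)
  obtain ⟨d₀, hd₀, hxd⟩ : ∃ d ∈ ZΩ, (x : Ω) = (z₀ : Ω) * d := ⟨(z₀ : Ω)⁻¹ * x, by
    simpa using hκ1.1 (show κ (z₀⁻¹ * x) = 1 by rw [map_mul, map_inv, hκz₀x, inv_mul_cancel]), by group⟩
  have hz₀x : ∃ d ∈ ZΩ, (z₀ : Ω) = (x : Ω) * d := ⟨d₀⁻¹, inv_mem hd₀, by rw [hxd]; group⟩
  -- extend to the normalizer of the normalizer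
  have hfC : ∀ c ∈ C, f c ∈ C := by
    intro c hc
    obtain ⟨m, r, hr, rfl⟩ := hCgen c hc
    obtain ⟨d, hd, hzd⟩ := hz₀x
    rw [D.fn.map_mul ((normalizerIn S E).zpow_mem z₀.2 m) (hZN hr), fn_zpow D.fn z₀.2, hzd,
      D.fn.map_mul x.2 (hZN hd), hfx]
    exact C.mul_mem (C.zpow_mem (C.mul_mem (C.mul_mem (C.zpow_mem hxC _) (hZC (hZdef ▸ ⟨zx, hzx, rfl⟩)))
      (hZC (hfZ d hd))) m) (hZC (hfZ r hr))
  have hΦfr : phi E ≤ (frattini ↥(normalizerIn S E)).map (normalizerIn S E).subtype := by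
    rintro _ ⟨g, hg, rfl⟩
    have hNp : IsPGroup p (normalizerIn S E) := h.hS.to_le normalizerIn_le
    have hle : frattini ↥E ≤ (frattini ↥(normalizerIn S E)).comap (Subgroup.inclusion hEN) :=
      LocalEven.Residual.frattini_le (p := p)
        (fun s t => by
          rw [Subgroup.mem_comap, map_commutatorElement]
          exact PGroup.Frattini.commutatorElement_mem_frattini hNp _ _)
        fun s => by
          rw [Subgroup.mem_comap, map_pow]
          exact PGroup.Frattini.pow_mem_frattini hNp _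
    exact ⟨_, hle hg, rfl⟩
  let Ds : ℕ → Subgroup Ω := fun
    | 0 => normalizerIn S E
    | 1 => C
    | 2 => ZΩ
    | 3 => V₀
    | _ => phi E
  obtain ⟨g, hg, hgM, hgf⟩ := extend_series h.hS h.hF hfn D.fn D.maps Ds 4 rfl hΦfr
    (fun k => by
      rcases k with _ | _ | _ | _ | k
      exacts [le_rfl, hCN, hZN, hVZ.trans hZN, (hΦV.trans hVZ).trans hZN])
    (fun k hk => by
      rcases k with _ | _ | _ | _ | k
      exacts [D.maps, hfC, hfZ, hfV, hfΦ])
    (fun y hy k hk => by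
      rcases k with _ | _ | _ | _ | k
      · exact hstepNC y hy
      · exact hstepCZ y hy
      · exact fun m hm => (comm_step hMp hVZ (hZN.trans hNM) hVn hZn (by rw [cV, cZ]; ring) hy hm).2
      · exact fun m hm => (comm_step hMp hΦV ((hVZ.trans hZN).trans hNM) hΦn hVn (by rw [hcphi, cV]) hy hm).2
      · omega)
    (fun k hk => by
      rcases k with _ | _ | _ | _ | k
      exacts [hCN, hZC, hVZ, hΦV, le_rfl])
  -- a normalized element
  obtain ⟨n, r, hr, hnr⟩ := hmoveu y₀ hy₀ hy₀N 1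
  set y := y₀ ^ n with hy_def
  have hy : y ∈ normalizerIn S (normalizerIn S E) := pow_mem hy₀ n
  have hyu : ∃ d ∈ ZΩ, y * (u : Ω) * y⁻¹ = (u : Ω) * (x : Ω) * d := by
    obtain ⟨d, hd, hzd⟩ := hz₀x
    refine ⟨d * r, ZΩ.mul_mem hd hr, ?_⟩
    rw [hnr, ZMod.val_one, Nat.cast_one, zpow_one, hzd]
    group
  clear_value y
  have hyN : y ∉ normalizerIn S E := fun hh => by
    obtain ⟨d, hd, hyu⟩ := hyu
    have h1 := (mem_normalizer_iff'.1 hh.2).1 _ u.2
    rw [hyu] at h1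
    have h2 := E.mul_mem (E.mul_mem (inv_mem u.2) h1) (inv_mem (hZE hd))
    refine D.notMem ?_
    convert h2 using 1
    group
  -- the quotient
  haveI : (phiIn E (normalizerIn S (normalizerIn S E))).Normal := ⟨fun z hz m => hΦn m m.2 z hz⟩
  let π := QuotientGroup.mk' (phiIn E (normalizerIn S (normalizerIn S E)))
  let ιN := Subgroup.inclusion hNM
  let τ : normalizerIn S E ⧸ phiIn E (normalizerIn S E) →*
      normalizerIn S (normalizerIn S E) ⧸ phiIn E (normalizerIn S (normalizerIn S E)) :=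
    QuotientGroup.map _ _ ιN (fun z hz => hz)
  have hτinj : Function.Injective τ := by
    rw [← MonoidHom.ker_eq_bot_iff, eq_bot_iff]
    intro q hq
    obtain ⟨m, rfl⟩ := QuotientGroup.mk'_surjective (phiIn E (normalizerIn S E)) q
    exact Subgroup.mem_bot.2 ((QuotientGroup.eq_one_iff m).2 ((QuotientGroup.eq_one_iff (ιN m)).1 hq))
  have hFr := (D.frame h).map τ hτinj
  have hmapN : (⊤ : Subgroup (normalizerIn S E ⧸ phiIn E (normalizerIn S E))).map τ =
      ((normalizerIn S E).subgroupOf (normalizerIn S (normalizerIn S E))).map π := by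
    refine le_antisymm ?_ ?_
    · rintro _ ⟨q, -, rfl⟩
      obtain ⟨m, rfl⟩ := QuotientGroup.mk'_surjective (phiIn E (normalizerIn S E)) q
      exact ⟨ιN m, m.2, rfl⟩
    · rintro _ ⟨m, hm, rfl⟩
      exact ⟨QuotientGroup.mk (⟨(m : Ω), hm⟩ : normalizerIn S E), trivial, rfl⟩
  rw [hmapN] at hFr
  haveI : (((normalizerIn S E).subgroupOf (normalizerIn S (normalizerIn S E))).map π).Normal :=
    Subgroup.Normal.map inferInstance π (QuotientGroup.mk'_surjective _)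
  let gH : normalizerIn S (normalizerIn S E) →* normalizerIn S (normalizerIn S E) :=
    MonoidHom.mk' (fun m => ⟨g m, hgM m m.2⟩) fun s t => Subtype.ext (hg.map_mul s.2 t.2)
  let gQ := QuotientGroup.lift (phiIn E (normalizerIn S (normalizerIn S E))) (π.comp gH) (fun z hz => by
    refine (QuotientGroup.eq_one_iff _).2 ?_
    show g z ∈ phi E
    rw [hgf (z : Ω) (hEN (phi_le E hz))]
    exact hfΦ _ hz)
  -- coordinates of the centre
  have hπE : ∀ {e : E} {i j k : ℤ}, mq E e = mq E u ^ i * mq E v ^ j * mq E w ^ k →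
      π (ιN (ι e)) = π (ιN (ι u)) ^ i * π (ιN (ι v)) ^ j * π (ιN (ι w)) ^ k := fun {e i j k} he => by
    rw [← map_zpow, ← map_zpow, ← map_zpow, ← map_zpow, ← map_zpow, ← map_zpow, ← map_zpow, ← map_zpow, ← map_zpow,
      ← map_mul, ← map_mul, ← map_mul, ← map_mul, ← map_mul, ← map_mul]
    refine QuotientGroup.eq.2 ?_
    rw [← map_inv ιN, ← map_inv ι, ← map_mul ιN, ← map_mul ι, Subgroup.mem_subgroupOf]
    exact mem_phi.2 (mq_eq.1 (by rw [he, map_mul, map_mul, map_zpow, map_zpow, map_zpow]))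
  have hZco : ∀ (m : normalizerIn S (normalizerIn S E)), (m : Ω) ∈ ZΩ →
      ∃ j l : ℤ, π m = π (ιN (ι v)) ^ j * π (ιN (ι w)) ^ l := by
    intro m hm
    rw [hZdef] at hm
    obtain ⟨e, he, hem⟩ := hm
    obtain ⟨j, l, hjl⟩ := (mem_plane h).1 he
    refine ⟨j, l, ?_⟩
    rw [show m = ιN (ι e) from Subtype.ext hem.symm, hπE (i := 0) (j := j) (k := l) (by rw [hjl, zpow_zero, one_mul]),
      zpow_zero, one_mul]
  set Y := π ⟨y, hy⟩
  have hconjπ : ∀ m : normalizerIn S (normalizerIn S E),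
      Y * π m * Y⁻¹ = π (⟨y, hy⟩ * m * ⟨y, hy⟩⁻¹) := fun m => by
    simp only [Y, map_mul, map_inv]
  have hrel : ∀ (m : normalizerIn S (normalizerIn S E)) (d : Ω) (hd : d ∈ ZΩ),
      y * (m : Ω) * y⁻¹ = (m : Ω) * d → ∃ j l : ℤ,
        Y * π m * Y⁻¹ = π m * π (ιN (ι v)) ^ j * π (ιN (ι w)) ^ l := by
    intro m d hd he
    obtain ⟨j, l, hjl⟩ := hZco ⟨d, hNM (hZN hd)⟩ hd
    refine ⟨j, l, ?_⟩
    rw [hconjπ, show (⟨y, hy⟩ : normalizerIn S (normalizerIn S E)) * m * ⟨y, hy⟩⁻¹ = m * ⟨d, hNM (hZN hd)⟩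
      from Subtype.ext (by simpa using he), map_mul, hjl, ← mul_assoc]
  obtain ⟨du, hdu, hyu⟩ := hyu
  have hYu : ∃ j l : ℤ, Y * π (ιN (ι u)) * Y⁻¹ =
      π (ιN (ι u)) * π (ιN x) * π (ιN (ι v)) ^ j * π (ιN (ι w)) ^ l := by
    obtain ⟨j, l, hjl⟩ := hZco ⟨du, hNM (hZN hdu)⟩ hdu
    refine ⟨j, l, ?_⟩
    rw [hconjπ, show (⟨y, hy⟩ : normalizerIn S (normalizerIn S E)) * ιN (ι u) * ⟨y, hy⟩⁻¹ =
      ιN (ι u) * ιN x * ⟨du, hNM (hZN hdu)⟩ from Subtype.ext (by simpa [ιN, ι] using hyu), map_mul, map_mul, hjl,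
      ← mul_assoc]
  have hYx : ∃ j l : ℤ, Y * π (ιN x) * Y⁻¹ = π (ιN x) * π (ιN (ι v)) ^ j * π (ιN (ι w)) ^ l :=
    hrel (ιN x) _ (hstepCZ y hy _ hxC) (by simp [ιN])
  have hstepV := fun m hm => (comm_step hMp hVZ (hZN.trans hNM) hVn hZn (by rw [cV, cZ]; ring) hy (b := m) hm).2
  have hstepΦ := fun m hm =>
    (comm_step hMp hΦV ((hVZ.trans hZN).trans hNM) hΦn hVn (by rw [hcphi, cV]) hy (b := m) hm).2
  have hYw : ∃ j : ℤ, Y * π (ιN (ι w)) * Y⁻¹ = π (ιN (ι w)) * π (ιN (ι v)) ^ j := by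
    have h1 := hstepV (w : Ω) (hZdef ▸ ⟨w, right_mem_plane v w, rfl⟩)
    rw [hVdef] at h1
    obtain ⟨d, hd, hde⟩ := h1
    obtain ⟨j, hj'⟩ := mem_vline.1 hd
    refine ⟨j, ?_⟩
    rw [hconjπ, show (⟨y, hy⟩ : normalizerIn S (normalizerIn S E)) * ιN (ι w) * ⟨y, hy⟩⁻¹ = ιN (ι w) * ιN (ι d)
      from Subtype.ext (by
        have hde' : (d : Ω) = (w : Ω)⁻¹ * (y * w * y⁻¹) := hde
        simp [ιN, ι, hde']), map_mul, hπE (e := d) (i := 0) (j := j) (k := 0)
      (by rw [hj', zpow_zero, zpow_zero, one_mul, mul_one]),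
      zpow_zero, zpow_zero, one_mul, mul_one]
  have hYv : Commute Y (π (ιN (ι v))) := by
    rw [commute_iff_eq, ← mul_inv_eq_iff_eq_mul, hconjπ]
    refine (QuotientGroup.eq.2 ?_).symm
    rw [Subgroup.mem_subgroupOf]
    simpa [ιN, ι] using hstepΦ (v : Ω) (hVdef ▸ ⟨v, mem_vline.2 ⟨1, (zpow_one _).symm⟩, rfl⟩)
  have hgE : ∀ e : E, gQ (π (ιN (ι e))) = π (ιN (ι (β e))) := fun e => by
    show π (gH (ιN (ι e))) = _
    congr 1
    exact Subtype.ext ((hgf _ (hEN e.2)).trans (hfE e))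
  have hgU : gQ (π (ιN (ι u))) = π (ιN (ι u)) ^ b := by
    rw [hgE, hπE (i := b) (j := 0) (k := 0) (by rw [hβu, zpow_zero, zpow_zero, mul_one, mul_one]), zpow_zero,
      zpow_zero, mul_one, mul_one]
  have hgV : gQ (π (ιN (ι v))) = π (ιN (ι v)) ^ a := by
    rw [hgE, hπE (i := 0) (j := a) (k := 0) (by rw [hβv, zpow_zero, zpow_zero, one_mul, mul_one]), zpow_zero,
      zpow_zero, one_mul, mul_one]
  have hgW : gQ (π (ιN (ι w))) = π (ιN (ι w)) := by
    rw [hgE, hπE (i := 0) (j := 0) (k := 1) (by rw [hβw, zpow_zero, zpow_zero, one_mul, one_mul, zpow_one]),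
      zpow_zero, zpow_zero, one_mul, one_mul, zpow_one]
  obtain ⟨q₀, r₀, hqr⟩ := hZco (ιN (ι zx)) (hZdef ▸ ⟨zx, hzx, rfl⟩)
  have hgX : gQ (π (ιN x)) = π (ιN x) ^ (a * a) * π (ιN (ι v)) ^ q₀ * π (ιN (ι w)) ^ r₀ := by
    show π (gH (ιN x)) = _
    rw [show gH (ιN x) = ιN x ^ (a * a) * ιN (ι zx) from Subtype.ext (by
      show g (x : Ω) = _
      rw [hgf _ x.2, hfx]
      simp [ιN, ι]), map_mul, map_zpow, hqr, ← mul_assoc]
  have hR3 : Rank3 p (normalizerIn S (normalizerIn S E)) :=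
    h.hr.of_injective (Subgroup.inclusion normalizerIn_le) (Subgroup.inclusion_injective _)
  -- everything is a power of `y` times the normalizer
  have htopM : Subgroup.zpowers (⟨y, hy⟩ : normalizerIn S (normalizerIn S E)) ⊔
      (normalizerIn S E).subgroupOf (normalizerIn S (normalizerIn S E)) = ⊤ := by
    refine top_le_iff.1 fun m _ => ?_
    obtain ⟨c, r', hr', hcr⟩ := hCgen _ (hstepNC m m.2 u (hEN u.2))
    let U : normalizerIn S (normalizerIn S E) := ιN (ι u)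
    let Xm : normalizerIn S (normalizerIn S E) := ιN x
    have hm1 : lamM m * lamM U * (lamM m)⁻¹ = lamM U * lamM Xm ^ c := by
      rw [← map_inv, ← map_zpow, ← map_mul, ← map_mul, ← map_mul, eq_comm, hlam]
      simp only [U, Xm, ιN, ι, Subgroup.coe_mul, Subgroup.coe_inv, SubgroupClass.coe_zpow, Subgroup.coe_inclusion]
      obtain ⟨d, hd, hzd⟩ := hz₀x
      have hzx' : lamM (ιN z₀) = lamM Xm := (hlam.2 (by
        simp only [Xm, ιN, Subgroup.coe_inclusion]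
        rw [hzd, mul_inv_rev, mul_assoc, inv_mul_cancel, mul_one]
        exact inv_mem hd))
      have h5 : ((z₀ : Ω) ^ c)⁻¹ * (x : Ω) ^ c ∈ ZΩ := by
        have h6 := hlam.1 (show lamM (ιN z₀ ^ c) = lamM (Xm ^ c) by rw [map_zpow, map_zpow, hzx'])
        simpa [Xm, ιN] using h6
      have h7 : ((x : Ω) ^ c)⁻¹ * ((z₀ : Ω) ^ c * r') ∈ ZΩ := by
        have := ZΩ.mul_mem (inv_mem h5) hr'
        convert this using 1
        group
      rw [← hcr] at h7
      convert h7 using 1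
      group
    have hy1 : lamM ⟨y, hy⟩ * lamM U * (lamM ⟨y, hy⟩)⁻¹ = lamM U * lamM Xm ^ (1 : ℤ) := by
      rw [zpow_one, ← map_inv, ← map_mul, ← map_mul, ← map_mul, eq_comm, hlam]
      simp only [U, Xm, ιN, ι, Subgroup.coe_mul, Subgroup.coe_inv, Subgroup.coe_inclusion]
      rw [hyu, inv_mul_cancel_left]
      exact hdu
    have hy2 : lamM ⟨y, hy⟩ * lamM Xm * (lamM ⟨y, hy⟩)⁻¹ = lamM Xm := by
      rw [← map_inv, ← map_mul, ← map_mul, eq_comm, hlam]
      exact hstepCZ y hy _ hxC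
    set k : ℕ := (-(c : ZMod p)).val with hk
    have h3 := iter_conj hy1 hy2 k
    rw [← map_pow] at h3
    have hXp : lamM Xm ^ p = 1 := by
      rw [← map_pow]
      exact (QuotientGroup.eq_one_iff _).2 (hVZ (hΦV (by simpa [Xm, ιN] using D.pow_mem_phi h x.2)))
    have hcom : lamM (⟨y, hy⟩ ^ k) * lamM Xm * (lamM (⟨y, hy⟩ ^ k))⁻¹ = lamM Xm := by
      rw [← map_inv, ← map_mul, ← map_mul, eq_comm, hlam]
      exact hstepCZ _ (pow_mem hy k) _ hxC
    set M' := (⟨y, hy⟩ : normalizerIn S (normalizerIn S E)) ^ k * m with hM'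
    have h4 : lamM M' * lamM U * (lamM M')⁻¹ = lamM U := by
      calc lamM M' * lamM U * (lamM M')⁻¹
          = lamM (⟨y, hy⟩ ^ k) * (lamM m * lamM U * (lamM m)⁻¹) * (lamM (⟨y, hy⟩ ^ k))⁻¹ := by rw [hM', map_mul]; group
        _ = lamM (⟨y, hy⟩ ^ k) * lamM U * (lamM (⟨y, hy⟩ ^ k))⁻¹ *
            (lamM (⟨y, hy⟩ ^ k) * lamM Xm * (lamM (⟨y, hy⟩ ^ k))⁻¹) ^ c := by rw [hm1, conj_zpow]; group
        _ = lamM U := by
          rw [h3, hcom, mul_assoc, ← zpow_add, zpow_congr hXp (j := 0) (by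
            push_cast
            rw [hk, ZMod.natCast_zmod_val]
            ring), zpow_zero, mul_one]
    have hM'N : (M' : Ω) ∈ normalizerIn S E := by
      by_contra hne
      refine hnotnorm _ M'.2 hne ?_
      rw [← map_inv, ← map_mul, ← map_mul, eq_comm, hlam] at h4
      have h5 := E.mul_mem u.2 (hZE h4)
      simpa [U, ιN, ι] using h5
    have := Subgroup.mul_mem_sup (inv_mem (Subgroup.pow_mem _ (Subgroup.mem_zpowers
      (⟨y, hy⟩ : normalizerIn S (normalizerIn S E))) k)) (show M' ∈ (normalizerIn S E).subgroupOf _ from hM'N)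
    rwa [hM', inv_mul_cancel_left] at this
  have hYN' : Y ∉ ((normalizerIn S E).subgroupOf (normalizerIn S (normalizerIn S E))).map π := by
    rintro ⟨m, hm, he⟩
    have h1 : m⁻¹ * ⟨y, hy⟩ ∈ phiIn E (normalizerIn S (normalizerIn S E)) := QuotientGroup.eq.1 he
    have h2 := (normalizerIn S E).mul_mem hm (hEN (phi_le E h1))
    exact hyN (by simpa using h2)
  have hidxN : ∀ m : normalizerIn S (normalizerIn S E),
      m ^ p ∈ (normalizerIn S E).subgroupOf (normalizerIn S (normalizerIn S E)) := by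
    set B := (normalizerIn S E).subgroupOf (normalizerIn S (normalizerIn S E)) with hB
    -- the cyclic top factor has order `p`
    have hyp : (⟨y, hy⟩ : normalizerIn S (normalizerIn S E)) ^ p ∈ B := by
      set U : normalizerIn S (normalizerIn S E) := ιN (ι u)
      set Xm : normalizerIn S (normalizerIn S E) := ιN x
      have hy1 : lamM ⟨y, hy⟩ * lamM U * (lamM ⟨y, hy⟩)⁻¹ = lamM U * lamM Xm ^ (1 : ℤ) := by
        rw [zpow_one, ← map_inv, ← map_mul, ← map_mul, ← map_mul, eq_comm, hlam]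
        simp only [U, Xm, ιN, ι, Subgroup.coe_mul, Subgroup.coe_inv, Subgroup.coe_inclusion]
        rw [hyu, inv_mul_cancel_left]
        exact hdu
      have hy2 : lamM ⟨y, hy⟩ * lamM Xm * (lamM ⟨y, hy⟩)⁻¹ = lamM Xm := by
        rw [← map_inv, ← map_mul, ← map_mul, eq_comm, hlam]
        exact hstepCZ y hy _ hxC
      have h3 := iter_conj hy1 hy2 p
      have hXp : lamM Xm ^ p = 1 := by
        rw [← map_pow]
        exact (QuotientGroup.eq_one_iff _).2 (hVZ (hΦV (by simpa [Xm, ιN] using D.pow_mem_phi h x.2)))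
      rw [one_mul, zpow_natCast, hXp, mul_one, ← map_pow, ← map_inv, ← map_mul, ← map_mul, eq_comm, hlam] at h3
      by_contra hne
      refine hnotnorm _ (pow_mem hy p) hne ?_
      have h5 := E.mul_mem u.2 (hZE h3)
      simpa [U, ιN, ι] using h5
    intro m
    rw [← QuotientGroup.eq_one_iff (N := B), QuotientGroup.mk_pow]
    obtain ⟨s, hs, t, ht, rfl⟩ := Subgroup.mem_sup_of_normal_right.1 (htopM ▸ Subgroup.mem_top m)
    obtain ⟨c, rfl⟩ := Subgroup.mem_zpowers_iff.1 hs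
    rw [QuotientGroup.mk_mul, (QuotientGroup.eq_one_iff t).2 ht, mul_one, QuotientGroup.mk_zpow, ← zpow_natCast,
      ← zpow_mul, mul_comm, zpow_mul, zpow_natCast, ← QuotientGroup.mk_pow, (QuotientGroup.eq_one_iff _).2 hyp,
      one_zpow]
  refine frame_false (g := gQ) (hR3.quotient _) (hMp.to_quotient _) (by have := h.hp; omega) D.hab D.ha2 D.ha3
    D.ha5 hFr (Y := Y) ?_ hYN' (fun q => ?_) hYu hYx hYw hYv hgU hgV hgW hgX
  · have := congrArg (Subgroup.map π) htopM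
    rw [Subgroup.map_sup, MonoidHom.map_zpowers, Subgroup.map_top_of_surjective π (QuotientGroup.mk'_surjective _)] at this
    exact this
  · obtain ⟨m, rfl⟩ := QuotientGroup.mk'_surjective (phiIn E (normalizerIn S (normalizerIn S E))) q
    exact ⟨m ^ p, hidxN m, map_pow _ m p⟩

end CfsgLib.Fsys.RankThree
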