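import Cfsg.Agent.Lib.FusionSystem.RankThree.Invariant

/-! The centre modulo the Frattini subgroup is normalized by the normalizer of the normalizer. -/

set_option autoImplicit false
set_option linter.unusedSectionVars false
set_option linter.style.haveILetI false
set_option maxHeartbeats 800000

open Cfsg Cfsg.FusionSystem
open scoped commutatorElement

namespace CfsgLib.Fsys.RankThree

universe u

variable {Ω : Type u} [Group Ω] {S : Subgroup Ω} [Finite S] {p : ℕ} [hpf : Fact p.Prime] {F : FusionSystem S}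
  {E : Subgroup Ω}

variable {x : normalizerIn S E} {u v w : E} {f : Ω → Ω} {a b : ℤ}

namespace TData

variable (h : Hyp p F E) (D : TData p F E h.le x u v w f a b)
include D

theorem pow_mem_phi {n : Ω} (hn : n ∈ normalizerIn S E) : n ^ p ∈ phi E := by
  haveI := phiIn_normal (S := S) h.le
  have := (D.frame h).pow_eq_one (q := QuotientGroup.mk (⟨n, hn⟩ : normalizerIn S E))
    (by have := h.hp; omega) (Subgroup.mem_top _)
  rw [← QuotientGroup.mk_pow, QuotientGroup.eq_one_iff, Subgroup.mem_subgroupOf] at this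
  simpa using this

theorem commutator_mem_vline {m n : Ω} (hm : m ∈ normalizerIn S E) (hn : n ∈ normalizerIn S E) :
    ⁅m, n⁆ ∈ (vline v).map E.subtype := by
  haveI := h.finite
  haveI := phiIn_normal (S := S) h.le
  obtain ⟨i, hi⟩ := (D.frame h).commutator_mem (q := QuotientGroup.mk (⟨m, hm⟩ : normalizerIn S E))
    (r := QuotientGroup.mk (⟨n, hn⟩ : normalizerIn S E)) (Subgroup.mem_top _) (Subgroup.mem_top _)
  set c := ⁅(⟨m, hm⟩ : normalizerIn S E), (⟨n, hn⟩ : normalizerIn S E)⁆ with hc
  set vi := Subgroup.inclusion (le_normalizerIn h.le : E ≤ normalizerIn S E) (v ^ i) with hvi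
  have h1 : vi⁻¹ * c ∈ phiIn E (normalizerIn S E) := QuotientGroup.eq.1 (by
    rw [hvi, hc, map_zpow, QuotientGroup.mk_zpow, ← hi]
    exact (map_commutatorElement (QuotientGroup.mk' _) _ _).symm)
  rw [Subgroup.mem_subgroupOf] at h1
  obtain ⟨g, hg, hge⟩ := h1
  refine ⟨v ^ i * g, (vline v).mul_mem ((mem_vline (v := v) (e := v ^ i)).2 ⟨i, map_zpow _ _ _⟩) (frattini_le_vline v hg), ?_⟩
  have hge' : (g : Ω) = ((vi⁻¹ * c : normalizerIn S E) : Ω) := hge
  show ((v ^ i * g : E) : Ω) = ⁅m, n⁆
  rw [Subgroup.coe_mul, hge', hvi]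
  simp [hc, commutatorElement_def]

theorem mem_centre_iff {z : Ω} :
    z ∈ (plane v w).map E.subtype ↔ z ∈ normalizerIn S E ∧ ∀ m ∈ normalizerIn S E, ⁅z, m⁆ ∈ phi E := by
  haveI := h.finite
  have hEN : E ≤ normalizerIn S E := le_normalizerIn h.le
  have hfix : ∀ (e : E) (m : Ω) (hm : m ∈ normalizerIn S E),
      ⁅(e : Ω), m⁆ ∈ phi E ↔ e ∈ fixMod ((autHom F h.le ⟨m, hm⟩ : F.autGroup E) : MulAut E) := by
    intro e m hm
    rw [mem_fixMod, (inferInstance : (frattini ↥E).Normal).mem_comm_iff, ← inv_mem_iff, ← mem_phi]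
    refine Iff.of_eq (congrArg (· ∈ phi E) ?_)
    simp [commutatorElement_def, mul_assoc]
  constructor
  · rintro ⟨e, he, rfl⟩
    refine ⟨hEN e.2, fun m hm => (hfix e m hm).2 ?_⟩
    by_cases hmE : m ∈ E
    · exact h.fix_of_mem ⟨m, hm⟩ hmE e
    · rw [D.fix_eq h ⟨m, hm⟩ hmE]
      exact he
  · rintro ⟨hz, hall⟩
    by_cases hzE : z ∈ E
    · refine ⟨⟨z, hzE⟩, ?_, rfl⟩
      rw [← D.fix_eq h x D.notMem]
      exact (hfix ⟨z, hzE⟩ x x.2).1 (hall x x.2)
    · exfalso
      refine D.u_notMem h ?_
      rw [← D.fix_eq h ⟨z, hz⟩ hzE]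
      refine (hfix u z hz).1 ?_
      rw [← commutatorElement_inv]
      exact inv_mem (hall u (hEN u.2))

/-- The commutators with the third generator are small. -/
theorem w_commutator : ∀ g : E, ⁅w, g⁆ ∈ phiTwo p E := by
  haveI := h.finite
  obtain ⟨α, -, hαu, hαv, hαw⟩ := D.swap
  obtain ⟨β, -, -, hβu, hβv, hβw⟩ := D.torus
  obtain ⟨k, hk⟩ := h.autHom_pow x
  have hxp : (x : Ω) ^ p ∈ phi E := D.pow_mem_phi h x.2
  obtain ⟨z, hz, hzx⟩ := hxp
  refine transv_commutator h.pgroup h.hp h.hrk h.rank (φ := ((autHom F h.le x : F.autGroup E) : MulAut E))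
    (α := α) (β := β) (u := u) (v := v) (w := w) (a := a) (b := b) D.gen
    (mq_eq.1 (by rw [map_mul]; exact D.actu.symm)) (mq_eq.1 D.actv.symm) hk hz (fun g => ?_)
    (mq_eq.1 hαu.symm) ?_ (mq_eq.1 hαw.symm) (mq_eq.1 (by rw [map_zpow]; exact hβu.symm))
    (mq_eq.1 (by rw [map_zpow]; exact hβv.symm)) (mq_eq.1 hβw.symm) D.hab D.ha2
  · apply Subtype.ext
    have hz' : (z : Ω) = (x : Ω) ^ p := hzx
    rw [← Subgroup.coe_pow, ← map_pow, autHom_apply]
    simp [hz']
  · have := mq_eq.1 (show mq E u⁻¹ = mq E (α v) by rw [map_inv]; exact hαv.symm)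
    rwa [inv_inv] at this

theorem conj_invariant {y : Ω} (hy : y ∈ normalizerIn S (normalizerIn S E)) :
    (∀ z ∈ phi E, y * z * y⁻¹ ∈ phi E) ∧
      ∀ z ∈ (plane v w).map E.subtype, y * z * y⁻¹ ∈ (plane v w).map E.subtype := by
  classical
  haveI := h.finite
  haveI : Finite (normalizerIn S E) := finite_of_le_base normalizerIn_le
  have hEN : E ≤ normalizerIn S E := le_normalizerIn h.le
  have hEp := h.pgroup
  have hphi : ∀ z ∈ phi E, y * z * y⁻¹ ∈ phi E := by
    by_cases hyN : y ∈ normalizerIn S E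
    · rintro _ ⟨g, hg, rfl⟩
      exact ⟨conjAut E hyN.2 g, frattini_invariant _ hg, rfl⟩
    -- either the Frattini subgroup is fixed or two elements of the conjugate have a large commutator
    have hcase : ∀ y ∈ normalizerIn S (normalizerIn S E), y ∉ normalizerIn S E →
        (∀ z ∈ phi E, y * z * y⁻¹ ∈ phi E) ∨
          (¬ plane v w ≤ (cnj y E).subgroupOf E ∧ ∃ b ∈ cnj y E, ∃ c ∈ cnj y E, ⁅b, c⁆ ∉ phi E) := by
      intro y hy hyN
      have hm := h.meet D.card hy hyN
      obtain ⟨n, hn, hnE⟩ : ∃ n ∈ cnj y E, n ∉ E := by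
        by_contra hno
        push Not at hno
        exact hm.ne (Subgroup.eq_of_le_of_card_ge hno (card_cnj y E).ge).ge
      by_cases hZ : plane v w ≤ (cnj y E).subgroupOf E
      · left
        -- the conjugate is abelian of exponent `p` modulo the Frattini subgroup
        have hZm : ∀ g : E, g ∈ (cnj y E).subgroupOf E → g ∈ plane v w := by
          intro g hg
          have hpi : (plane v w).index = p := by
            obtain ⟨j, hj⟩ := hEp.index (plane v w)
            have hj0 : j ≠ 0 := fun e => D.u_notMem h (by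
              rw [Subgroup.index_eq_one.1 (show (plane v w).index = 1 by rw [hj, e, pow_zero])]
              exact Subgroup.mem_top u)
            have hd := Subgroup.index_dvd_of_le hZ
            rw [hm.index, hj] at hd
            have hle : (plane v w).index ≤ p := by
              obtain ⟨i, hi⟩ := h.autHom_pow x
              rw [← D.fix_eq h x D.notMem]
              -- the shift takes at most `p` values
              let χ : ZMod p → E ⧸ fixMod ((autHom F h.le x : F.autGroup E) : MulAut E) := fun c =>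
                ((u ^ (c.val : ℤ) : E) : E ⧸ fixMod ((autHom F h.le x : F.autGroup E) : MulAut E))
              have hχ : Function.Surjective χ := by
                intro q
                induction q using QuotientGroup.induction_on with
                | H g =>
                  obtain ⟨i, j', k', hg'⟩ := D.gen g
                  refine ⟨(i : ZMod p), QuotientGroup.eq.2 ?_⟩
                  rw [D.fix_eq h x D.notMem]
                  refine (mem_plane h).2 ⟨j', k', ?_⟩
                  rw [map_mul, map_inv, map_zpow, zpow_congr (PGroup.Frattini.quotient_pow_eq_one hEp (mq E u))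
                    (intCast_val _), hg', mul_assoc, inv_mul_cancel_left]
              rw [Subgroup.index_eq_card]
              exact (Nat.card_le_card_of_surjective χ hχ).trans_eq (Nat.card_zmod p)
            rw [hj] at hle ⊢
            have := (Nat.pow_le_pow_iff_right hpf.out.one_lt).1 (hle.trans_eq (pow_one p).symm)
            rw [show j = 1 by omega, pow_one]
          exact (eq_of_index_eq hZ (hpi.trans hm.index.symm)).ge hg
        set T : Subgroup (normalizerIn S E) := (cnj y E).subgroupOf (normalizerIn S E)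
        haveI := phiIn_normal (S := S) h.le
        let π := QuotientGroup.mk' (phiIn E (normalizerIn S E))
        let ι := Subgroup.inclusion hEN
        -- generated by one element over the plane
        have hTgen : T ≤ Subgroup.zpowers (⟨n, hm.le hn⟩ : normalizerIn S E) ⊔ (plane v w).map ι := by
          intro t ht
          set B := E.subgroupOf (normalizerIn S E)
          haveI : B.Normal := ⟨fun z hz m => (mem_normalizer_iff'.1 m.2.2).1 _ hz⟩
          have hBidx : B.index = p := by
            have h1 := Subgroup.card_mul_index B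
            rw [Nat.card_congr (Subgroup.subgroupOfEquivOfLe hEN).toEquiv, D.card, mul_comm p] at h1
            exact Nat.eq_of_mul_eq_mul_left Nat.card_pos h1
          have htop : Subgroup.zpowers (⟨n, hm.le hn⟩ : normalizerIn S E) ⊔ B = ⊤ := by
            refine Subgroup.index_eq_one.1 (((Nat.dvd_prime hpf.out).1
              ((Subgroup.index_dvd_of_le le_sup_right).trans (dvd_of_eq hBidx))).resolve_right fun e => ?_)
            exact hnE ((eq_of_index_eq le_sup_right (hBidx.trans e.symm)).ge
              (Subgroup.mem_sup_left (Subgroup.mem_zpowers _)))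
          obtain ⟨z, hz, r, hr, rfl⟩ := Subgroup.mem_sup_of_normal_right.1 (htop ▸ Subgroup.mem_top t)
          refine Subgroup.mul_mem_sup hz ⟨⟨(r : Ω), hr⟩, hZm _ ?_, Subtype.ext rfl⟩
          have hzT : z ∈ T := (Subgroup.zpowers_le.2 (show (⟨n, hm.le hn⟩ : normalizerIn S E) ∈ T from hn)) hz
          have := T.mul_mem (inv_mem hzT) ht
          rwa [inv_mul_cancel_left] at this
        have habT : ∀ s ∈ T, ∀ t ∈ T, ⁅s, t⁆ ∈ phiIn E (normalizerIn S E) := by
          intro s hs t ht
          rw [← QuotientGroup.eq_one_iff]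
          show π _ = 1
          rw [map_commutatorElement, commutatorElement_eq_one_iff_commute]
          have hcen : ∀ g ∈ plane v w, ∀ m : normalizerIn S E, Commute (π (ι g)) (π m) := fun g hg m => by
            rw [← commutatorElement_eq_one_iff_commute, ← map_commutatorElement]
            exact (QuotientGroup.eq_one_iff _).2 (((D.mem_centre_iff h).1 ⟨g, hg, rfl⟩).2 m m.2)
          have hle : Subgroup.zpowers (⟨n, hm.le hn⟩ : normalizerIn S E) ⊔ (plane v w).map ι ≤
              (Subgroup.centralizer {π ⟨n, hm.le hn⟩}).comap π :=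
            sup_le (Subgroup.zpowers_le.2 (Subgroup.mem_centralizer_iff.2 (by simp))) (by
              rintro _ ⟨g, hg, rfl⟩
              exact Subgroup.mem_centralizer_iff.2 (by simpa using (hcen g hg _).symm.eq))
          have hn1 : Commute (π t) (π ⟨n, hm.le hn⟩) :=
            ((Subgroup.mem_centralizer_iff.1 (hle (hTgen ht))) _ rfl).symm
          have hle2 : Subgroup.zpowers (⟨n, hm.le hn⟩ : normalizerIn S E) ⊔ (plane v w).map ι ≤
              (Subgroup.centralizer {π t}).comap π :=
            sup_le (Subgroup.zpowers_le.2 (Subgroup.mem_centralizer_iff.2 (by simpa using hn1.eq))) (by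
              rintro _ ⟨g, hg, rfl⟩
              exact Subgroup.mem_centralizer_iff.2 (by simpa using (hcen g hg _).symm.eq))
          exact ((Subgroup.mem_centralizer_iff.1 (hle2 (hTgen hs))) _ rfl).symm
        let J : Subgroup E := ((phi E).comap (MulAut.conj y).toMonoidHom).comap E.subtype
        have hJ : frattini ↥E ≤ J := by
          refine LocalEven.Residual.frattini_le (p := p) (fun s t => ?_) fun s => ?_
          · have h1 := habT ⟨y * s * y⁻¹, hm.le ⟨s, s.2, rfl⟩⟩ ⟨s, s.2, rfl⟩ ⟨y * t * y⁻¹, hm.le ⟨t, t.2, rfl⟩⟩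
              ⟨t, t.2, rfl⟩
            rw [Subgroup.mem_subgroupOf] at h1
            show y * ((⁅s, t⁆ : E) : Ω) * y⁻¹ ∈ phi E
            convert h1 using 1
            simp [commutatorElement_def, mul_assoc]
          · show y * ((s ^ p : E) : Ω) * y⁻¹ ∈ phi E
            rw [Subgroup.coe_pow, ← conj_pow]
            exact D.pow_mem_phi h (hm.le ⟨s, s.2, rfl⟩)
        rintro _ ⟨g, hg, rfl⟩
        exact hJ hg
      · right
        refine ⟨hZ, ?_⟩
        obtain ⟨d, hd, hdp⟩ : ∃ d, d ∈ (cnj y E).subgroupOf E ∧ d ∉ plane v w := by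
          by_contra hno
          push Not at hno
          refine hZ ?_
          have hne : plane v w ≠ ⊤ := fun e => D.u_notMem h (e ▸ Subgroup.mem_top u)
          rcases (Nat.dvd_prime hpf.out).1 ((Subgroup.index_dvd_of_le
            (show (cnj y E).subgroupOf E ≤ plane v w from hno)).trans (dvd_of_eq hm.index)) with h1 | h1
          · exact absurd (Subgroup.index_eq_one.1 h1) hne
          · exact (eq_of_index_eq (show (cnj y E).subgroupOf E ≤ plane v w from hno) (hm.index.trans h1.symm)).ge
        refine ⟨(d : Ω)⁻¹, inv_mem hd, n, hn, fun hc => hdp ?_⟩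
        rw [← D.fix_eq h ⟨n, hm.le hn⟩ hnE, mem_fixMod, ← mem_phi]
        convert hc using 1
        simp [commutatorElement_def, mul_assoc]
    refine (hcase y hy hyN).resolve_right ?_
    rintro ⟨hZ, hpair⟩
    have hy' : y⁻¹ ∈ normalizerIn S (normalizerIn S E) := inv_mem hy
    have hyN' : y⁻¹ ∉ normalizerIn S E := fun hh => hyN (by simpa using inv_mem hh)
    have hm := h.meet D.card hy hyN
    -- the Frattini subgroup moves
    have hmove : ¬ ∀ z ∈ phi E, y⁻¹ * z * (y⁻¹)⁻¹ ∈ phi E := by
      intro hall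
      obtain ⟨b, hb, c, hc, hbc⟩ := hpair
      rw [mem_cnj] at hb hc
      have h1 : ((⁅(⟨_, hb⟩ : E), ⟨_, hc⟩⁆ : E) : Ω) ∈ phi E :=
        mem_phi.2 (PGroup.Frattini.commutatorElement_mem_frattini hEp _ _)
      haveI : Finite (phi E) := finite_of_le_base ((phi_le E).trans h.le)
      have hn := mem_normalizer_iff'.1 (mem_normalizer_of_map_le hall)
      have h2 := hn.2 _ h1
      rw [inv_inv] at h2
      refine hbc ?_
      convert h2 using 1
      simp [commutatorElement_def, mul_assoc]
    obtain ⟨-, b', hb', c', hc', hbc'⟩ := (hcase y⁻¹ hy' hyN').resolve_left hmove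
    rw [mem_cnj, inv_inv] at hb' hc'
    have hcommE : ¬ ∀ s t : E, ⁅(s : Ω), (t : Ω)⁆ ∈ cnj y (phi E) := by
      intro hall
      refine hbc' ?_
      have := hall ⟨_, hb'⟩ ⟨_, hc'⟩
      rw [mem_cnj] at this
      convert this using 1
      simp [commutatorElement_def, mul_assoc]
    set DE := (cnj y E).subgroupOf E with hDE
    set Φ' : Subgroup E := (cnj y (phi E)).subgroupOf E with hΦ'
    set K : Subgroup E := frattini ↥E ⊓ Φ' with hK
    have hΦ'inv : ∀ n : normalizerIn S E, ∀ g ∈ Φ', ((autHom F h.le n : F.autGroup E) : MulAut E) g ∈ Φ' := by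
      intro n g hg
      rw [hΦ', Subgroup.mem_subgroupOf, mem_cnj] at hg ⊢
      rw [autHom_apply]
      obtain ⟨r, hr, he⟩ := hg
      have hn' : y⁻¹ * (n : Ω) * y ∈ normalizerIn S E := (mem_normalizer_iff'.1 hy.2).2 _ n.2
      refine ⟨conjAut E hn'.2 r, frattini_invariant _ hr, ?_⟩
      have he' : (r : Ω) = y⁻¹ * g * y := he
      simp [he', mul_assoc]
    have hΦ'D : Φ' ≤ DE := fun g hg => by
      rw [hDE, Subgroup.mem_subgroupOf, mem_cnj]
      rw [hΦ', Subgroup.mem_subgroupOf, mem_cnj] at hg
      exact phi_le E hg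
    have hKinv : ∀ n : normalizerIn S E, ∀ g ∈ K, ((autHom F h.le n : F.autGroup E) : MulAut E) g ∈ K :=
      fun n g hg => ⟨frattini_invariant _ hg.1, hΦ'inv n g hg.2⟩
    haveI hKn : K.Normal := ⟨fun g hg r => by
      have := hKinv ⟨(r : Ω), hEN r.2⟩ g hg
      have e : ((autHom F h.le ⟨(r : Ω), hEN r.2⟩ : F.autGroup E) : MulAut E) g = r * g * r⁻¹ :=
        Subtype.ext (by simp)
      rwa [e] at this⟩
    have hΦ'c : Nat.card Φ' = Nat.card (frattini ↥E) := by
      rw [hΦ', Nat.card_congr (Subgroup.subgroupOfEquivOfLe hm.phi_le).toEquiv, card_cnj,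
        Subgroup.card_map_of_injective E.subtype_injective]
    have hKΦ : K ≤ frattini ↥E := inf_le_left
    have hKne : K ≠ frattini ↥E := fun e => hcommE fun s t => by
      have h1 : ⁅s, t⁆ ∈ K := e.symm ▸ PGroup.Frattini.commutatorElement_mem_frattini hEp s t
      have h2 : (⁅s, t⁆ : E) ∈ Φ' := h1.2
      rw [hΦ', Subgroup.mem_subgroupOf] at h2
      simpa [commutatorElement_def] using h2
    have hpowD : ∀ g ∈ DE, g ^ p ∈ K := fun g hg => by
      refine ⟨PGroup.Frattini.pow_mem_frattini hEp g, ?_⟩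
      rw [hDE, Subgroup.mem_subgroupOf, mem_cnj] at hg
      show g ^ p ∈ Φ'
      rw [hΦ', Subgroup.mem_subgroupOf, mem_cnj]
      refine ⟨⟨_, hg⟩ ^ p, PGroup.Frattini.pow_mem_frattini hEp _, ?_⟩
      show (y⁻¹ * (g : Ω) * y) ^ p = y⁻¹ * ((g ^ p : E) : Ω) * y
      rw [Subgroup.coe_pow]
      have := conj_pow (i := p) (a := y⁻¹) (b := (g : Ω))
      rwa [inv_inv] at this
    have hcommD : ∀ s ∈ DE, ∀ t ∈ DE, ⁅s, t⁆ ∈ K := fun s hs t ht => by
      refine ⟨PGroup.Frattini.commutatorElement_mem_frattini hEp s t, ?_⟩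
      rw [hDE, Subgroup.mem_subgroupOf, mem_cnj] at hs ht
      show ⁅s, t⁆ ∈ Φ'
      rw [hΦ', Subgroup.mem_subgroupOf, mem_cnj]
      refine ⟨⁅⟨_, hs⟩, ⟨_, ht⟩⁆, PGroup.Frattini.commutatorElement_mem_frattini hEp _ _, ?_⟩
      simp [commutatorElement_def, mul_assoc]
    have hDEc : Nat.card DE = Nat.card (frattini ↥E) * p ^ 2 := by
      have h2 := Subgroup.card_mul_index DE
      rw [hm.index, h.card, pow_succ p 2, ← mul_assoc] at h2
      exact Nat.eq_of_mul_eq_mul_right hpf.out.pos h2
    have hKi : Nat.card (frattini ↥E) = Nat.card K * p := by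
      refine le_antisymm ?_ ?_
      · have h1 := h.rank DE K (hKΦ.trans hm.frattini_le) hcommD hpowD
        rw [hDEc] at h1
        refine Nat.le_of_mul_le_mul_right (h1.trans (le_of_eq ?_)) (pow_pos hpf.out.pos 2)
        ring
      · have h1 := CfsgLib.Fusion.MaxClass.card_mul_le_of_lt hEp (lt_of_le_of_ne hKΦ hKne)
        rwa [mul_comm]
    have hrelK : ∀ {B : Subgroup E}, K ≤ B → Nat.card B = Nat.card (frattini ↥E) → K.relIndex B = p := by
      intro B hKB hB
      have h1 := card_of_relIndex hKB rfl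
      rw [hB, hKi] at h1
      exact (Nat.eq_of_mul_eq_mul_left Nat.card_pos h1).symm
    have hshiftΦ : ∀ (n : normalizerIn S E), ∀ g ∈ frattini ↥E,
        g⁻¹ * ((autHom F h.le n : F.autGroup E) : MulAut E) g ∈ K := fun n g hg => by
      obtain ⟨j, hj⟩ := h.autHom_pow n
      exact SmallEssential.shift_small hEp hKΦ (hrelK hKΦ rfl).le hj (hKinv n)
        (fun r hr => frattini_invariant _ hr) hg
    have hshiftΦ' : ∀ (n : normalizerIn S E), ∀ g ∈ Φ',
        g⁻¹ * ((autHom F h.le n : F.autGroup E) : MulAut E) g ∈ K := fun n g hg => by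
      obtain ⟨j, hj⟩ := h.autHom_pow n
      exact SmallEssential.shift_small hEp inf_le_right (hrelK inf_le_right hΦ'c).le hj (hKinv n) (hΦ'inv n) hg
    have hΦ'plane : Φ' ≤ plane v w := fun g hg => by
      rw [← D.fix_eq h x D.notMem, mem_fixMod]
      exact hKΦ (hshiftΦ' x g hg)
    let κ := QuotientGroup.mk' K
    let C : Subgroup E := (Subgroup.center (E ⧸ K)).comap κ
    have hC : ∀ {g : E}, (∀ r : E, ⁅g⁻¹, r⁆ ∈ K) → g ∈ C := by
      intro g hg
      rw [Subgroup.mem_comap, Subgroup.mem_center_iff]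
      intro q
      obtain ⟨r, rfl⟩ := QuotientGroup.mk'_surjective K q
      have : κ ⁅g⁻¹, r⁆ = 1 := (QuotientGroup.eq_one_iff _).2 (hg r)
      rw [map_commutatorElement, map_inv, commutatorElement_eq_one_iff_commute, Commute.inv_left_iff] at this
      exact this.eq.symm
    have hcs : ∀ g r : E,
        ⁅g⁻¹, r⁆ = g⁻¹ * ((autHom F h.le ⟨(r : Ω), hEN r.2⟩ : F.autGroup E) : MulAut E) g :=
      fun g r => Subtype.ext (by simp [commutatorElement_def, mul_assoc])
    have hvC : v ∈ C := by
      -- `v` lies in the product of the two Frattini subgroups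
      have hsup : frattini ↥E ⊔ Φ' = plane v w ⊓ DE := by
        refine Subgroup.eq_of_le_of_card_ge (sup_le (le_inf (frattini_le_plane v w) hm.frattini_le)
          (le_inf hΦ'plane hΦ'D)) ?_
        have h1 : frattini ↥E < frattini ↥E ⊔ Φ' := lt_of_le_not_ge le_sup_left fun hh =>
          hKne (le_antisymm hKΦ (le_inf le_rfl
            (Subgroup.eq_of_le_of_card_ge (le_sup_right.trans hh) hΦ'c.ge).ge))
        have h2 := CfsgLib.Fusion.MaxClass.card_mul_le_of_lt hEp h1
        have h3 : plane v w ⊓ DE < DE := lt_of_le_not_ge inf_le_right fun hh => by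
          refine hZ ?_
          have hne : plane v w ≠ ⊤ := fun e => D.u_notMem h (e ▸ Subgroup.mem_top u)
          have hle : DE ≤ plane v w := fun g hg => (hh hg).1
          rcases (Nat.dvd_prime hpf.out).1 ((Subgroup.index_dvd_of_le hle).trans (dvd_of_eq hm.index)) with h1 | h1
          · exact absurd (Subgroup.index_eq_one.1 h1) hne
          · exact (eq_of_index_eq hle (hm.index.trans h1.symm)).ge
        have h4 := CfsgLib.Fusion.MaxClass.card_mul_le_of_lt hEp h3
        rw [hDEc, pow_two, ← mul_assoc] at h4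
        exact (Nat.le_of_mul_le_mul_left (h4.trans (le_of_eq (mul_comm _ _))) hpf.out.pos).trans
          ((le_of_eq (mul_comm _ _)).trans h2)
      have hvDE : v ∈ DE := by
        obtain ⟨k, hk⟩ := h.autHom_pow x
        haveI hDn : DE.Normal := ⟨fun g hg r => by
          have := hm.conj_mem r (hEN r.2) _ hg
          exact this⟩
        have h1 : u⁻¹ * ((autHom F h.le x : F.autGroup E) : MulAut E) u ∈ DE :=
          SmallEssential.shift_small hEp le_top (by rw [Subgroup.relIndex_top_right, hm.index]) hk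
            (fun g hg => hm.conj_mem x x.2 _ hg) (fun _ _ => Subgroup.mem_top _) (Subgroup.mem_top u)
        have h2 : v⁻¹ * (u⁻¹ * ((autHom F h.le x : F.autGroup E) : MulAut E) u) ∈ frattini ↥E := by
          have h3 := mq_eq.1 (show mq E (u * v) = mq E (((autHom F h.le x : F.autGroup E) : MulAut E) u) by
            rw [map_mul]; exact D.actu.symm)
          rwa [mul_inv_rev, mul_assoc] at h3
        have := DE.mul_mem h1 (inv_mem (hm.frattini_le h2))
        simpa [mul_assoc] using this
      have hv : v ∈ frattini ↥E ⊔ Φ' := hsup ▸ ⟨left_mem_plane v w, hvDE⟩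
      have hle : frattini ↥E ⊔ Φ' ≤ C := sup_le (fun g hg => hC fun r => hcs g r ▸ hshiftΦ _ g hg)
        (fun g hg => hC fun r => hcs g r ▸ hshiftΦ' _ g hg)
      exact hle hv
    have h2K : phiTwo p E ≤ K := by
      refine (Subgroup.closure_le _).2 ?_
      rintro _ (⟨g, hg, rfl⟩ | ⟨g, hg, r, rfl⟩)
      · exact hpowD g (hm.frattini_le hg)
      · have h1 := hshiftΦ ⟨(r : Ω), hEN r.2⟩ g⁻¹ (inv_mem hg)
        rw [← hcs, inv_inv] at h1
        exact h1
    have hwC : w ∈ C := by
      rw [Subgroup.mem_comap, Subgroup.mem_center_iff]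
      intro q
      obtain ⟨r, rfl⟩ := QuotientGroup.mk'_surjective K q
      refine (commutatorElement_eq_one_iff_mul_comm.1 ?_).symm
      rw [← map_commutatorElement]
      exact (QuotientGroup.eq_one_iff _).2 (h2K (D.w_commutator h r))
    have hΦC : frattini ↥E ≤ C := fun g hg => hC fun r => hcs g r ▸ hshiftΦ _ g hg
    -- so `E` is abelian modulo `K`
    refine hcommE fun s t => ?_
    have hgenC : ∀ g : E, ∃ i : ℤ, ∃ c ∈ C, g = u ^ i * c := fun g => by
      obtain ⟨i, j, k, hg⟩ := D.gen g
      refine ⟨i, (u ^ i)⁻¹ * g, ?_, by rw [mul_inv_cancel_left]⟩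
      have h1 : (v ^ j * w ^ k)⁻¹ * ((u ^ i)⁻¹ * g) ∈ frattini ↥E := mq_eq.1 (by
        rw [map_mul, map_mul, map_inv, map_zpow, map_zpow, map_zpow, hg, mul_assoc, inv_mul_cancel_left])
      have := C.mul_mem (C.mul_mem (C.zpow_mem hvC j) (C.zpow_mem hwC k)) (hΦC h1)
      rwa [mul_inv_cancel_left] at this
    obtain ⟨i, c, hc, rfl⟩ := hgenC s
    obtain ⟨j, d, hd, rfl⟩ := hgenC t
    have hcomm : Commute (κ (u ^ i * c)) (κ (u ^ j * d)) := by
      rw [map_mul, map_mul, map_zpow, map_zpow]
      have hcc : ∀ {g : E}, g ∈ C → ∀ q, Commute (κ g) q := fun {g} hg q => ((Subgroup.mem_center_iff.1 hg) q).symm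
      exact (((Commute.refl _).zpow_zpow i j).mul_right (hcc hd _).symm).mul_left (hcc hc _)
    rw [← commutatorElement_eq_one_iff_commute, ← map_commutatorElement] at hcomm
    have h2 : (⁅u ^ i * c, u ^ j * d⁆ : E) ∈ Φ' := ((QuotientGroup.eq_one_iff _).1 hcomm).2
    rw [hΦ', Subgroup.mem_subgroupOf] at h2
    simpa [commutatorElement_def] using h2
  refine ⟨hphi, fun z hz => ?_⟩
  rw [D.mem_centre_iff h] at hz ⊢
  refine ⟨(mem_normalizer_iff'.1 hy.2).1 z hz.1, fun m hm => ?_⟩
  have h1 := hphi _ (hz.2 _ ((mem_normalizer_iff'.1 hy.2).2 m hm))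
  convert h1 using 1
  simp [commutatorElement_def, mul_assoc]

end TData

end CfsgLib.Fsys.RankThree
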