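import Cfsg.Agent.Lib.FusionSystem.RankThree.Setup

/-! The conjugates of the essential subgroup inside its normalizer. -/

set_option autoImplicit false
set_option linter.unusedSectionVars false
set_option linter.style.haveILetI false

open Cfsg Cfsg.FusionSystem
open scoped commutatorElement

namespace CfsgLib.Fsys.RankThree

universe u

variable {Ω : Type u} [Group Ω] {S : Subgroup Ω} [Finite S] {p : ℕ} [hpf : Fact p.Prime] {F : FusionSystem S}
  {E : Subgroup Ω}

/-- The conjugate of a subgroup. -/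
abbrev cnj (y : Ω) (H : Subgroup Ω) : Subgroup Ω := H.map (MulAut.conj y).toMonoidHom

theorem mem_cnj {y z : Ω} {H : Subgroup Ω} : z ∈ cnj y H ↔ y⁻¹ * z * y ∈ H := by
  constructor
  · rintro ⟨w, hw, rfl⟩
    simpa [mul_assoc] using hw
  · exact fun h => ⟨_, h, by simp [mul_assoc]⟩

theorem card_cnj (y : Ω) (H : Subgroup Ω) : Nat.card (cnj y H) = Nat.card H :=
  Subgroup.card_map_of_injective (MulEquiv.injective _)

theorem frattini_le_of_index {G : Type*} [Group G] [Finite G] {K : Subgroup G} (h : K.index = p) :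
    frattini G ≤ K := by
  refine frattini_le_coatom ⟨fun e => ?_, fun L hL => ?_⟩
  · rw [e, Subgroup.index_top] at h
    exact hpf.out.one_lt.ne h
  · rcases (Nat.dvd_prime hpf.out).1 (h ▸ Subgroup.index_dvd_of_le hL.le) with h1 | h1
    · exact Subgroup.index_eq_one.1 h1
    · exact absurd (eq_of_index_eq hL.le (h.trans h1.symm)) hL.ne

/-- What a conjugate of `E` by an element outside the normalizer looks like. -/
structure Meet (p : ℕ) (S E : Subgroup Ω) (y : Ω) : Prop where
  le : cnj y E ≤ normalizerIn S E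
  ne : ¬ E ≤ cnj y E
  conj_mem : ∀ n ∈ normalizerIn S E, ∀ z ∈ cnj y E, n * z * n⁻¹ ∈ cnj y E
  index : ((cnj y E).subgroupOf E).index = p
  frattini_le : frattini ↥E ≤ (cnj y E).subgroupOf E
  phi_le : cnj y (phi E) ≤ E

theorem Hyp.meet (h : Hyp p F E) (hcard : Nat.card (normalizerIn S E) = p * Nat.card E) {y : Ω}
    (hy : y ∈ normalizerIn S (normalizerIn S E)) (hyN : y ∉ normalizerIn S E) : Meet p S E y := by
  haveI := h.finite
  set N := normalizerIn S E with hNdef
  haveI : Finite N := finite_of_le_base normalizerIn_le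
  have hEN : E ≤ N := le_normalizerIn h.le
  have hle : ∀ y ∈ normalizerIn S N, cnj y E ≤ N := by
    rintro y hy _ ⟨z, hz, rfl⟩
    exact (mem_normalizer_iff'.1 hy.2).1 z (hEN hz)
  have hne : ∀ y ∈ normalizerIn S N, y ∉ N → ¬ E ≤ cnj y E := by
    intro y hy hyN hle'
    have he : E = cnj y E := by
      haveI : Finite (cnj y E) := finite_of_le_base ((hle y hy).trans normalizerIn_le)
      exact Subgroup.eq_of_le_of_card_ge hle' (card_cnj y E).le
    refine hyN ⟨hy.1, mem_normalizer_of_map_le fun z hz => ?_⟩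
    rw [he]
    exact ⟨z, hz, rfl⟩
  have hconj : ∀ y ∈ normalizerIn S N, ∀ n ∈ N, ∀ z ∈ cnj y E, n * z * n⁻¹ ∈ cnj y E := by
    intro y hy n hn z hz
    rw [mem_cnj] at hz ⊢
    have h1 : y⁻¹ * n * y ∈ N := (mem_normalizer_iff'.1 hy.2).2 n hn
    have h2 := (mem_normalizer_iff'.1 h1.2).1 _ hz
    convert h2 using 1
    group
  have hidx : ∀ y ∈ normalizerIn S N, y ∉ N → ((cnj y E).subgroupOf E).index = p := by
    intro y hy hyN
    set B := E.subgroupOf N
    set B' := (cnj y E).subgroupOf N
    haveI : B'.Normal := ⟨fun z hz n => hconj y hy n n.2 z hz⟩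
    have hB : B.index = p := by
      have h1 := Subgroup.card_mul_index B
      rw [Nat.card_congr (Subgroup.subgroupOfEquivOfLe hEN).toEquiv, hcard, mul_comm p] at h1
      exact Nat.eq_of_mul_eq_mul_left Nat.card_pos h1
    have hB' : B'.index = p := by
      have h1 := Subgroup.card_mul_index B'
      rw [Nat.card_congr (Subgroup.subgroupOfEquivOfLe (hle y hy)).toEquiv, card_cnj, hcard, mul_comm p] at h1
      exact Nat.eq_of_mul_eq_mul_left Nat.card_pos h1
    have htop : B ⊔ B' = ⊤ := by
      refine Subgroup.index_eq_one.1 (((Nat.dvd_prime hpf.out).1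
        (hB' ▸ Subgroup.index_dvd_of_le le_sup_right)).resolve_right fun e => ?_)
      have h1 := eq_of_index_eq (le_sup_right : B' ≤ B ⊔ B') (hB'.trans e.symm)
      exact hne y hy hyN fun z hz => h1.ge (Subgroup.mem_sup_left (show (⟨z, hEN hz⟩ : N) ∈ B from hz))
    have h2 : (cnj y E).relIndex E = p := by
      rw [← Subgroup.relIndex_subgroupOf hEN]
      show B'.relIndex B = p
      rw [← Subgroup.relIndex_sup_right, htop, Subgroup.relIndex_top_right, hB']
    exact h2
  have hfr : ∀ y ∈ normalizerIn S N, y ∉ N → frattini ↥E ≤ (cnj y E).subgroupOf E := fun y hy hyN =>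
    frattini_le_of_index (hidx y hy hyN)
  refine ⟨hle y hy, hne y hy hyN, hconj y hy, hidx y hy hyN, hfr y hy hyN, ?_⟩
  rintro z ⟨w, ⟨v, hv, rfl⟩, rfl⟩
  have hy' : y⁻¹ ∈ normalizerIn S N := inv_mem hy
  have h1 := hfr y⁻¹ hy' (fun hh => hyN (by simpa using inv_mem hh)) hv
  rw [Subgroup.mem_subgroupOf, mem_cnj, inv_inv] at h1
  exact h1

end CfsgLib.Fsys.RankThree
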