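import Cfsg.Agent.Lib.FusionSystem.RankThree.Transport
import Cfsg.Agent.Lib.FusionSystem.Normal
import Cfsg.Agent.Lib.FusionSystem.Generation

/-! A subgroup invariant under the automizers of `S` and of the essential subgroups is normal. -/

set_option autoImplicit false
set_option linter.unusedSectionVars false
set_option linter.style.haveILetI false

open Cfsg Cfsg.FusionSystem

namespace CfsgLib.Fsys.RankThree

universe u

variable {Ω : Type u} [Group Ω] {S : Subgroup Ω} [Finite S] {p : ℕ} [hp : Fact p.Prime] {F : FusionSystem S}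
  {E E' U : Subgroup Ω}

theorem essential_of_conj (hS : IsPGroup p S) (hE : F.IsEssential p E) (hconjE : F.IsConj E E')
    (hfn : F.IsFullyNormalized E') : F.IsEssential p E' := by
  classical
  haveI := finite_of_le_base hE.1.1
  obtain ⟨f, hf, hfi⟩ := isConj_iff.1 hconjE
  obtain ⟨e, -, hmap⟩ := exists_transport hE.1.1 hf hfi
  haveI := finite_of_le_base hfn.1
  refine ⟨⟨hfn.1, fun Q hQ => hE.1.2 Q (isConj_trans hconjE hQ)⟩, hfn, ?_⟩
  obtain ⟨hn, Y, hY⟩ := hE.2.2
  have hn' : ((Inn E').subgroupOf (F.autGroup E')).Normal := inn_normal_aut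
  refine ⟨hn', ?_⟩
  let A := F.autGroup E
  let A' := F.autGroup E'
  let φ : A ≃* A' := ((MulAut.congr e).subgroupMap A).trans (MulEquiv.subgroupCongr hmap)
  have hInn : ((Inn E).subgroupOf A).map φ.toMonoidHom = (Inn E').subgroupOf A' := by
    ext a
    constructor
    · rintro ⟨b, hb, rfl⟩
      obtain ⟨g, hg⟩ := Subgroup.mem_subgroupOf.1 hb
      refine Subgroup.mem_subgroupOf.2 ⟨e g, MulEquiv.ext fun z => ?_⟩
      show e g * z * (e g)⁻¹ = e ((b : MulAut E) (e.symm z))
      rw [← hg]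
      simp
    · intro ha
      obtain ⟨g, hg⟩ := Subgroup.mem_subgroupOf.1 ha
      refine ⟨φ.symm a, Subgroup.mem_subgroupOf.2 ⟨e.symm g, MulEquiv.ext fun z => ?_⟩, φ.apply_symm_apply a⟩
      apply e.injective
      show e (e.symm g * z * (e.symm g)⁻¹) = e ((φ.symm a : MulAut E) z)
      have h1 : e ((φ.symm a : MulAut E) (e.symm (e z))) = (((φ (φ.symm a) : A') : MulAut E')) (e z) := rfl
      rw [e.symm_apply_apply, φ.apply_symm_apply, ← hg] at h1
      rw [h1]
      simp
  let ψ := QuotientGroup.congr ((Inn E).subgroupOf A) ((Inn E').subgroupOf A') φ hInn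
  exact ⟨_, stronglyPEmbedded_map ψ hY⟩

/-- The image of a normal essential subgroup under an automorphism of `S`. -/
theorem essential_image (hS : IsPGroup p S) (hE : F.IsEssential p E) (hn : S ≤ Subgroup.normalizer (E : Set Ω))
    {α : MulAut S} (hα : α ∈ F.autGroup S) : F.IsEssential p (img (autFn α) E) := by
  have hf := ((mem_autGroup_iff_fn le_rfl).1 hα).mono hE.1.1
  have hSS : ∀ s ∈ S, s ∈ Subgroup.normalizer ((img (autFn α) E : Subgroup Ω) : Set Ω) := by
    intro s hs
    haveI := finite_of_le_base hf.img_le_base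
    refine mem_normalizer_of_map_le fun z hz => ?_
    obtain ⟨e, he, rfl⟩ := hf.mem_img.1 hz
    have hr : autFn α⁻¹ s ∈ S := autFn_mem _ hs
    have h1 : autFn α⁻¹ s * e * (autFn α⁻¹ s)⁻¹ ∈ E := (mem_normalizer_iff'.1 (hn hr)).1 e he
    have h2 := ((mem_autGroup_iff_fn le_rfl).1 hα).map_conj hr (hE.1.1 he)
    rw [autFn_apply_inv α hs] at h2
    exact h2 ▸ mem_img_of_mem h1
  refine essential_of_conj hS hE (isConj_of_fn hf) ⟨hf.img_le_base, fun Q _ => ?_⟩
  haveI := finite_of_le_base (normalizerIn_le (S := S) (P := img (autFn α) E))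
  exact Subgroup.card_le_of_le fun s hs => (⟨normalizerIn_le hs, hSS s (normalizerIn_le hs)⟩ : _ ∧ _)

/-- Invariance under the automizers of `S` and the essential subgroups gives normality. -/
theorem normal_of_aut (hS : IsPGroup p S) (hF : F.IsSaturated p) (hU : U ≤ S)
    (haut : ∀ α ∈ F.autGroup S, ∀ u ∈ U, autFn α u ∈ U)
    (hess : ∀ E, F.IsEssential p E → U ≤ E ∧ ∀ α ∈ F.autGroup E, ∀ u ∈ U, autFn α u ∈ U) : F.IsNormal U := by
  have hfix : ∀ {P : Subgroup Ω} {g : Ω → Ω}, Fn F P g → U ≤ P → (∀ u ∈ U, g u ∈ U) → img g U = U :=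
    fun hg hle hm => (hg.mono hle).img_eq_self hm
  let C : Subgroup Ω → (Ω → Ω) → Prop := fun P f =>
    ∃ g, Fn F (P ⊔ U) g ∧ (∀ x ∈ P, g x = f x) ∧ img g U = U
  have hle : F ≤ predSystem F C
      (fun P f g he _ ⟨k, hk, hke, hki⟩ => ⟨k, hk, fun x hx => (hke x hx).trans (he x hx), hki⟩)
      (fun P hP s hs => ⟨_, fn_conj (sup_le hP hU) hs, fun x _ => rfl,
        hfix (fn_conj (sup_le hP hU) hs) le_sup_right fun u hu => by
          have h1 := haut _ (autInducedBy_le_autGroup le_rfl
            (conjAut_mem_autInducedBy (Subgroup.le_normalizer hs) hs)) u hu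
          rwa [show u = ((⟨u, hU hu⟩ : S) : Ω) from rfl, autFn_coe, conjAut_coe] at h1⟩)
      (fun P R f g hf hg hm ⟨k, hk, hke, hki⟩ ⟨l, hl, hle, hli⟩ => by
        have hmap : img k (P ⊔ U) ≤ R ⊔ U := by
          rw [hk.img_sup, hki]
          exact sup_le_sup_right (img_le fun x hx => hke x hx ▸ hm x hx) _
        have hcomp := hk.comp hl fun x hx => hmap (mem_img_of_mem hx)
        refine ⟨l ∘ k, hcomp, fun x hx => ?_, ?_⟩
        · show l (k x) = g (f x)
          rw [hke x hx, hle _ (hm x hx)]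
        · rw [(hk.mono le_sup_right).img_comp, hki, hli])
      (fun P f g hf hg hgf ⟨k, hk, hke, hki⟩ => by
        obtain ⟨k', hk', hk'k, -⟩ := hk.exists_inv
        have himg : img k (P ⊔ U) = img f P ⊔ U := by
          rw [hk.img_sup, hki, img_congr hke]
        refine ⟨k', himg ▸ hk', fun y hy => ?_, ?_⟩
        · obtain ⟨x, hx, rfl⟩ := hf.mem_img.1 hy
          rw [hgf x hx, ← hke x hx]
          exact hk'k x (Subgroup.mem_sup_left hx)
        · conv_lhs => rw [← hki]
          rw [← (hk.mono le_sup_right).img_comp]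
          exact (img_congr (g := id) fun x hx => hk'k x (Subgroup.mem_sup_right hx)).trans (img_id U)) := by
    refine alperin hS hF _ (fun α hα => ?_) fun P hPS hP α hα => ?_
    · have hf := (mem_autGroup_iff_fn le_rfl).1 hα
      refine (mem_autGroup_iff_fn le_rfl).2 (fn_predSystem.2 ⟨hf, autFn α, ?_, fun _ _ => rfl,
        hfix hf hU (haut α hα)⟩)
      rwa [sup_eq_left.2 hU]
    · have hf := (mem_autGroup_iff_fn hP.1.1).1 hα
      refine (mem_autGroup_iff_fn hP.1.1).2 (fn_predSystem.2 ⟨hf, autFn α, ?_, fun _ _ => rfl,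
        hfix hf (hess P hP).1 ((hess P hP).2 α hα)⟩)
      rwa [sup_eq_left.2 (hess P hP).1]
  exact normal_iff_fn.2 ⟨hU, fun P f hf => (fn_predSystem.1 (fn_of_le hle hf)).2⟩

end CfsgLib.Fsys.RankThree
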