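import Cfsg.Agent.Lib.FusionSystem.RankThree.Tools

/-! A group of exponent `p` generated by four elements with one nontrivial commutator relation. -/

set_option autoImplicit false
set_option linter.unusedSectionVars false
set_option linter.style.haveILetI false

open scoped commutatorElement

namespace CfsgLib.Fsys.RankThree

variable {Q : Type*} [Group Q] {p : ℕ} [hp : Fact p.Prime]

/-- The relations. -/
structure Frame (p : ℕ) {Q : Type*} [Group Q] (N : Subgroup Q) (X U V W : Q) : Prop where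
  memX : X ∈ N
  memU : U ∈ N
  memV : V ∈ N
  memW : W ∈ N
  gen : ∀ q ∈ N, ∃ i k j l : ℤ, q = X ^ i * U ^ k * V ^ j * W ^ l
  ind : ∀ i k j l : ℤ, X ^ i * U ^ k * V ^ j * W ^ l = 1 →
    (i : ZMod p) = 0 ∧ (k : ZMod p) = 0 ∧ (j : ZMod p) = 0 ∧ (l : ZMod p) = 0
  xu : X * U * X⁻¹ = U * V
  xv : Commute X V
  xw : Commute X W
  uv : Commute U V
  uw : Commute U W
  vw : Commute V W
  xp : X ^ p = 1
  up : U ^ p = 1
  vp : V ^ p = 1
  wp : W ^ p = 1

variable {N : Subgroup Q} {X U V W : Q}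

namespace Frame

variable (D : Frame p N X U V W)
include D

theorem conj_pow_left (n : ℕ) : X ^ n * U * (X ^ n)⁻¹ = U * V ^ n := by
  induction n with
  | zero => simp
  | succ n ih =>
    calc X ^ (n + 1) * U * (X ^ (n + 1))⁻¹ = X * (X ^ n * U * (X ^ n)⁻¹) * X⁻¹ := by rw [pow_succ']; group
      _ = (X * U * X⁻¹) * (X * V ^ n * X⁻¹) := by rw [ih]; group
      _ = _ := by rw [D.xu, (D.xv.pow_right n).eq, mul_inv_cancel_right, mul_assoc, pow_succ']

theorem conj_zpow_left (i : ℤ) : X ^ i * U * (X ^ i)⁻¹ = U * V ^ i := by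
  have hX := zpow_congr D.xp (i := i) (j := ((i : ZMod p).val : ℤ)) (intCast_val _).symm
  have hV := zpow_congr D.vp (i := i) (j := ((i : ZMod p).val : ℤ)) (intCast_val _).symm
  rw [hX, hV, zpow_natCast, zpow_natCast, D.conj_pow_left]

theorem conj_zpow (i k : ℤ) : X ^ i * U ^ k * (X ^ i)⁻¹ = U ^ k * V ^ (i * k) := by
  rw [← _root_.conj_zpow, D.conj_zpow_left, (D.uv.zpow_right i).mul_zpow, ← zpow_mul]

theorem swap (i k : ℤ) : U ^ k * X ^ i = X ^ i * (U ^ k * V ^ (-(i * k))) := by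
  have h1 := D.conj_zpow (-i) k
  rw [zpow_neg, inv_inv, show -i * k = -(i * k) by ring] at h1
  rw [← h1]
  group

theorem cen_right (j l : ℤ) : Commute (V ^ j * W ^ l) X ∧ Commute (V ^ j * W ^ l) U :=
  ⟨((D.xv.zpow_right j).mul_right (D.xw.zpow_right l)).symm, ((D.uv.zpow_right j).mul_right (D.uw.zpow_right l)).symm⟩

theorem pow_eq_one (hp2 : p ≠ 2) {q : Q} (hq : q ∈ N) : q ^ p = 1 := by
  obtain ⟨i, k, j, l, rfl⟩ := D.gen q hq
  have hz : Commute (X ^ i * U ^ k) (V ^ j * W ^ l) :=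
    (((D.cen_right j l).1.zpow_right i).mul_right ((D.cen_right j l).2.zpow_right k)).symm
  have he : ∀ {g : Q} (n : ℤ), g ^ p = 1 → (g ^ n) ^ p = 1 := fun {g} n hg => by
    rw [← zpow_natCast, ← zpow_mul, mul_comm, zpow_mul, zpow_natCast, hg, one_zpow]
  rw [mul_assoc, hz.mul_pow, ((D.vw.zpow_left j).zpow_right l).mul_pow, he j D.vp, he l D.wp, mul_one, mul_one,
    mul_pow_shift (η := V ^ (-(i * k))) (D.swap i k) ((D.uv.zpow_left k).zpow_right _) ((D.xv.zpow_left i).zpow_right _),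
    he i D.xp, he k D.up, one_mul, one_mul]
  exact choose_pow_eq_one (he _ D.vp) (by norm_num) (lt_of_le_of_ne hp.out.two_le (Ne.symm hp2))

theorem commutator_mem {q r : Q} (hq : q ∈ N) (hr : r ∈ N) : ∃ n : ℤ, ⁅q, r⁆ = V ^ n := by
  obtain ⟨i, k, j, l, rfl⟩ := D.gen q hq
  obtain ⟨i', k', j', l', rfl⟩ := D.gen r hr
  set z := V ^ j * W ^ l
  set z' := V ^ j' * W ^ l'
  have hz : ∀ a b : ℤ, Commute z (X ^ a * U ^ b) := fun a b =>
    ((D.cen_right j l).1.zpow_right a).mul_right ((D.cen_right j l).2.zpow_right b)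
  have hz' : ∀ a b : ℤ, Commute z' (X ^ a * U ^ b) := fun a b =>
    ((D.cen_right j' l').1.zpow_right a).mul_right ((D.cen_right j' l').2.zpow_right b)
  have hzz : Commute z z' :=
    (((Commute.refl V).zpow_zpow j j').mul_right (D.vw.zpow_zpow j l')).mul_left
      ((D.vw.symm.zpow_zpow l j').mul_right ((Commute.refl W).zpow_zpow l l'))
  have hP : ∀ a b c d : ℤ, X ^ a * U ^ b * (X ^ c * U ^ d) = X ^ (a + c) * U ^ (b + d) * V ^ (-(c * b)) := by
    intro a b c d
    calc X ^ a * U ^ b * (X ^ c * U ^ d) = X ^ a * (U ^ b * X ^ c) * U ^ d := by group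
      _ = X ^ a * X ^ c * U ^ b * (V ^ (-(c * b)) * U ^ d) := by rw [D.swap]; group
      _ = _ := by rw [((D.uv.zpow_zpow d (-(c * b))).symm).eq, zpow_add, zpow_add]; group
  refine ⟨-(i' * k) - -(i * k'), ?_⟩
  have e : X ^ i * U ^ k * (X ^ i' * U ^ k') = X ^ i' * U ^ k' * (X ^ i * U ^ k) * V ^ (-(i' * k) - -(i * k')) := by
    rw [hP, hP, add_comm i' i, add_comm k' k, mul_assoc _ (V ^ _) (V ^ _), ← zpow_add, add_sub_cancel]
  have hcV : ∀ a b n : ℤ, Commute (X ^ a * U ^ b) (V ^ n) := fun a b n =>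
    (D.xv.zpow_zpow a n).mul_left (D.uv.zpow_zpow b n)
  have e2 : X ^ i * U ^ k * z * (X ^ i' * U ^ k' * z') =
      V ^ (-(i' * k) - -(i * k')) * (X ^ i' * U ^ k' * z' * (X ^ i * U ^ k * z)) := by
    calc X ^ i * U ^ k * z * (X ^ i' * U ^ k' * z')
        = X ^ i * U ^ k * (z * (X ^ i' * U ^ k')) * z' := by group
      _ = X ^ i * U ^ k * (X ^ i' * U ^ k') * (z * z') := by rw [(hz i' k').eq]; group
      _ = X ^ i' * U ^ k' * (X ^ i * U ^ k) * V ^ (-(i' * k) - -(i * k')) * (z' * z) := by rw [e, hzz.eq]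
      _ = V ^ (-(i' * k) - -(i * k')) * (X ^ i' * U ^ k' * (X ^ i * U ^ k)) * (z' * z) := by
        rw [((hcV i' k' _).mul_left (hcV i k _)).eq]
      _ = V ^ (-(i' * k) - -(i * k')) * (X ^ i' * U ^ k' * ((X ^ i * U ^ k) * z') * z) := by group
      _ = _ := by rw [← (hz' i k).eq]; group
  rw [show X ^ i * U ^ k * V ^ j * W ^ l = X ^ i * U ^ k * z from mul_assoc _ _ _,
    show X ^ i' * U ^ k' * V ^ j' * W ^ l' = X ^ i' * U ^ k' * z' from mul_assoc _ _ _, commutatorElement_def, e2]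
  group

end Frame

end CfsgLib.Fsys.RankThree
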