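import Cfsg.Agent.Lib.FusionSystem.TransvectionEmbedded
import Cfsg.Agent.Lib.FusionSystem.RankThree.Tools

/-! The torus beside a transvection in a group with a strongly embedded subgroup. -/

set_option autoImplicit false
set_option linter.unusedSectionVars false
set_option linter.style.haveILetI false

namespace CfsgLib.Fsys.RankThree

open Cfsg

variable {X : Type*} [Group X] [Finite X] {p : ℕ} [hp : Fact p.Prime] {V : Type*} [Group V] [Finite V]

private theorem mul_comm_cancel (hVc : ∀ a b : V, a * b = b * a) {v z : V} : v * (z * v⁻¹) = z := by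
  rw [hVc z, mul_inv_cancel_left]

private theorem mul_comm_cancel' (hVc : ∀ a b : V, a * b = b * a) {u z : V} : u * (z * u⁻¹) = z := by
  rw [hVc z, mul_inv_cancel_left]

/-- A transvection, a swap and a torus. -/
theorem torus (hV : Nat.card V = p ^ 3) (hVc : ∀ a b : V, a * b = b * a) (hVe : ∀ a : V, a ^ p = 1)
    (act : X →* MulAut V) (hinj : Function.Injective act)
    {Y₀ : Subgroup X} (hY₀ : IsStronglyPEmbedded p Y₀) {P : Subgroup X} (hP : IsPGroup p P)
    {t : X} (ht : t ∈ P) {K : Subgroup V} (hK : Nat.card K = p ^ 2)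
    (hfix : ∀ v, act t v = v ↔ v ∈ K) (hPK : ∀ y ∈ P, ∀ k ∈ K, act y k ∈ K) :
    ∃ (u v w : V) (t₁ σ : X), t₁ ∈ Subgroup.zpowers t ∧ u ∉ K ∧ v ∈ K ∧ w ∈ K ∧ v ≠ 1 ∧
      (∀ z : V, ∃ i j k : ℤ, z = u ^ i * v ^ j * w ^ k) ∧
      act t₁ u = u * v ∧ act t₁ v = v ∧ act t₁ w = w ∧ act σ u = v ∧ act σ v = u⁻¹ ∧ act σ w = w ∧
      ∀ a b : ℤ, ((a * b : ℤ) : ZMod p) = 1 →
        ∃ h : X, act h u = u ^ b ∧ act h v = v ^ a ∧ act h w = w ∧ h * t₁ * h⁻¹ = t₁ ^ (a * a) := by
  classical
  have hVp : IsPGroup p V := IsPGroup.of_card hV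
  obtain ⟨Y, hY, hPY⟩ := Transvection.exists_emb hY₀ P hP
  have hmap : ∀ (x : X) (v : V), act x⁻¹ (act x v) = v := fun x v => by
    rw [← MulAut.mul_apply, ← map_mul, inv_mul_cancel, map_one, MulAut.one_apply]
  have hmap' : ∀ (x : X) (v : V), act x (act x⁻¹ v) = v := fun x v => by
    rw [← MulAut.mul_apply, ← map_mul, mul_inv_cancel, map_one, MulAut.one_apply]
  let δ : V →* V := MonoidHom.mk' (fun v => v⁻¹ * act t v) fun a b => by
    rw [map_mul, mul_inv_rev, hVc b⁻¹ a⁻¹]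
    simp only [mul_assoc]
    congr 1
    rw [← mul_assoc b⁻¹, hVc b⁻¹ (act t a), mul_assoc]
  have hker : δ.ker = K := by
    ext v
    rw [MonoidHom.mem_ker, ← hfix]
    show v⁻¹ * act t v = 1 ↔ _
    rw [inv_mul_eq_one]
    exact eq_comm
  set L := δ.range with hL
  have hLc : Nat.card L = p := by
    have h1 := Subgroup.card_eq_card_quotient_mul_card_subgroup δ.ker
    rw [Nat.card_congr (QuotientGroup.quotientKerEquivRange δ).toEquiv, hker, hV, hK, pow_succ' p 2] at h1
    exact (Nat.eq_of_mul_eq_mul_right (pow_pos hp.out.pos 2) h1).symm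
  have hord : ∀ y ∈ P, ∃ k, act y ^ p ^ k = 1 := fun y hy => by
    obtain ⟨k, hk⟩ := hP ⟨y, hy⟩
    exact ⟨k, by rw [← map_pow, show y ^ p ^ k = 1 by simpa using congrArg Subtype.val hk, map_one]⟩
  have hLK : L ≤ K := by
    intro v hv
    obtain ⟨k, hk⟩ := hord t ht
    have hLinv : ∀ x ∈ L, act t x ∈ L := by
      rintro _ ⟨x, rfl⟩
      refine ⟨act t x, ?_⟩
      show (act t x)⁻¹ * act t (act t x) = act t (x⁻¹ * act t x)
      rw [map_mul, map_inv]
    have := SmallEssential.shift_small hVp (K := ⊥) (L := L) bot_le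
      (by rw [Subgroup.relIndex_bot_left, hLc]) hk (fun x hx => by rw [Subgroup.mem_bot.1 hx]; simp) hLinv hv
    rw [Subgroup.mem_bot, inv_mul_eq_one] at this
    exact (hfix v).1 this.symm
  have hKn : K.Normal := ⟨fun k hk g => by rwa [hVc g k, mul_inv_cancel_right]⟩
  have hKidx : K.index = p := by
    have h1 := Subgroup.card_mul_index K
    rw [hK, hV, pow_succ p 2] at h1
    exact Nat.eq_of_mul_eq_mul_left (pow_pos hp.out.pos 2) h1
  have hshift : ∀ y ∈ P, ∀ v, v⁻¹ * act y v ∈ K := fun y hy v => by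
    obtain ⟨k, hk⟩ := hord y hy
    exact SmallEssential.shift_small hVp le_top (by rw [Subgroup.relIndex_top_right, hKidx]) hk
      (hPK y hy) (fun _ _ => Subgroup.mem_top _) (Subgroup.mem_top v)
  have ht1 : t ≠ 1 := fun e => by
    have : K = ⊤ := eq_top_iff.2 fun v _ => (hfix v).1 (by rw [e, map_one, MulAut.one_apply])
    rw [this, Subgroup.index_top] at hKidx
    exact hp.out.one_lt.ne hKidx
  have htY : t ∈ Y := hPY ht
  obtain ⟨kt, hkt⟩ := hP ⟨t, ht⟩
  have htp : t ^ p ^ kt = 1 := by simpa using congrArg Subtype.val hkt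
  -- two transvections stabilizing a common series lie together
  have key : ∀ g : X, g ∉ Y → ¬ L ≤ K.map (act g).toMonoidHom := by
    intro g hg hle
    set K' := K.map (act g).toMonoidHom
    let Q : Subgroup X :=
      { carrier := {x | (∀ v, v⁻¹ * act x v ∈ K') ∧ (∀ k ∈ K', k⁻¹ * act x k ∈ L) ∧ ∀ l ∈ L, act x l = l}
        one_mem' := ⟨fun v => by simp, fun k _ => by simp, fun l _ => by simp⟩
        mul_mem' := fun {a b} ha hb => by
          have hbK : ∀ k ∈ K', act b k ∈ K' := fun k hk => by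
            have := K'.mul_mem hk (hle (hb.2.1 k hk)); rwa [mul_inv_cancel_left] at this
          refine ⟨fun v => ?_, fun k hk => ?_, fun l hl => ?_⟩
          · rw [map_mul, MulAut.mul_apply,
              show v⁻¹ * act a (act b v) = (v⁻¹ * act b v) * ((act b v)⁻¹ * act a (act b v)) by group]
            exact K'.mul_mem (hb.1 v) (ha.1 _)
          · rw [map_mul, MulAut.mul_apply,
              show k⁻¹ * act a (act b k) = (k⁻¹ * act b k) * ((act b k)⁻¹ * act a (act b k)) by group]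
            exact L.mul_mem (hb.2.1 k hk) (ha.2.1 _ (hbK k hk))
          · rw [map_mul, MulAut.mul_apply, hb.2.2 l hl, ha.2.2 l hl]
        inv_mem' := fun {a} ha => by
          refine ⟨fun v => ?_, fun k hk => ?_, fun l hl => ?_⟩
          · have h1 := K'.inv_mem (ha.1 (act a⁻¹ v))
            rwa [hmap', mul_inv_rev, inv_inv] at h1
          · have hk' : act a⁻¹ k ∈ K' := by
              have h1 := K'.inv_mem (ha.1 (act a⁻¹ k))
              rw [hmap', mul_inv_rev, inv_inv] at h1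
              have := K'.mul_mem hk h1
              rwa [mul_inv_cancel_left] at this
            have h1 := L.inv_mem (ha.2.1 _ hk')
            rwa [hmap', mul_inv_rev, inv_inv] at h1
          · calc act a⁻¹ l = act a⁻¹ (act a l) := by rw [ha.2.2 l hl]
              _ = l := hmap a l }
    have hQp : IsPGroup p Q := isPGroup_of_forall_coprime fun a ha => by
      have hco : (orderOf (act (a : X))).Coprime p :=
        ha.coprime_dvd_left ((orderOf_map_dvd act (a : X)).trans (Subgroup.orderOf_coe a).dvd)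
      have hk : ∀ k ∈ K', act (a : X) k = k := fun k hk =>
        fixed_of_fixed_shift hVp hco (a.2.2.2 _ (a.2.2.1 k hk))
      refine Subtype.ext (hinj (MulEquiv.ext fun v => ?_))
      rw [Subgroup.coe_one, map_one, MulAut.one_apply]
      exact fixed_of_fixed_shift hVp hco (hk _ (a.2.1 v))
    have htQ : t ∈ Q := ⟨fun v => hle ⟨v, rfl⟩, fun k _ => ⟨k, rfl⟩, fun l hl => (hfix l).2 (hLK hl)⟩
    set t' := g * t * g⁻¹
    have hfix' : ∀ k ∈ K', act t' k = k := by
      rintro _ ⟨k, hk, rfl⟩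
      show act t' (act g k) = act g k
      rw [← MulAut.mul_apply, ← map_mul, show t' * g = g * t by simp [t'], map_mul, MulAut.mul_apply,
        (hfix k).2 hk]
    have ht'Q : t' ∈ Q := by
      refine ⟨fun v => ?_, fun k hk => by rw [hfix' k hk, inv_mul_cancel]; exact one_mem _,
        fun l hl => hfix' l (hle hl)⟩
      refine ⟨(act g⁻¹ v)⁻¹ * act t (act g⁻¹ v), hLK ⟨_, rfl⟩, ?_⟩
      show act g _ = v⁻¹ * act (g * t * g⁻¹) v
      rw [map_mul (act g), map_inv (act g), hmap', map_mul act, map_mul act, MulAut.mul_apply, MulAut.mul_apply]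
    refine hg (hY.uniq g t' (fun e => ht1 (conj_eq_one_iff.1 e)) ⟨kt, ?_⟩ (hY.comp Q hQp t htQ ht1 htY ht'Q) ?_)
    · rw [conj_pow, htp, mul_one, mul_inv_cancel]
    · simpa [t', mul_assoc] using htY
  obtain ⟨g, -, hg⟩ := SetLike.exists_of_lt (lt_top_iff_ne_top.2 hY.ne)
  have hgi : g⁻¹ ∉ Y := fun h => hg (by simpa using Y.inv_mem h)
  set K' := K.map (act g).toMonoidHom with hK'
  set L' := L.map (act g).toMonoidHom with hL'
  have hL'K : ¬ L' ≤ K := fun hle => key g⁻¹ hgi fun l hl =>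
    ⟨act g l, hle ⟨l, hl, rfl⟩, hmap g l⟩
  obtain ⟨u, hu, huK⟩ := SetLike.not_le_iff_exists.1 hL'K
  have huK' : u ∈ K' := Subgroup.map_mono hLK hu
  obtain ⟨w, hw, hw1⟩ : ∃ w ∈ K ⊓ K', w ≠ 1 := by
    by_contra hno
    push Not at hno
    haveI : Finite K := inferInstance
    have hinj2 : Function.Injective (fun q : K × K' => (q.1 : V) * q.2) := by
      rintro ⟨a, b⟩ ⟨c, d⟩ e
      have e' : (c : V)⁻¹ * a = d * (b : V)⁻¹ := by
        rw [inv_mul_eq_iff_eq_mul, ← mul_assoc, eq_mul_inv_iff_mul_eq]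
        exact e
      have h1 := hno _ ⟨K.mul_mem (K.inv_mem c.2) a.2, e' ▸ K'.mul_mem d.2 (K'.inv_mem b.2)⟩
      have ha : (a : V) = c := (inv_mul_eq_one.1 h1).symm
      obtain rfl : a = c := Subtype.ext ha
      exact Prod.ext rfl (Subtype.ext (mul_left_cancel e))
    have h1 := Nat.card_le_card_of_injective _ hinj2
    rw [Nat.card_prod, hV, hK'] at h1
    have hinjg : Function.Injective (act g).toMonoidHom := (act g).injective
    rw [Subgroup.card_map_of_injective hinjg, hK, ← pow_add] at h1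
    have := (Nat.pow_le_pow_iff_right hp.out.one_lt).1 h1
    omega
  have hu1 : u ≠ 1 := fun e => huK (e ▸ one_mem K)
  have hL'gen : L' ≤ Subgroup.zpowers u := by
    refine (Subgroup.eq_of_le_of_card_ge (Subgroup.zpowers_le.2 hu) ?_).ge
    have hinjg : Function.Injective (act g).toMonoidHom := (act g).injective
    rw [Subgroup.card_map_of_injective hinjg, hLc, Nat.card_zpowers, orderOf_eq_prime (hVe u) hu1]
  obtain ⟨v, hv, hv1⟩ : ∃ v ∈ L, v ≠ 1 := by
    by_contra hno
    push Not at hno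
    have : L = ⊥ := (Subgroup.eq_bot_iff_forall _).2 hno
    rw [this, Subgroup.card_bot] at hLc
    exact hp.out.one_lt.ne hLc
  have hLgen : L ≤ Subgroup.zpowers v := (Subgroup.eq_of_le_of_card_ge (Subgroup.zpowers_le.2 hv)
    (by rw [hLc, Nat.card_zpowers, orderOf_eq_prime (hVe v) hv1])).ge
  have hvK' : v ∉ K' := fun h => key g hg (hLgen.trans (Subgroup.zpowers_le.2 h))
  have hpowfix : ∀ (x : X) (z : V) (m : ℤ), act x z = z → act (x ^ m) z = z := fun x z m hz => by
    have hmem : act x ∈ MulAction.stabilizer (MulAut V) z := hz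
    rw [map_zpow]
    exact Subgroup.zpow_mem _ hmem m
  have hpowshift : ∀ (x : X) (a c : V) (m : ℤ), act x a = a * c → act x c = c → act (x ^ m) a = a * c ^ m := by
    intro x a c m h1 h2
    induction m with
    | zero => simp
    | succ m ih =>
      rw [zpow_add_one, map_mul, MulAut.mul_apply, h1, map_mul, ih, hpowfix x c _ h2, mul_assoc, ← zpow_add_one]
    | pred m ih =>
      have h3 : act x⁻¹ a = a * c⁻¹ := by
        have := hmap x (a * c⁻¹)
        rwa [map_mul (act x), map_inv (act x), h1, h2, mul_inv_cancel_right] at this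
      rw [zpow_sub_one, map_mul, MulAut.mul_apply, h3, map_mul, map_inv, ih, hpowfix x c _ h2, mul_assoc,
        ← zpow_sub_one]
  -- normalized generators
  have hsol : ∀ {d e : V}, e ≠ 1 → d ∈ Subgroup.zpowers e → d ≠ 1 → e ∈ Subgroup.zpowers d := by
    intro d e he hd hd1
    have hle := Subgroup.zpowers_le.2 hd
    exact (Subgroup.eq_of_le_of_card_ge hle (by
      rw [Nat.card_zpowers, Nat.card_zpowers, orderOf_eq_prime (hVe d) hd1, orderOf_eq_prime (hVe e) he])).ge
        (Subgroup.mem_zpowers e)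
  have htu : u⁻¹ * act t u ≠ 1 := fun e => huK ((hfix u).1 (inv_mul_eq_one.1 e).symm)
  obtain ⟨m₁, hm₁⟩ := Subgroup.mem_zpowers_iff.1 (hsol hv1 (hLgen ⟨u, rfl⟩) htu)
  set t' := g * t * g⁻¹ with ht'
  have hfix' : ∀ z, act t' z = z ↔ z ∈ K' := by
    intro z
    rw [ht', map_mul, map_mul, MulAut.mul_apply, MulAut.mul_apply]
    refine ⟨fun h => ⟨act g⁻¹ z, (hfix _).1 ((act g).injective (h.trans (hmap' g z).symm)), hmap' g z⟩, ?_⟩
    rintro ⟨k, hk, rfl⟩
    show act g (act t (act g⁻¹ (act g k))) = act g k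
    rw [hmap, (hfix k).2 hk]
  have htv : v⁻¹ * act t' v ∈ Subgroup.zpowers u := hL'gen ⟨(act g⁻¹ v)⁻¹ * act t (act g⁻¹ v), ⟨_, rfl⟩, by
    show act g _ = _
    rw [map_mul, map_inv, hmap', ht', map_mul, map_mul, MulAut.mul_apply, MulAut.mul_apply]⟩
  have htv1 : v⁻¹ * act t' v ≠ 1 := fun e => hvK' ((hfix' v).1 (inv_mul_eq_one.1 e).symm)
  obtain ⟨m₂, hm₂⟩ := Subgroup.mem_zpowers_iff.1 (hsol hu1 htv htv1)
  set t₁ := t ^ m₁
  set t₂ := t' ^ (-m₂)
  have h1u : act t₁ u = u * v := by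
    rw [← hm₁]
    exact hpowshift t u _ m₁ (by show act t u = u * (u⁻¹ * act t u); rw [mul_inv_cancel_left]) ((hfix _).2 (hLK ⟨u, rfl⟩))
  have h2v : act t₂ v = v * u⁻¹ := by
    rw [← hm₂, ← zpow_neg]
    exact hpowshift t' v _ (-m₂) (by rw [mul_inv_cancel_left]) (by
      rw [hfix']
      exact (Subgroup.zpowers_le.2 huK') htv)
  have h1v : act t₁ v = v := hpowfix t v m₁ ((hfix v).2 (hLK hv))
  have h2u : act t₂ u = u := hpowfix t' u _ ((hfix' u).2 huK')
  have h1w : act t₁ w = w := hpowfix t w m₁ ((hfix w).2 hw.1)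
  have h2w : act t₂ w = w := hpowfix t' w _ ((hfix' w).2 hw.2)
  let w₀ := t₁ * t₂ * t₁
  have hwv : act w₀ v = u⁻¹ := by
    rw [map_mul, map_mul, MulAut.mul_apply, MulAut.mul_apply, h1v, h2v, map_mul, map_inv, h1v, h1u, mul_inv_rev,
      mul_inv_cancel_left]
  have hwu : act w₀ u = v := by
    rw [map_mul, map_mul, MulAut.mul_apply, MulAut.mul_apply, h1u, map_mul, h2u, h2v, hVc v u⁻¹,
      mul_inv_cancel_left, h1v]
  have hww : act w₀ w = w := by
    rw [map_mul, map_mul, MulAut.mul_apply, MulAut.mul_apply, h1w, h2w, h1w]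
  have hwv' : w ∉ Subgroup.zpowers v := fun h => hvK' (Subgroup.zpowers_le.2 hw.2 (hsol hv1 h hw1))
  have hKgen : K ≤ Subgroup.zpowers v ⊔ Subgroup.zpowers w := by
    refine (Subgroup.eq_of_le_of_card_ge (sup_le (Subgroup.zpowers_le.2 (hLK hv)) (Subgroup.zpowers_le.2 hw.1)) ?_).ge
    refine le_trans ?_ (CfsgLib.Fusion.MaxClass.card_mul_le_of_lt hVp (lt_of_le_not_ge le_sup_left
      fun e => hwv' (e (Subgroup.mem_sup_right (Subgroup.mem_zpowers w)))))
    rw [hK, Nat.card_zpowers, orderOf_eq_prime (hVe v) hv1, sq]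
  have hVgen : (⊤ : Subgroup V) ≤ Subgroup.zpowers u ⊔ K := by
    refine (Subgroup.eq_of_le_of_card_ge le_top ?_).ge
    refine le_trans ?_ (CfsgLib.Fusion.MaxClass.card_mul_le_of_lt hVp (lt_of_le_not_ge le_sup_right
      fun e => huK (e (Subgroup.mem_sup_left (Subgroup.mem_zpowers u)))))
    rw [Subgroup.card_top, hV, hK, ← pow_succ']
  have hgen : Subgroup.zpowers u ⊔ Subgroup.zpowers v ⊔ Subgroup.zpowers w = ⊤ := by
    refine top_le_iff.1 (hVgen.trans ?_)
    rw [sup_assoc]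
    exact sup_le_sup_left hKgen _
  refine ⟨u, v, w, t₁, w₀, Subgroup.zpow_mem _ (Subgroup.mem_zpowers t) m₁, huK, hLK hv, hw.1, hv1,
    gen_of_closure hVc hVe hgen, h1u, h1v, h1w, hwu, hwv, hww, fun a b hab => ?_⟩
  have hz : ∀ (m : ℤ), act (t₁ ^ m) u = u * v ^ m := fun m => hpowshift t₁ u v m h1u h1v
  have hz2 : ∀ (m : ℤ), act (t₂ ^ m) v = v * u ^ (-m) := fun m => by
    rw [zpow_neg, ← inv_zpow]; exact hpowshift t₂ v u⁻¹ m h2v (by rw [map_inv, h2u])
  have hab' : v ^ (a * b) = v := by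
    rw [zpow_congr (p := p) (hVe v) (j := 1) (by simpa using hab), zpow_one]
  have hab'' : u ^ (a * b) = u := by
    rw [zpow_congr (p := p) (hVe u) (j := 1) (by simpa using hab), zpow_one]
  have hAv : act (t₁ ^ a * t₂ ^ b * t₁ ^ a) v = u ^ (-b) := by
    rw [map_mul, map_mul, MulAut.mul_apply, MulAut.mul_apply, hpowfix t₁ v a h1v, hz2, map_mul,
      hpowfix t₁ v a h1v, map_zpow (act (t₁ ^ a)), hz, (show Commute u (v ^ a) from hVc _ _).mul_zpow,
      ← zpow_mul v, show a * -b = -(a * b) by ring, zpow_neg v, hab', mul_comm_cancel hVc]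
  have hAu : act (t₁ ^ a * t₂ ^ b * t₁ ^ a) u = v ^ a := by
    rw [map_mul, map_mul, MulAut.mul_apply, MulAut.mul_apply, hz, map_mul (act (t₂ ^ b)),
      hpowfix t₂ u b h2u, map_zpow (act (t₂ ^ b)), hz2, (show Commute v (u ^ (-b)) from hVc _ _).mul_zpow,
      ← zpow_mul u, show -b * a = -(a * b) by ring, zpow_neg u, hab'', mul_comm_cancel' hVc,
      map_zpow, hpowfix t₁ v a h1v]
  have hAw : act (t₁ ^ a * t₂ ^ b * t₁ ^ a) w = w := by
    rw [map_mul, map_mul, MulAut.mul_apply, MulAut.mul_apply, hpowfix t₁ w a h1w, hpowfix t₂ w b h2w,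
      hpowfix t₁ w a h1w]
  set h := t₁ ^ a * t₂ ^ b * t₁ ^ a * w₀ * (w₀ * w₀) with hh
  have hiu : act (w₀ * w₀) u = u⁻¹ := by rw [map_mul, MulAut.mul_apply, hwu, hwv]
  have hiv : act (w₀ * w₀) v = v⁻¹ := by rw [map_mul, MulAut.mul_apply, hwv, map_inv, hwu]
  have hhu : act h u = u ^ b := by
    rw [hh, map_mul, MulAut.mul_apply, hiu, map_inv, map_mul, MulAut.mul_apply, hwu, hAv, zpow_neg, inv_inv]
  have hhv : act h v = v ^ a := by
    rw [hh, map_mul, MulAut.mul_apply, hiv, map_inv, map_mul, MulAut.mul_apply, hwv, map_inv, hAu, inv_inv]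
  have hhw : act h w = w := by
    rw [hh, map_mul, MulAut.mul_apply, map_mul act w₀ w₀, MulAut.mul_apply, hww, hww, map_mul, MulAut.mul_apply,
      hww, hAw]
  refine ⟨h, hhu, hhv, hhw, ?_⟩
  clear_value h
  rw [mul_inv_eq_iff_eq_mul]
  refine hinj (MulEquiv.ext fun z => ?_)
  have hall : (⊤ : Subgroup V) ≤
      MonoidHom.eqLocus (act (h * t₁)).toMonoidHom (act (t₁ ^ (a * a) * h)).toMonoidHom := by
    rw [← hgen]
    refine sup_le (sup_le ?_ ?_) ?_ <;> rw [Subgroup.zpowers_le]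
    · show act (h * t₁) u = act (t₁ ^ (a * a) * h) u
      rw [map_mul, map_mul, MulAut.mul_apply, MulAut.mul_apply, h1u, map_mul, hhu, hhv, map_zpow, hz,
        (show Commute u (v ^ (a * a)) from hVc _ _).mul_zpow, ← zpow_mul v, mul_assoc a a b,
        zpow_congr (p := p) (hVe v) (i := a * (a * b)) (j := a) (by
          rw [Int.cast_mul, hab, mul_one])]
    · show act (h * t₁) v = act (t₁ ^ (a * a) * h) v
      rw [map_mul, map_mul, MulAut.mul_apply, MulAut.mul_apply, h1v, hhv, map_zpow, hpowfix t₁ v _ h1v]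
    · show act (h * t₁) w = act (t₁ ^ (a * a) * h) w
      rw [map_mul, map_mul, MulAut.mul_apply, MulAut.mul_apply, h1w, hhw, hpowfix t₁ w _ h1w]
  exact hall (Subgroup.mem_top z)

end CfsgLib.Fsys.RankThree
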