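import Cfsg.Agent.Lib.FusionSystem.RankThree.Setup
import Cfsg.Agent.Lib.FusionSystem.RankThree.Torus

/-! The data attached to a transvection in the normalizer. -/

set_option autoImplicit false
set_option linter.unusedSectionVars false
set_option linter.style.haveILetI false
set_option maxHeartbeats 800000

open Cfsg Cfsg.FusionSystem
open scoped commutatorElement

namespace CfsgLib.Fsys.RankThree

universe u

variable {Ω : Type u} [Group Ω] {S : Subgroup Ω} [Finite S] {p : ℕ} [hpf : Fact p.Prime] {F : FusionSystem S}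
  {E : Subgroup Ω}

/-- An element with suitable order conditions. -/
theorem exists_unit (hp : 5 ≤ p) :
    ∃ a b : ℤ, ((a * b : ℤ) : ZMod p) = 1 ∧ (a : ZMod p) ^ 2 ≠ 1 ∧ (a : ZMod p) ^ 3 ≠ 1 ∧
      (a : ZMod p) ^ 5 ≠ 1 := by
  obtain ⟨g, hg⟩ := IsCyclic.exists_generator (α := (ZMod p)ˣ)
  have hord : orderOf g = p - 1 := by
    rw [orderOf_eq_card_of_forall_mem_zpowers hg, Nat.card_eq_fintype_card, ZMod.card_units]
  refine ⟨((g : ZMod p).val : ℤ), (((g⁻¹ : (ZMod p)ˣ) : ZMod p).val : ℤ), ?_, ?_, ?_, ?_⟩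
  · rw [Int.cast_mul, intCast_val, intCast_val, ← Units.val_mul, mul_inv_cancel, Units.val_one]
  all_goals
    rw [intCast_val, ← Units.val_pow_eq_pow_val, Ne, Units.val_eq_one, ← orderOf_dvd_iff_pow_eq_one, hord]
    intro hd
    have := Nat.le_of_dvd (by norm_num) hd
    obtain ⟨k, hk⟩ := hpf.out.eq_two_or_odd'.resolve_left (by omega)
    have hp6 : p ≤ 6 := by omega
    interval_cases p <;> omega

/-- The quotient map onto the Frattini quotient. -/
abbrev mq (E : Subgroup Ω) : E →* E ⧸ frattini ↥E := QuotientGroup.mk' (frattini ↥E)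

theorem mq_eq {e e' : E} : mq E e = mq E e' ↔ e⁻¹ * e' ∈ frattini ↥E := QuotientGroup.eq

/-- The preimage of the subgroup generated by two classes. -/
def plane (v w : E) : Subgroup E := (Subgroup.zpowers (mq E v) ⊔ Subgroup.zpowers (mq E w)).comap (mq E)

/-- The preimage of the subgroup generated by one class. -/
def vline (v : E) : Subgroup E := (Subgroup.zpowers (mq E v)).comap (mq E)

theorem left_mem_plane (v w : E) : v ∈ plane v w := Subgroup.mem_sup_left (Subgroup.mem_zpowers _)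

theorem right_mem_plane (v w : E) : w ∈ plane v w := Subgroup.mem_sup_right (Subgroup.mem_zpowers _)

theorem frattini_le_plane (v w : E) : frattini ↥E ≤ plane v w := fun e he => by
  rw [plane, Subgroup.mem_comap, show mq E e = 1 from (QuotientGroup.eq_one_iff e).2 he]
  exact one_mem _

theorem frattini_le_vline (v : E) : frattini ↥E ≤ vline v := fun e he => by
  rw [vline, Subgroup.mem_comap, show mq E e = 1 from (QuotientGroup.eq_one_iff e).2 he]
  exact one_mem _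

theorem mem_vline {v e : E} : e ∈ vline v ↔ ∃ i : ℤ, mq E e = mq E v ^ i := by
  rw [vline, Subgroup.mem_comap, Subgroup.mem_zpowers_iff]
  exact exists_congr fun i => eq_comm

theorem vline_le_plane (v w : E) : vline v ≤ plane v w := fun _ he => Subgroup.mem_sup_left he

/-- The data of a transvection. -/
structure TData (p : ℕ) (F : FusionSystem S) (E : Subgroup Ω) (hES : E ≤ S) (x : normalizerIn S E)
    (u v w : E) (f : Ω → Ω) (a b : ℤ) : Prop where
  notMem : (x : Ω) ∉ E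
  card : Nat.card (normalizerIn S E) = p * Nat.card E
  gen : ∀ e : E, ∃ i j k : ℤ, mq E e = mq E u ^ i * mq E v ^ j * mq E w ^ k
  actu : mq E (((autHom F hES x : F.autGroup E) : MulAut E) u) = mq E u * mq E v
  actv : mq E (((autHom F hES x : F.autGroup E) : MulAut E) v) = mq E v
  actw : mq E (((autHom F hES x : F.autGroup E) : MulAut E) w) = mq E w
  inv : ∀ n : normalizerIn S E, ∀ e ∈ plane v w,
    (((autHom F hES n : F.autGroup E) : MulAut E) e) ∈ plane v w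
  swap : ∃ α ∈ F.autGroup E, mq E (α u) = mq E v ∧ mq E (α v) = (mq E u)⁻¹ ∧ mq E (α w) = mq E w
  torus : ∃ β ∈ F.autGroup E, (∀ e : E, ((β e : E) : Ω) = f e) ∧ mq E (β u) = mq E u ^ b ∧
    mq E (β v) = mq E v ^ a ∧ mq E (β w) = mq E w
  fn : Fn F (normalizerIn S E) f
  maps : ∀ n ∈ normalizerIn S E, f n ∈ normalizerIn S E
  fx : ∃ z ∈ plane v w, f x = (x : Ω) ^ (a * a) * z
  hab : ((a * b : ℤ) : ZMod p) = 1
  ha2 : (a : ZMod p) ^ 2 ≠ 1
  ha3 : (a : ZMod p) ^ 3 ≠ 1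
  ha5 : (a : ZMod p) ^ 5 ≠ 1

theorem mem_plane (h : Hyp p F E) {v w e : E} :
    e ∈ plane v w ↔ ∃ j k : ℤ, mq E e = mq E v ^ j * mq E w ^ k := by
  haveI := h.finite
  rw [plane, Subgroup.mem_comap]
  letI : CommGroup (E ⧸ frattini ↥E) := { (inferInstance : Group (E ⧸ frattini ↥E)) with
    mul_comm := PGroup.Frattini.quotient_mul_comm (p := p) h.pgroup }
  refine ⟨fun he => ?_, fun ⟨j, k, he⟩ => he ▸ Subgroup.mul_mem_sup
    (Subgroup.zpow_mem _ (Subgroup.mem_zpowers _) j) (Subgroup.zpow_mem _ (Subgroup.mem_zpowers _) k)⟩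
  obtain ⟨y, hy, z, hz, hyz⟩ := Subgroup.mem_sup.1 he
  obtain ⟨j, rfl⟩ := Subgroup.mem_zpowers_iff.1 hy
  obtain ⟨k, rfl⟩ := Subgroup.mem_zpowers_iff.1 hz
  exact ⟨j, k, hyz.symm⟩

theorem exists_tdata (h : Hyp p F E) (hT : CaseT p F E h.le) :
    ∃ (x : normalizerIn S E) (u v w : E) (f : Ω → Ω) (a b : ℤ), TData p F E h.le x u v w f a b := by
  classical
  haveI := h.finite
  set N := normalizerIn S E with hNdef
  obtain ⟨x₀, K, hx₀, hKi, hΦK, hfixK, hKinv⟩ := hT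
  haveI : Finite N := finite_of_le_base normalizerIn_le
  have hEN : E ≤ N := le_normalizerIn h.le
  obtain ⟨X, _, _, ρ, act, Y₀, hρ, hinj, hY₀, hact₀, hInn⟩ := h.exists_model
  have hact : ∀ (q : F.autGroup E) (e : E), act (ρ q) (mq E e) = mq E (((q : MulAut E) e : E)) := hact₀
  have hVc := PGroup.Frattini.quotient_mul_comm (p := p) (P := E) h.pgroup
  have hVe := PGroup.Frattini.quotient_pow_eq_one (p := p) (P := E) h.pgroup
  let ψ : N →* X := ρ.comp (autHom F h.le)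
  have hψ : ∀ (n : N) (e : E), act (ψ n) (mq E e) = mq E (((autHom F h.le n : F.autGroup E) : MulAut E) e) :=
    fun n e => hact _ e
  have hP : IsPGroup p ψ.range :=
    (h.hS.to_le normalizerIn_le).of_surjective ψ.rangeRestrict ψ.rangeRestrict_surjective
  have hmemK : ∀ {e : E}, mq E e ∈ K.map (mq E) → e ∈ K := by
    rintro e ⟨k, hk, he⟩
    have := K.mul_mem hk (hΦK (QuotientGroup.eq.1 he))
    rwa [mul_inv_cancel_left] at this
  have hKc : Nat.card (K.map (mq E)) = p ^ 2 := by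
    have h3 := Subgroup.relIndex_ker (f := mq E) K
    have hk' : (mq E).ker = frattini ↥E := QuotientGroup.ker_mk' _
    rw [hk'] at h3
    have h4 := Subgroup.relIndex_mul_index hΦK
    rw [h3, hKi, h.hrk, pow_succ p 2] at h4
    exact Nat.eq_of_mul_eq_mul_right hpf.out.pos h4
  have hfixV : ∀ z, act (ψ x₀) z = z ↔ z ∈ K.map (mq E) := by
    intro z
    obtain ⟨e, rfl⟩ := QuotientGroup.mk'_surjective (frattini ↥E) z
    rw [hψ]
    refine ⟨fun he => ⟨e, hfixK ▸ mem_fixMod.2 (mq_eq.1 he.symm), rfl⟩, fun he => ?_⟩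
    have h1 := hmemK he
    rw [← hfixK, mem_fixMod] at h1
    exact (mq_eq.2 h1).symm
  have hPK : ∀ y ∈ ψ.range, ∀ z ∈ K.map (mq E), act y z ∈ K.map (mq E) := by
    rintro _ ⟨n, rfl⟩ _ ⟨e, he, rfl⟩
    exact ⟨_, hKinv n e he, (hψ n e).symm⟩
  obtain ⟨hPle, -⟩ := Fsys.Transvection.main h.quotient_card hVc hVe act hinj hY₀ hP (t := ψ x₀) ⟨x₀, rfl⟩
    hKc hfixV hPK
  obtain ⟨ub, vb, wb, t₁, s, ht₁, hub, hvb, hwb, hv1, hgen, h1u, h1v, h1w, hsu, hsv, hsw, htor⟩ :=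
    torus h.quotient_card hVc hVe act hinj hY₀ hP (t := ψ x₀) ⟨x₀, rfl⟩ hKc hfixV hPK
  obtain ⟨m, rfl⟩ := Subgroup.mem_zpowers_iff.1 ht₁
  obtain ⟨u, rfl⟩ := QuotientGroup.mk'_surjective (frattini ↥E) ub
  obtain ⟨v, rfl⟩ := QuotientGroup.mk'_surjective (frattini ↥E) vb
  obtain ⟨w, rfl⟩ := QuotientGroup.mk'_surjective (frattini ↥E) wb
  set x₁ : N := x₀ ^ m with hx₁
  have hψx₁ : ψ x₁ = ψ x₀ ^ m := map_zpow _ _ _
  rw [← hψx₁] at h1u h1v h1w htor
  clear_value x₁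
  set B := E.subgroupOf N with hB
  haveI : B.Normal := ⟨fun z hz n => (mem_normalizer_iff'.1 n.2.2).1 _ hz⟩
  have hker : ψ.ker = B := by
    ext n
    refine ⟨fun hn => h.mem_of_fix n fun e => mem_fixMod.2 ?_, fun hn => ?_⟩
    · have := hψ n e
      rw [MonoidHom.mem_ker.1 hn, map_one, MulAut.one_apply] at this
      exact QuotientGroup.eq.1 this
    · refine MonoidHom.mem_ker.2 (hinj (MulEquiv.ext fun z => ?_))
      obtain ⟨e, rfl⟩ := QuotientGroup.mk'_surjective (frattini ↥E) z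
      rw [hψ, map_one, MulAut.one_apply]
      exact (QuotientGroup.eq.2 (mem_fixMod.1 (h.fix_of_mem n hn e))).symm
  have hx₁E : (x₁ : Ω) ∉ E := fun hh => hv1 (by
    have h2 : ψ x₁ = 1 := MonoidHom.mem_ker.1 (hker.ge hh)
    rw [h2, map_one, MulAut.one_apply] at h1u
    exact mul_eq_left.1 h1u.symm)
  have hψx₁1 : ψ x₁ ≠ 1 := fun e => hx₁E (hker.le (MonoidHom.mem_ker.2 e))
  have hrange : Nat.card ψ.range = p := by
    obtain ⟨j, hj⟩ := IsPGroup.iff_card.1 hP
    have hj0 : j ≠ 0 := fun e => hψx₁1 (by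
      rw [e, pow_zero] at hj
      exact Subgroup.mem_bot.1 ((Subgroup.eq_bot_of_card_eq _ hj) ▸ (⟨x₁, rfl⟩ : ψ x₁ ∈ ψ.range)))
    rw [hj] at hPle ⊢
    have := (Nat.pow_le_pow_iff_right hpf.out.one_lt).1 (hPle.trans_eq (pow_one p).symm)
    rw [show j = 1 by omega, pow_one]
  have hgenP : ∀ n : N, ψ n ∈ Subgroup.zpowers (ψ x₁) := by
    intro n
    have hle : Subgroup.zpowers (ψ x₁) ≤ ψ.range := Subgroup.zpowers_le.2 ⟨x₁, rfl⟩
    have hp' : p ≤ Nat.card (Subgroup.zpowers (ψ x₁)) := by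
      obtain ⟨j, hj⟩ := IsPGroup.iff_card.1 (hP.to_le hle)
      rw [hj]
      refine Nat.le_self_pow (fun e => hψx₁1 ?_) p
      rw [e, pow_zero, Nat.card_zpowers, orderOf_eq_one_iff] at hj
      exact hj
    exact (Subgroup.eq_of_le_of_card_ge hle (hrange.le.trans hp')).ge ⟨n, rfl⟩
  have hcard : Nat.card N = p * Nat.card E := by
    rw [← Subgroup.card_mul_index B, ← hker, Subgroup.index_ker, hker, hrange,
      Nat.card_congr (Subgroup.subgroupOfEquivOfLe hEN).toEquiv, mul_comm]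
  have hfixpow : ∀ (i : ℤ) {z : E ⧸ frattini ↥E}, act (ψ x₁) z = z → act (ψ x₁ ^ i) z = z := fun i z hz => by
    have hmem : act (ψ x₁) ∈ MulAction.stabilizer (MulAut (E ⧸ frattini ↥E)) z := hz
    rw [map_zpow]
    exact Subgroup.zpow_mem _ hmem i
  have hinv : ∀ n : N, ∀ e ∈ plane v w, (((autHom F h.le n : F.autGroup E) : MulAut E) e) ∈ plane v w := by
    intro n e he
    obtain ⟨j, k, hjk⟩ := (mem_plane h).1 he
    obtain ⟨i, hi⟩ := Subgroup.mem_zpowers_iff.1 (hgenP n)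
    refine (mem_plane h).2 ⟨j, k, ?_⟩
    rw [← hψ, hjk, map_mul, map_zpow, map_zpow, ← hi, hfixpow i h1v, hfixpow i h1w]
  -- the torus element
  obtain ⟨a, b, hab, ha2, ha3, ha5⟩ := exists_unit (p := p) h.hp
  obtain ⟨th, hhu, hhv, hhw, hht⟩ := htor a b hab
  obtain ⟨β, hβ⟩ := hρ th
  have hβfn := (mem_autGroup_iff_fn h.le).1 β.2
  obtain ⟨N', f, hf, hEN', hN', hfe⟩ :=
    receptive_extend (fullyNormalized_receptive h.hS h.hF h.hE.2.1) hβfn (img_autFn _)
  have hconj : ∀ n : N, ∃ g : N, β * autHom F h.le n * β⁻¹ = autHom F h.le g := by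
    intro n
    obtain ⟨i, hi⟩ := Subgroup.mem_zpowers_iff.1 (hgenP n)
    let g₀ : N := x₁ ^ (i * (a * a))
    have h1 : ρ (β * autHom F h.le n * β⁻¹ * (autHom F h.le g₀)⁻¹) = 1 := by
      rw [map_mul, map_mul, map_mul, map_inv, map_inv, hβ, show ρ (autHom F h.le n) = ψ n from rfl,
        show ρ (autHom F h.le g₀) = ψ g₀ from rfl, ← hi, map_zpow, ← conj_zpow, hht, ← zpow_mul,
        mul_comm i, mul_inv_cancel]
    obtain ⟨e, he⟩ := hInn _ h1
    refine ⟨⟨(e : Ω), hEN e.2⟩ * g₀, ?_⟩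
    rw [map_mul, eq_comm, ← eq_mul_inv_iff_mul_eq]
    refine Subtype.ext ?_
    show ((autHom F h.le ⟨(e : Ω), hEN e.2⟩ : F.autGroup E) : MulAut E) = _
    rw [← he]
    exact MulEquiv.ext fun z => Subtype.ext (by simp)
  have hle : N ≤ N' := fun n hn => by
    obtain ⟨g, hg⟩ := hconj ⟨n, hn⟩
    refine (hN' n).2 ⟨hn.1, hn.2, g, normalizerIn_le g.2, fun z hz => ?_⟩
    lift z to E using hz
    have h2 := congrArg (fun q : F.autGroup E => (((q : MulAut E) (((β : MulAut E)) z) : E) : Ω)) hg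
    simp only [Subgroup.coe_mul, Subgroup.coe_inv, MulAut.mul_apply, MulAut.inv_apply_self, autHom_apply] at h2
    rw [show n * (z : Ω) * n⁻¹ = ((conjAut E hn.2 z : E) : Ω) from rfl, autFn_coe, autFn_coe]
    exact h2
  have hfN : ∀ n ∈ N, f n ∈ N := fun n hn =>
    hf.map_normalizer hEN' ((img_congr hfe).trans (img_autFn _)) (hle hn) hn.2
  have hβe : ∀ e : E, (((β : MulAut E) e : E) : Ω) = f e := fun e => by rw [hfe _ e.2, autFn_coe]
  have hfx₁ : ∃ e₀ : E, f x₁ = (x₁ : Ω) ^ (a * a) * e₀ := by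
    have h3 : autHom F h.le (⟨f x₁, hfN _ x₁.2⟩ : N) = β * autHom F h.le x₁ * β⁻¹ := by
      refine Subtype.ext (MulEquiv.ext fun z => Subtype.ext ?_)
      obtain ⟨z, rfl⟩ := (β : MulAut E).surjective z
      simp only [Subgroup.coe_mul, Subgroup.coe_inv, MulAut.mul_apply, MulAut.inv_apply_self, autHom_apply, hβe]
      exact (hf.map_conj (hle x₁.2) (hle (hEN z.2))).symm
    have h4 : (x₁ ^ (a * a))⁻¹ * ⟨f x₁, hfN _ x₁.2⟩ ∈ B := by
      refine hker.le (MonoidHom.mem_ker.2 ?_)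
      rw [map_mul, map_inv, map_zpow, show ψ (⟨f x₁, hfN _ x₁.2⟩ : N) = ρ (β * autHom F h.le x₁ * β⁻¹) from
        congrArg ρ h3, map_mul, map_mul, map_inv, hβ]
      show (ψ x₁ ^ (a * a))⁻¹ * (th * ψ x₁ * th⁻¹) = 1
      rw [hht, inv_mul_cancel]
    refine ⟨⟨_, Subgroup.mem_subgroupOf.1 h4⟩, ?_⟩
    simp
  obtain ⟨e₀, he₀⟩ := hfx₁
  -- adjust inside `E`
  set ZN : Subgroup N := (plane v w).map (Subgroup.inclusion hEN) with hZN
  haveI : ZN.Normal := ⟨by
    rintro _ ⟨e, he, rfl⟩ n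
    exact ⟨_, hinv n e he, Subtype.ext (by simp)⟩⟩
  let κ := QuotientGroup.mk' ZN
  let ι := Subgroup.inclusion hEN
  have hκ : ∀ {e e' : E}, mq E e' ∈ Subgroup.zpowers (mq E v) ⊔ Subgroup.zpowers (mq E w) →
      κ (ι (e * e')) = κ (ι e) := fun {e e'} he => by
    rw [map_mul, map_mul, show κ (ι e') = 1 from (QuotientGroup.eq_one_iff _).2 ⟨e', he, rfl⟩, mul_one]
  have hcE : ∀ e e' : E, Commute (κ (ι e)) (κ (ι e')) := fun e e' => by
    rw [← commutatorElement_eq_one_iff_commute, ← map_commutatorElement, ← map_commutatorElement]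
    exact (QuotientGroup.eq_one_iff _).2
      ⟨_, frattini_le_plane _ _ (PGroup.Frattini.commutatorElement_mem_frattini h.pgroup e e'), rfl⟩
  have hκu : ∀ e : E, ∀ i : ℤ, (∃ j k : ℤ, mq E e = mq E u ^ i * mq E v ^ j * mq E w ^ k) →
      κ (ι e) = κ (ι u) ^ i := by
    rintro e i ⟨j, k, he⟩
    rw [← map_zpow, ← map_zpow, ← hκ (e := u ^ i) (e' := (u ^ i)⁻¹ * e), mul_inv_cancel_left]
    rw [map_mul, map_inv, map_zpow, he, mul_assoc, inv_mul_cancel_left]
    exact Subgroup.mul_mem_sup (Subgroup.zpow_mem _ (Subgroup.mem_zpowers _) j)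
      (Subgroup.zpow_mem _ (Subgroup.mem_zpowers _) k)
  have hxu : Commute (κ x₁) (κ (ι u)) := by
    rw [← commutatorElement_eq_one_iff_commute, ← map_commutatorElement]
    refine (QuotientGroup.eq_one_iff _).2 ⟨((autHom F h.le x₁ : F.autGroup E) : MulAut E) u * u⁻¹, ?_,
      Subtype.ext (by simp [ι, commutatorElement_def])⟩
    rw [SetLike.mem_coe, plane, Subgroup.mem_comap, map_mul, map_inv, ← hψ, h1u, hVc (mq E u), mul_inv_cancel_right]
    exact Subgroup.mem_sup_left (Subgroup.mem_zpowers _)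
  obtain ⟨j, j', j'', hj⟩ : ∃ i j k : ℤ, mq E e₀ = mq E u ^ i * mq E v ^ j * mq E w ^ k := hgen _
  have hden : (a : ZMod p) * a - b ≠ 0 := by
    intro e
    refine ha3 ?_
    rw [Int.cast_mul] at hab
    rw [sub_eq_zero] at e
    rw [pow_succ, pow_two, e, mul_comm, hab]
  set r : ℤ := (((j : ZMod p) / ((a : ZMod p) * a - b)).val : ℤ) with hr
  set x : N := x₁ * ι (u ^ r) with hxdef
  have hxact : ∀ e : E, mq E (((autHom F h.le x : F.autGroup E) : MulAut E) e) =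
      mq E (((autHom F h.le x₁ : F.autGroup E) : MulAut E) e) := fun e => by
    have h2 : ψ x = ψ x₁ := by
      rw [hxdef, map_mul ψ, MonoidHom.mem_ker.1 (hker.ge (u ^ r).2 : ι (u ^ r) ∈ ψ.ker), mul_one]
    rw [← hψ, h2, hψ]
  have hfxκ : κ (⟨f x, hfN _ x.2⟩ : N) = κ x ^ (a * a) := by
    have e1 : (⟨f x, hfN _ x.2⟩ : N) = x₁ ^ (a * a) * ι e₀ * ι ((β : MulAut E) (u ^ r)) := Subtype.ext (by
      show f ((x₁ : Ω) * ((u ^ r : E) : Ω)) = _
      rw [hf.map_mul (hle x₁.2) (hle (hEN (u ^ r).2)), he₀, ← hβe]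
      simp [ι])
    have e2 : κ (ι ((β : MulAut E) (u ^ r))) = κ (ι u) ^ (b * r) :=
      hκu _ _ ⟨0, 0, by
        rw [zpow_zero, zpow_zero, mul_one, mul_one, map_zpow, map_zpow, zpow_mul]
        congr 1
        rw [← hact β u, hβ, hhu]⟩
    rw [e1, map_mul, map_mul, map_zpow, e2, hκu e₀ j ⟨j', j'', hj⟩, hxdef, map_mul, map_zpow ι, map_zpow κ,
      (hxu.zpow_right r).mul_zpow, mul_assoc, ← zpow_add, ← zpow_mul]
    congr 1
    refine zpow_congr (p := p) ?_ ?_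
    · rw [← map_pow, ← map_pow]
      exact (QuotientGroup.eq_one_iff _).2
        ⟨_, frattini_le_plane _ _ (PGroup.Frattini.pow_mem_frattini h.pgroup u), rfl⟩
    · push_cast
      rw [hr, intCast_val]
      have hq : ((a : ZMod p) * a - b) * ((j : ZMod p) / ((a : ZMod p) * a - b)) = j := mul_div_cancel₀ _ hden
      linear_combination -hq
  obtain ⟨α, hα⟩ := hρ s
  refine ⟨x, u, v, w, f, a, b, ⟨fun hh => hx₁E ?_, hcard, fun e => hgen _, ?_, ?_, ?_, hinv, ⟨α, α.2, ?_, ?_, ?_⟩,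
    ⟨β, β.2, hβe, ?_, ?_, ?_⟩, hf.mono hle, hfN, ?_, hab, ha2, ha3, ha5⟩⟩
  · have := E.mul_mem hh (inv_mem (u ^ r).2)
    rwa [hxdef, Subgroup.coe_mul, show ((ι (u ^ r) : N) : Ω) = ((u ^ r : E) : Ω) from rfl,
      mul_inv_cancel_right] at this
  · rw [hxact, ← hψ]; exact h1u
  · rw [hxact, ← hψ]; exact h1v
  · rw [hxact, ← hψ]; exact h1w
  · rw [← hact α u, hα]; exact hsu
  · rw [← hact α v, hα]; exact hsv
  · rw [← hact α w, hα]; exact hsw
  · rw [← hact β u, hβ]; exact hhu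
  · rw [← hact β v, hβ]; exact hhv
  · rw [← hact β w, hβ]; exact hhw
  · have h2 : (x ^ (a * a))⁻¹ * ⟨f x, hfN _ x.2⟩ ∈ ZN := QuotientGroup.eq.1 (by
      show κ _ = κ _
      rw [map_zpow, hfxκ])
    obtain ⟨z, hz, hze⟩ := h2
    refine ⟨z, hz, ?_⟩
    have := congrArg Subtype.val hze
    simp only [Subgroup.coe_inclusion, Subgroup.coe_mul, Subgroup.coe_inv, SubgroupClass.coe_zpow] at this
    rw [this, mul_inv_cancel_left]

end CfsgLib.Fsys.RankThree
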