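import Cfsg.Agent.Lib.FusionSystem.RankThree.RegularAlg

/-! A transvection, a swap and a torus on a group with three generators and sectional rank three. -/

set_option autoImplicit false
set_option linter.unusedSectionVars false
set_option linter.style.haveILetI false
set_option maxHeartbeats 800000

open scoped commutatorElement

namespace CfsgLib.Fsys.RankThree

variable {G : Type*} [Group G] [Finite G] {p : ℕ} [hp : Fact p.Prime]

theorem transv_commutator (hG : IsPGroup p G) (hp5 : 5 ≤ p) (hidx : (frattini G).index = p ^ 3) (h3 : Rank3 p G)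
    {φ α β : MulAut G} {u v w : G} {a b : ℤ}
    (hgen : ∀ g : G, ∃ i j k : ℤ, QuotientGroup.mk' (frattini G) g = QuotientGroup.mk' (frattini G) u ^ i *
      QuotientGroup.mk' (frattini G) v ^ j * QuotientGroup.mk' (frattini G) w ^ k)
    (hφu : (u * v)⁻¹ * φ u ∈ frattini G) (hφv : v⁻¹ * φ v ∈ frattini G)
    {k : ℕ} (hφk : φ ^ p ^ k = 1) {z : G} (hz : z ∈ frattini G) (hpow : ∀ g, (φ ^ p) g = z * g * z⁻¹)
    (hαu : v⁻¹ * α u ∈ frattini G) (hαv : u * α v ∈ frattini G) (hαw : w⁻¹ * α w ∈ frattini G)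
    (hβu : (u ^ b)⁻¹ * β u ∈ frattini G) (hβv : (v ^ a)⁻¹ * β v ∈ frattini G) (hβw : w⁻¹ * β w ∈ frattini G)
    (hab : ((a * b : ℤ) : ZMod p) = 1) (ha2 : (a : ZMod p) ^ 2 ≠ 1) :
    ∀ g : G, ⁅w, g⁆ ∈ phiTwo p G := by
  classical
  obtain ⟨hWc, hWe, hcW, hpW, hW3, hWmem, hWcard⟩ := phiTwo_facts p hG h3
  set π := QuotientGroup.mk' (phiTwo p G) with hπ
  set W := (frattini G).map π with hW
  set σ := QuotientGroup.mk' (frattini G) with hσ
  have hVc := PGroup.Frattini.quotient_mul_comm (p := p) (P := G) hG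
  have hVe := PGroup.Frattini.quotient_pow_eq_one (p := p) (P := G) hG
  have hQ : IsPGroup p (G ⧸ phiTwo p G) := hG.to_quotient _
  have hind : Indep3 p (σ u) (σ v) (σ w) := indep_of_gen hVc hVe (by rw [← Subgroup.index_eq_card, hidx]) fun q => by
    obtain ⟨g, rfl⟩ := QuotientGroup.mk'_surjective (frattini G) q
    exact hgen g
  have hvΦ : v ∉ frattini G := fun hh => by
    have := (hind 0 1 0 (by rw [zpow_zero, zpow_zero, zpow_one, one_mul, mul_one]; exact (QuotientGroup.eq_one_iff v).2 hh)).2.1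
    simp at this
  haveI hWn : W.Normal := ⟨fun x hx g => by rwa [← (hWc x hx g).eq, mul_inv_cancel_right]⟩
  have hC : ∀ x y q : G ⧸ phiTwo p G, Commute ⁅x, y⁆ q := fun x y q => hWc _ (hcW x y) q
  -- congruent elements have the same powers and commutators
  have hsplit : ∀ {g g' : G}, g'⁻¹ * g ∈ frattini G → ∃ f ∈ W, π g = π g' * f := fun {g g'} hg =>
    ⟨π (g'⁻¹ * g), (hWmem _).2 hg, by rw [← map_mul, mul_inv_cancel_left]⟩
  have hpeq : ∀ {g g' : G}, g'⁻¹ * g ∈ frattini G → π g ^ p = π g' ^ p := fun {g g'} hg => by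
    obtain ⟨f, hf, he⟩ := hsplit hg
    rw [he, (hWc f hf _).symm.mul_pow, hWe f hf, mul_one]
  have hCl : ∀ {g g' : G}, g'⁻¹ * g ∈ frattini G → ∀ y, ⁅π g, y⁆ = ⁅π g', y⁆ := fun {g g'} hg y => by
    obtain ⟨f, hf, he⟩ := hsplit hg
    rw [he, mul_commutator_left fun q => hC _ _ q, commutatorElement_eq_one_iff_commute.2 (hWc f hf y), mul_one]
  have hCr : ∀ {g g' : G}, g'⁻¹ * g ∈ frattini G → ∀ y, ⁅y, π g⁆ = ⁅y, π g'⁆ := fun {g g'} hg y => by
    rw [← commutatorElement_inv (π g) y, hCl hg, commutatorElement_inv]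
  -- the powers
  set ψ := phiTwoAut p φ with hψdef
  have hψ : ∀ g, ψ (π g) = π (φ g) := phiTwoAut_mk p φ
  have hψk : ψ ^ p ^ k = 1 := phiTwoAut_pow_eq_one p hφk
  have hWinv : ∀ x ∈ W, ψ x ∈ W := by
    rintro _ ⟨x, hx, rfl⟩
    exact ⟨φ x, (Subgroup.characteristic_iff_map_le.1 frattini_characteristic φ) ⟨x, hx, rfl⟩, (hψ x).symm⟩
  set bb := π (u⁻¹ * φ u) with hbb
  have hbv : v⁻¹ * (u⁻¹ * φ u) ∈ frattini G := by rwa [mul_inv_rev, mul_assoc] at hφu
  set F1 := bb⁻¹ * ψ bb with hF1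
  have hF1W : F1 ∈ W := by
    rw [hF1, hbb, hψ, ← map_inv, ← map_mul]
    refine (hWmem _).2 ?_
    rw [← QuotientGroup.eq_one_iff]
    show σ _ = 1
    have e1 : σ (φ v) = σ v := (QuotientGroup.eq.2 hφv).symm
    have e2 : σ (φ (u⁻¹ * φ u)) = σ (φ v) := (QuotientGroup.eq.2 (by
      have := (Subgroup.characteristic_iff_map_le.1 frattini_characteristic φ) ⟨_, hbv, rfl⟩
      simpa [map_mul] using this)).symm
    have e3 : σ (u⁻¹ * φ u) = σ v := (QuotientGroup.eq.2 hbv).symm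
    rw [map_mul σ, map_inv σ, e2, e1, e3, inv_mul_cancel]
  set F2 := F1⁻¹ * ψ F1 with hF2
  set F3 := F2⁻¹ * ψ F2 with hF3
  have hF2W : F2 ∈ W := W.mul_mem (inv_mem hF1W) (hWinv _ hF1W)
  have hF3W : F3 ∈ W := W.mul_mem (inv_mem hF2W) (hWinv _ hF2W)
  have hF3 : ψ F3 = F3 := by
    have := shift_iter hQ hψk 3 W (fun x hx y _ => (hWc x hx y).eq) hWinv hW3 F1 hF1W
    exact (inv_mul_eq_one.1 (show F3⁻¹ * ψ F3 = 1 from this)).symm
  have hpow5 := pow_shift_five (p := p) hp5 (φ := ψ) (show ψ (π u) = π u * bb by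
      rw [hbb, hψ, ← map_mul, mul_inv_cancel_left]) (show ψ bb = bb * F1 by rw [hF1, mul_inv_cancel_left])
    (show ψ F1 = F1 * F2 by rw [hF2, mul_inv_cancel_left]) (show ψ F2 = F2 * _ by rw [mul_inv_cancel_left])
    hF3 (hWc _ hF1W _).symm (hWc _ hF1W) (hWc _ hF2W) (hWc _ hF3W) (hWe _ hF1W) (hWe _ hF2W) (hWe _ hF3W)
  have hvp : π v ^ p = 1 := by
    have e : (ψ ^ p) (π u) = π u := by
      rw [phiTwoAut_pow_mk, hpow, map_mul, map_mul, map_inv, (hWc _ ((hWmem z).2 hz) _).eq, mul_inv_cancel_right]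
    rw [e] at hpow5
    rw [← hpeq (g := u⁻¹ * φ u) hbv]
    exact mul_eq_left.1 hpow5.symm
  have hγpow : ∀ (γ : MulAut G) (g : G), π (γ g) ^ p = phiTwoAut p γ (π g ^ p) := fun γ g => by
    rw [map_pow, phiTwoAut_mk]
  have hup : π u ^ p = 1 := by
    have h1 := hγpow α v
    rw [hvp, map_one, hpeq (g' := u⁻¹) (by rwa [inv_inv]), map_inv, inv_pow, inv_eq_one] at h1
    exact h1
  have hel : ∀ B : Subgroup (G ⧸ phiTwo p G), (∀ x ∈ B, ∀ y ∈ B, Commute x y) → (∀ x ∈ B, x ^ p = 1) →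
      Nat.card B ≤ p ^ 3 := fun B hB1 hB2 => by
    have := (h3.quotient (phiTwo p G)) B ⊥ bot_le
      (fun a ha b hb => by rw [Subgroup.mem_bot]; exact commutatorElement_eq_one_iff_commute.2 (hB1 a ha b hb))
      (fun a ha => by rw [Subgroup.mem_bot]; exact hB2 a ha)
    rwa [Subgroup.card_bot, mul_one] at this
  -- adjoining a commuting element of order `p`
  have hadj : ∀ (B : Subgroup (G ⧸ phiTwo p G)) (q : G ⧸ phiTwo p G), W ≤ B →
      (∀ x ∈ B, ∀ y ∈ B, Commute x y) → (∀ x ∈ B, x ^ p = 1) → q ^ p = 1 → (∀ x ∈ B, Commute q x) →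
      (∀ x ∈ Subgroup.zpowers q ⊔ B, ∀ y ∈ Subgroup.zpowers q ⊔ B, Commute x y) ∧
        ∀ x ∈ Subgroup.zpowers q ⊔ B, x ^ p = 1 := by
    intro B q hWB hBc hBe hq hqB
    haveI : B.Normal := ⟨fun x hx g => by
      have := B.mul_mem (hWB (hcW g x)) hx
      rwa [commutatorElement_def, inv_mul_cancel_right] at this⟩
    have hmem : ∀ x ∈ Subgroup.zpowers q ⊔ B, ∃ i : ℤ, ∃ y ∈ B, x = q ^ i * y := fun x hx => by
      obtain ⟨y, hy, b, hb, rfl⟩ := Subgroup.mem_sup_of_normal_right.1 hx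
      obtain ⟨i, rfl⟩ := Subgroup.mem_zpowers_iff.1 hy
      exact ⟨i, b, hb, rfl⟩
    refine ⟨fun x hx y hy => ?_, fun x hx => ?_⟩
    · obtain ⟨i, x', hx', rfl⟩ := hmem x hx
      obtain ⟨j, y', hy', rfl⟩ := hmem y hy
      exact ((Commute.zpow_zpow_self _ i j).mul_right ((hqB y' hy').zpow_left i)).mul_left
        (((hqB x' hx').symm.zpow_right j).mul_right (hBc x' hx' y' hy'))
    · obtain ⟨i, x', hx', rfl⟩ := hmem x hx
      rw [((hqB x' hx').zpow_left i).mul_pow, hBe x' hx', mul_one, ← zpow_natCast, ← zpow_mul, mul_comm, zpow_mul,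
        zpow_natCast, hq, one_zpow]
  obtain ⟨hB₁c, hB₁e⟩ := hadj W (π v) le_rfl (fun x hx y _ => hWc x hx y) hWe hvp fun x hx => (hWc x hx _).symm
  set B₁ := Subgroup.zpowers (π v) ⊔ W with hB₁
  have hlt1 : W < B₁ := lt_of_le_not_ge le_sup_right fun hh =>
    hvΦ ((hWmem v).1 (hh (Subgroup.mem_sup_left (Subgroup.mem_zpowers _))))
  have hW2 : Nat.card W ≤ p ^ 2 := by
    have h1 := (CfsgLib.Fusion.MaxClass.card_mul_le_of_lt hQ hlt1).trans (hel B₁ hB₁c hB₁e)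
    rw [pow_succ' p 2] at h1
    exact Nat.le_of_mul_le_mul_left h1 hp.out.pos
  -- the three commutators
  set c₁ := ⁅π u, π w⁆ with hc₁
  set c₂ := ⁅π v, π w⁆ with hc₂
  set c₃ := ⁅π u, π v⁆ with hc₃
  have hce : ∀ x y : G ⧸ phiTwo p G, ⁅x, y⁆ ^ p = 1 := fun x y => hWe _ (hcW x y)
  have hmap : ∀ (γ : MulAut G) (g g' h h' : G), g'⁻¹ * γ g ∈ frattini G → h'⁻¹ * γ h ∈ frattini G →
      phiTwoAut p γ ⁅π g, π h⁆ = ⁅π g', π h'⁆ := fun γ g g' h h' hg hh => by
    rw [map_bracket, phiTwoAut_mk, phiTwoAut_mk, hCl hg, hCr hh]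
  have hα1 : phiTwoAut p α c₁ = c₂ := hmap α u v w w hαu hαw
  have hzl : ∀ (x y : G ⧸ phiTwo p G) (n : ℤ), ⁅x ^ n, y⁆ = ⁅x, y⁆ ^ n := fun x y n =>
    commutator_zpow_left (fun q r => hC q _ r) n
  have hzr : ∀ (x y : G ⧸ phiTwo p G) (n : ℤ), ⁅x, y ^ n⁆ = ⁅x, y⁆ ^ n := fun x y n => by
    rw [← commutatorElement_inv (y ^ n) x, hzl, ← inv_zpow, commutatorElement_inv]
  have hβ1 : phiTwoAut p β c₁ = c₁ ^ b := by
    rw [hc₁, hmap β u (u ^ b) w w hβu hβw, map_zpow, hzl]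
  have hβ2 : phiTwoAut p β c₂ = c₂ ^ a := by
    rw [hc₂, hmap β v (v ^ a) w w hβv hβw, map_zpow, hzl]
  have hβ3 : phiTwoAut p β c₃ = c₃ := by
    rw [hc₃, hmap β u (u ^ b) v (v ^ a) hβu hβv, map_zpow, map_zpow, hzl, hzr, ← zpow_mul]
    exact (zpow_congr (hce _ _) (j := 1) (by simpa using hab)).trans (zpow_one _)
  have hb1 : (b : ZMod p) ≠ 1 := fun e => by
    rw [Int.cast_mul, e, mul_one] at hab
    exact ha2 (by rw [hab, one_pow])
  have ha1 : (a : ZMod p) ≠ 1 := fun e => ha2 (by rw [e, one_pow])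
  have hc₁1 : c₁ = 1 := by
    by_contra hne
    have hc₂1 : c₂ ≠ 1 := fun e => hne ((phiTwoAut p α).injective (by rw [hα1, e, map_one]))
    have hindW : ∀ i j : ℤ, c₁ ^ i * c₂ ^ j = 1 → (i : ZMod p) = 0 ∧ (j : ZMod p) = 0 := by
      intro i j hij
      have h1 := congrArg (phiTwoAut p β) hij
      rw [map_mul, map_zpow, map_zpow, hβ1, hβ2, map_one, ← zpow_mul, ← zpow_mul] at h1
      have e1 : c₂ ^ j = c₁ ^ (-i) := by rw [zpow_neg]; exact eq_inv_of_mul_eq_one_right hij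
      have e2 : c₂ ^ (a * j) = c₁ ^ (-i * a) := by rw [mul_comm a j, zpow_mul, e1, ← zpow_mul]
      rw [e2, ← zpow_add] at h1
      have h2 := eq_of_zpow (p := p) (hce _ _) hne (h1.trans (zpow_zero _).symm)
      push_cast at h2
      have hi0 : (i : ZMod p) = 0 := by
        refine (mul_eq_zero.1 (show (i : ZMod p) * ((b : ZMod p) - a) = 0 by linear_combination h2)).resolve_right ?_
        rw [sub_eq_zero]
        intro e
        rw [Int.cast_mul, e, ← pow_two] at hab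
        exact ha2 hab
      refine ⟨hi0, ?_⟩
      rw [zpow_congr (hce _ _) (j := 0) (by simpa using hi0), zpow_zero, one_mul] at hij
      have := eq_of_zpow (p := p) (hce _ _) hc₂1 (hij.trans (zpow_zero _).symm)
      simpa using this
    let f : ZMod p × ZMod p → W := fun q => ⟨c₁ ^ (q.1.val : ℤ) * c₂ ^ (q.2.val : ℤ),
      W.mul_mem (W.zpow_mem (hcW _ _) _) (W.zpow_mem (hcW _ _) _)⟩
    have hinj : Function.Injective f := fun q r hqr => by
      have he : c₁ ^ (q.1.val : ℤ) * c₂ ^ (q.2.val : ℤ) = c₁ ^ (r.1.val : ℤ) * c₂ ^ (r.2.val : ℤ) :=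
        congrArg Subtype.val hqr
      obtain ⟨h1, h2⟩ := hindW ((q.1.val : ℤ) - r.1.val) ((q.2.val : ℤ) - r.2.val) (by
        have hc : Commute ((c₁ ^ (r.1.val : ℤ))⁻¹) (c₂ ^ (q.2.val : ℤ) * (c₂ ^ (r.2.val : ℤ))⁻¹) :=
          hWc _ (W.inv_mem (W.zpow_mem (hcW _ _) _)) _
        rw [zpow_sub, zpow_sub, mul_assoc, hc.eq]
        rw [← mul_assoc, ← mul_assoc, he, mul_inv_cancel_right, mul_inv_cancel])
      rw [Int.cast_sub, sub_eq_zero, intCast_val, intCast_val] at h1 h2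
      exact Prod.ext h1 h2
    have hsurj : Function.Surjective f := (hinj.bijective_of_nat_card_le (by
      rw [Nat.card_prod, Nat.card_zmod, ← pow_two]; exact hW2)).2
    obtain ⟨q, hq⟩ := hsurj ⟨c₃, hcW _ _⟩
    have hq' : c₁ ^ (q.1.val : ℤ) * c₂ ^ (q.2.val : ℤ) = c₃ := congrArg Subtype.val hq
    have hc₃1 : c₃ = 1 := by
      have h1 := hβ3
      rw [← hq', map_mul, map_zpow, map_zpow, hβ1, hβ2, ← zpow_mul, ← zpow_mul] at h1
      obtain ⟨e1, e2⟩ := hindW (b * q.1.val - q.1.val) (a * q.2.val - q.2.val) (by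
        have hc : Commute ((c₁ ^ (q.1.val : ℤ))⁻¹) (c₂ ^ (a * q.2.val) * (c₂ ^ (q.2.val : ℤ))⁻¹) :=
          hWc _ (W.inv_mem (W.zpow_mem (hcW _ _) _)) _
        rw [zpow_sub, zpow_sub, mul_assoc, hc.eq]
        rw [← mul_assoc, ← mul_assoc, h1, mul_inv_cancel_right, mul_inv_cancel])
      push_cast at e1 e2
      rw [ZMod.natCast_zmod_val] at e1 e2
      have z1 : q.1 = 0 := (mul_eq_zero.1 (show ((b : ZMod p) - 1) * q.1 = 0 by linear_combination e1)).resolve_left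
        (sub_ne_zero.2 hb1)
      have z2 : q.2 = 0 := (mul_eq_zero.1 (show ((a : ZMod p) - 1) * q.2 = 0 by linear_combination e2)).resolve_left
        (sub_ne_zero.2 ha1)
      rw [← hq', z1, z2]
      simp
    have huB : ∀ x ∈ B₁, Commute (π u) x := by
      have hle : B₁ ≤ Subgroup.centralizer {π u} := sup_le (Subgroup.zpowers_le.2 (Subgroup.mem_centralizer_iff.2
        (by simpa using (commutatorElement_eq_one_iff_commute.1 hc₃1).eq)))
        fun x hx => Subgroup.mem_centralizer_iff.2 (by simpa using (hWc x hx (π u)).symm.eq)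
      exact fun x hx => Subgroup.mem_centralizer_iff.1 (hle hx) (π u) rfl
    obtain ⟨hB₂c, hB₂e⟩ := hadj B₁ (π u) le_sup_right hB₁c hB₁e hup huB
    have hlt2 : B₁ < Subgroup.zpowers (π u) ⊔ B₁ := lt_of_le_not_ge le_sup_right fun hh => by
      obtain ⟨y, hy, x, hx, hyx⟩ := Subgroup.mem_sup_of_normal_right.1 (hh (Subgroup.mem_sup_left (Subgroup.mem_zpowers _)))
      obtain ⟨i, rfl⟩ := Subgroup.mem_zpowers_iff.1 hy
      have h2 : π ((v ^ i)⁻¹ * u) ∈ W := by
        rw [map_mul, map_inv, map_zpow, ← hyx, inv_mul_cancel_left]; exact hx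
      have h4 : σ v ^ i = σ u := by
        rw [← map_zpow]; exact QuotientGroup.eq.2 ((hWmem _).1 h2)
      have := (hind 1 (-i) 0 (by rw [zpow_one, zpow_zero, mul_one, ← h4, ← zpow_add, add_neg_cancel, zpow_zero])).1
      simp at this
    have e1 := CfsgLib.Fusion.MaxClass.card_mul_le_of_lt hQ hlt1
    have e2 := CfsgLib.Fusion.MaxClass.card_mul_le_of_lt hQ hlt2
    have e3 := hel _ hB₂c hB₂e
    have e4 := Nat.card_le_card_of_injective f hinj
    rw [Nat.card_prod, Nat.card_zmod, ← pow_two] at e4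
    have e5 : p * (p * p ^ 2) ≤ p ^ 3 :=
      le_trans (Nat.mul_le_mul_left _ ((Nat.mul_le_mul_left _ e4).trans e1)) (e2.trans e3)
    rw [← pow_succ', ← pow_succ'] at e5
    have := (Nat.pow_le_pow_iff_right hp.out.one_lt).1 e5
    omega
  have hc₂1 : c₂ = 1 := by rw [← hα1, hc₁1, map_one]
  intro g
  refine (QuotientGroup.eq_one_iff (⁅w, g⁆ : G)).1 ?_
  show π _ = 1
  rw [map_commutatorElement]
  obtain ⟨i, j, n, hg⟩ := hgen g
  have hg' : (u ^ i * v ^ j * w ^ n)⁻¹ * g ∈ frattini G := QuotientGroup.eq.1 (by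
    rw [← QuotientGroup.mk'_apply, map_mul, map_mul, map_zpow, map_zpow, map_zpow]; exact hg.symm)
  rw [hCr hg', map_mul, map_mul, map_zpow, map_zpow, map_zpow, commutatorElement_eq_one_iff_commute]
  exact ((((commutatorElement_eq_one_iff_commute.1 hc₁1).symm).zpow_right i).mul_right
    (((commutatorElement_eq_one_iff_commute.1 hc₂1).symm).zpow_right j)).mul_right ((Commute.refl _).zpow_right n)

end CfsgLib.Fsys.RankThree
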