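import Cfsg.Agent.Lib.FusionSystem.RankThree.Conj
import Cfsg.Agent.Lib.FusionSystem.RankThree.Transvection
import Cfsg.Agent.Lib.FusionSystem.RankThree.TransvectionAlg
import Cfsg.Agent.Lib.FusionSystem.RankThree.FrameAlg

/-! With a transvection, the normalizer of the normalizer fixes the Frattini subgroup and the centre modulo it. -/

set_option autoImplicit false
set_option linter.unusedSectionVars false
set_option linter.style.haveILetI false
set_option maxHeartbeats 800000

open Cfsg Cfsg.FusionSystem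
open scoped commutatorElement

namespace CfsgLib.Fsys.RankThree

universe u

variable {Ω : Type u} [Group Ω] {S : Subgroup Ω} {p : ℕ} [hpf : Fact p.Prime] {F : FusionSystem S}
  {E : Subgroup Ω}

theorem fn_zpow {N : Subgroup Ω} {f : Ω → Ω} (hf : Fn F N f) {n : Ω} (hn : n ∈ N) (i : ℤ) :
    f (n ^ i) = f n ^ i := by
  obtain ⟨φ, -, hφ⟩ := hf
  have := map_zpow φ ⟨n, hn⟩ i
  rw [hφ, hφ] at this
  simpa using this

variable [Finite S]

/-- The Frattini subgroup of `E` inside a group containing it. -/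
abbrev phiIn (E H : Subgroup Ω) : Subgroup H := (phi E).subgroupOf H

theorem phiIn_normal (hES : E ≤ S) : (phiIn E (normalizerIn S E)).Normal := ⟨fun v hv n => by
  rw [Subgroup.mem_subgroupOf] at hv ⊢
  obtain ⟨w, hw, he⟩ := hv
  exact ⟨conjAut E n.2.2 w, frattini_invariant _ hw, by simp [← he]⟩⟩

variable {x : normalizerIn S E} {u v w : E} {f : Ω → Ω} {a b : ℤ}

namespace TData

variable (h : Hyp p F E) (D : TData p F E h.le x u v w f a b)
include D

theorem shift_mem (n : normalizerIn S E) (e : E) :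
    e⁻¹ * ((autHom F h.le n : F.autGroup E) : MulAut E) e ∈ plane v w := by
  haveI := h.finite
  haveI : (plane v w).Normal := ⟨fun z hz g => by
    have := PGroup.Frattini.commutatorElement_mem_frattini h.pgroup g z
    have h2 := (plane v w).mul_mem (frattini_le_plane v w this) hz
    rwa [commutatorElement_def, inv_mul_cancel_right] at h2⟩
  obtain ⟨j, hj⟩ := h.autHom_pow n
  refine SmallEssential.shift_small h.pgroup le_top ?_ hj (D.inv n) (fun _ _ => Subgroup.mem_top _)
    (Subgroup.mem_top e)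
  rw [Subgroup.relIndex_top_right]
  -- the index of the plane
  have hVc := PGroup.Frattini.quotient_mul_comm (p := p) (P := E) h.pgroup
  have hVe := PGroup.Frattini.quotient_pow_eq_one (p := p) (P := E) h.pgroup
  let χ : ZMod p → E ⧸ plane v w := fun c => ((u ^ (c.val : ℤ) : E) : E ⧸ plane v w)
  have hχ : Function.Surjective χ := by
    intro q
    obtain ⟨g, rfl⟩ := QuotientGroup.mk'_surjective (plane v w) q
    obtain ⟨i, j', k, hg⟩ := D.gen g
    refine ⟨(i : ZMod p), QuotientGroup.eq.2 ((mem_plane h).2 ⟨j', k, ?_⟩)⟩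
    rw [map_mul, map_inv, map_zpow, zpow_congr (hVe (mq E u)) (intCast_val _), hg, mul_assoc, inv_mul_cancel_left]
  rw [Subgroup.index_eq_card]
  haveI : Finite (ZMod p) := inferInstance
  exact (Nat.card_le_card_of_surjective χ hχ).trans_eq (Nat.card_zmod p)

theorem indep : Indep3 p (mq E u) (mq E v) (mq E w) := by
  haveI := h.finite
  refine indep_of_gen (PGroup.Frattini.quotient_mul_comm h.pgroup) (PGroup.Frattini.quotient_pow_eq_one h.pgroup)
    h.quotient_card fun q => ?_
  obtain ⟨g, rfl⟩ := QuotientGroup.mk'_surjective (frattini ↥E) q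
  exact D.gen g

theorem u_notMem : u ∉ plane v w := by
  haveI := h.finite
  intro hu
  obtain ⟨j, k, hjk⟩ := (mem_plane h).1 hu
  have hVc := PGroup.Frattini.quotient_mul_comm (p := p) (P := E) h.pgroup
  have := (D.indep h 1 (-j) (-k) (by
    rw [zpow_one, hjk, zpow_neg, zpow_neg, mul_assoc (mq E v ^ j), hVc (mq E w ^ k), ← mul_assoc (mq E v ^ j),
      mul_inv_cancel, one_mul, mul_inv_cancel])).1
  simp at this

theorem fix_eq (n : normalizerIn S E) (hn : (n : Ω) ∉ E) :
    fixMod ((autHom F h.le n : F.autGroup E) : MulAut E) = plane v w := by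
  classical
  haveI := h.finite
  haveI : Finite (normalizerIn S E) := finite_of_le_base normalizerIn_le
  set B := E.subgroupOf (normalizerIn S E)
  haveI : B.Normal := ⟨fun z hz m => (mem_normalizer_iff'.1 m.2.2).1 _ hz⟩
  have hVe := PGroup.Frattini.quotient_pow_eq_one (p := p) (P := E) h.pgroup
  set φ := ((autHom F h.le x : F.autGroup E) : MulAut E)
  have hfx : ∀ e ∈ plane v w, e ∈ fixMod φ := by
    intro e he
    obtain ⟨j, k, hjk⟩ := (mem_plane h).1 he
    rw [mem_fixMod, ← mq_eq]
    let ψ : E →* E ⧸ frattini ↥E := (mq E).comp φ.toMonoidHom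
    have e1 : ψ ((v ^ j * w ^ k)⁻¹ * e) = 1 := (QuotientGroup.eq_one_iff _).2
      (frattini_invariant φ (mq_eq.1 (by rw [hjk, map_mul, map_zpow, map_zpow])))
    rw [map_mul, map_inv, inv_mul_eq_one, map_mul, map_zpow, map_zpow] at e1
    show mq E e = ψ e
    rw [← e1, show ψ v = mq E v from D.actv, show ψ w = mq E w from D.actw, hjk]
  have hBidx : B.index = p := by
    have h1 := Subgroup.card_mul_index B
    rw [Nat.card_congr (Subgroup.subgroupOfEquivOfLe (le_normalizerIn h.le)).toEquiv, D.card, mul_comm p] at h1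
    exact Nat.eq_of_mul_eq_mul_left Nat.card_pos h1
  have hle : plane v w ≤ fixMod ((autHom F h.le n : F.autGroup E) : MulAut E) := by
    intro e he
    have hgen : n ∈ B ⊔ Subgroup.zpowers x := by
      have htop : B ⊔ Subgroup.zpowers x = ⊤ := by
        refine Subgroup.index_eq_one.1 (((Nat.dvd_prime hpf.out).1
          (hBidx ▸ Subgroup.index_dvd_of_le le_sup_left)).resolve_right fun e => ?_)
        exact D.notMem ((eq_of_index_eq (le_sup_left : B ≤ B ⊔ Subgroup.zpowers x) (hBidx.trans e.symm)).ge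
          (Subgroup.mem_sup_right (Subgroup.mem_zpowers x)))
      rw [htop]; exact Subgroup.mem_top _
    obtain ⟨z, hz, y, hy, rfl⟩ := Subgroup.mem_sup_of_normal_left.1 hgen
    obtain ⟨i, rfl⟩ := Subgroup.mem_zpowers_iff.1 hy
    obtain ⟨j, hj⟩ := mem_powers_iff_mem_zpowers.2 (Subgroup.zpow_mem _ (Subgroup.mem_zpowers x) i)
    rw [← show x ^ j = x ^ i from hj, mem_fixMod, ← mq_eq, map_mul, Subgroup.coe_mul, MulAut.mul_apply]
    have h2 : mq E e = mq E (((autHom F h.le (x ^ j) : F.autGroup E) : MulAut E) e) := by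
      clear hj
      induction j with
      | zero => simp
      | succ j ih =>
        rw [pow_succ', map_mul (autHom F h.le), Subgroup.coe_mul, MulAut.mul_apply]
        have h3 : φ e ∈ plane v w := D.inv x e he
        rw [mq_eq.2 (mem_fixMod.1 (hfx e he))]
        exact mq_eq.2 (by
          have := frattini_invariant φ (mq_eq.1 ih)
          rwa [map_mul, map_inv] at this)
    rw [h2]
    exact mq_eq.2 (mem_fixMod.1 (h.fix_of_mem z hz _))
  refine le_antisymm (fun e he => ?_) hle
  by_contra hne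
  refine hn (h.mem_of_fix n fun g => ?_)
  obtain ⟨i, j, k, hg⟩ := D.gen g
  obtain ⟨i', j', k', he'⟩ := D.gen e
  have hi' : (i' : ZMod p) ≠ 0 := fun e0 => hne ((mem_plane h).2 ⟨j', k', by
    rw [he', zpow_congr (hVe _) (j := 0) (by simpa using e0), zpow_zero, one_mul]⟩)
  obtain ⟨c, hc⟩ : ∃ c : ℤ, ((i' * c : ℤ) : ZMod p) = i := ⟨(((i : ZMod p) / i').val : ℤ), by
    rw [Int.cast_mul, intCast_val, mul_div_cancel₀ _ hi']⟩
  have hmem : (e ^ c)⁻¹ * g ∈ plane v w := by
    refine (mem_plane h).2 ⟨-(j' * c) + j, -(k' * c) + k, ?_⟩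
    letI : CommGroup (E ⧸ frattini ↥E) := { (inferInstance : Group (E ⧸ frattini ↥E)) with
      mul_comm := PGroup.Frattini.quotient_mul_comm (p := p) h.pgroup }
    rw [map_mul, map_inv, map_zpow, he', hg, mul_zpow, mul_zpow, ← zpow_mul, ← zpow_mul, ← zpow_mul,
      zpow_congr (hVe (mq E u)) hc]
    simp only [zpow_add, zpow_neg, mul_inv]
    calc (mq E u ^ i)⁻¹ * (mq E v ^ (j' * c))⁻¹ * (mq E w ^ (k' * c))⁻¹ * (mq E u ^ i * mq E v ^ j * mq E w ^ k)
        = ((mq E u ^ i)⁻¹ * mq E u ^ i) * ((mq E v ^ (j' * c))⁻¹ * mq E v ^ j * ((mq E w ^ (k' * c))⁻¹ * mq E w ^ k)) := by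
          ac_rfl
      _ = _ := by rw [inv_mul_cancel, one_mul]
  have := (fixMod ((autHom F h.le n : F.autGroup E) : MulAut E)).mul_mem (Subgroup.zpow_mem _ he c) (hle hmem)
  rwa [mul_inv_cancel_left] at this

/-- The relations of the normalizer modulo the Frattini subgroup of `E`. -/
theorem frame : haveI := phiIn_normal (S := S) h.le
    Frame p (⊤ : Subgroup (normalizerIn S E ⧸ phiIn E (normalizerIn S E)))
      (QuotientGroup.mk x) (QuotientGroup.mk (Subgroup.inclusion (le_normalizerIn h.le) u))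
      (QuotientGroup.mk (Subgroup.inclusion (le_normalizerIn h.le) v))
      (QuotientGroup.mk (Subgroup.inclusion (le_normalizerIn h.le) w)) := by
  classical
  haveI := h.finite
  haveI : Finite (normalizerIn S E) := finite_of_le_base normalizerIn_le
  haveI := phiIn_normal (S := S) h.le
  let ι := Subgroup.inclusion (le_normalizerIn h.le : E ≤ (normalizerIn S E))
  let π := QuotientGroup.mk' (phiIn E (normalizerIn S E))
  have hπE : ∀ {e e' : E}, π (ι e) = π (ι e') ↔ mq E e = mq E e' := fun {e e'} => by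
    rw [mq_eq]
    refine QuotientGroup.eq.trans ?_
    rw [← map_inv, ← map_mul, Subgroup.mem_subgroupOf]
    exact mem_phi (v := e⁻¹ * e')
  let τ := π.comp ι
  have hlift : ∀ {e : E} {i j k : ℤ}, mq E e = mq E u ^ i * mq E v ^ j * mq E w ^ k →
      τ e = τ u ^ i * τ v ^ j * τ w ^ k := fun {e i j k} he => by
    rw [← map_zpow, ← map_zpow, ← map_zpow, ← map_mul, ← map_mul]
    exact hπE.2 (by rw [he, map_mul, map_mul, map_zpow, map_zpow, map_zpow])
  set B := E.subgroupOf (normalizerIn S E)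
  haveI : B.Normal := ⟨fun z hz m => (mem_normalizer_iff'.1 m.2.2).1 _ hz⟩
  have hBidx : B.index = p := by
    have h1 := Subgroup.card_mul_index B
    rw [Nat.card_congr (Subgroup.subgroupOfEquivOfLe (le_normalizerIn h.le)).toEquiv, D.card, mul_comm p] at h1
    exact Nat.eq_of_mul_eq_mul_left Nat.card_pos h1
  have hxpE : (x : Ω) ^ p ∈ E := by
    have := Subgroup.pow_index_mem B x
    rwa [hBidx, Subgroup.mem_subgroupOf, Subgroup.coe_pow] at this
  have hcv : Commute (π x) (τ v) := by
    rw [commute_iff_eq, ← mul_inv_eq_iff_eq_mul]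
    show π x * π (ι v) * (π x)⁻¹ = π (ι v)
    rw [← map_inv π, ← map_mul π, ← map_mul π, show x * ι v * x⁻¹ = ι (((autHom F h.le x : F.autGroup E) : MulAut E) v)
      from Subtype.ext (by simp [ι])]
    exact hπE.2 D.actv
  have hcw : Commute (π x) (τ w) := by
    rw [commute_iff_eq, ← mul_inv_eq_iff_eq_mul]
    show π x * π (ι w) * (π x)⁻¹ = π (ι w)
    rw [← map_inv π, ← map_mul π, ← map_mul π, show x * ι w * x⁻¹ = ι (((autHom F h.le x : F.autGroup E) : MulAut E) w)
      from Subtype.ext (by simp [ι])]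
    exact hπE.2 D.actw
  have hcE : ∀ e e' : E, Commute (τ e) (τ e') := fun e e' => by
    rw [commute_iff_eq, ← map_mul, ← map_mul]
    exact hπE.2 (by rw [map_mul, map_mul, PGroup.Frattini.quotient_mul_comm (p := p) h.pgroup])
  have hpE : ∀ e : E, τ e ^ p = 1 := fun e => by
    rw [← map_pow, ← map_one τ]
    exact hπE.2 (by rw [map_pow, map_one, PGroup.Frattini.quotient_pow_eq_one h.pgroup])
  -- the power of `x`
  have hxp : π x ^ p = 1 := by
    set xp : E := ⟨_, hxpE⟩ with hxpdef
    have hιxp : ι xp = x ^ p := Subtype.ext (by simp [ι, xp])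
    have hplane : xp ∈ plane v w := by
      rw [← D.fix_eq h x D.notMem, mem_fixMod, ← mq_eq, ← hπE]
      congr 1
      refine Subtype.ext ?_
      simp only [ι, xp, Subgroup.coe_inclusion, autHom_apply]
      rw [← pow_succ', pow_succ, mul_inv_cancel_right]
    obtain ⟨i, j, hij⟩ := (mem_plane h).1 hplane
    obtain ⟨β, -, hβf, hβu, hβv, hβw⟩ := D.torus
    obtain ⟨z, hz, hzx⟩ := D.fx
    have hfxp : ι (β xp) = (x ^ (a * a) * ι z) ^ p := Subtype.ext (by
      have h1 := fn_zpow D.fn x.2 (p : ℤ)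
      rw [zpow_natCast, zpow_natCast, hzx] at h1
      simp only [ι, xp, Subgroup.coe_inclusion, hβf, Subgroup.coe_pow, Subgroup.coe_mul, SubgroupClass.coe_zpow]
      exact h1)
    have hτz : ∀ {i j : ℤ} {e : E}, mq E e = mq E v ^ i * mq E w ^ j → τ e = τ v ^ i * τ w ^ j := fun {i j e} he => by
      have := hlift (e := e) (i := 0) (j := i) (k := j) (by rw [he, zpow_zero, one_mul])
      rwa [zpow_zero, one_mul] at this
    obtain ⟨i', j', hz'⟩ := (mem_plane h).1 hz
    have hcz : Commute (π (x ^ (a * a))) (τ z) := by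
      rw [map_zpow, hτz hz']
      exact (((hcv.zpow_right i').mul_right (hcw.zpow_right j')).zpow_left _)
    have e1 : π (ι (β xp)) = π (x ^ p) ^ (a * a) := by
      rw [hfxp, map_pow, map_mul]
      show (π (x ^ (a * a)) * τ z) ^ p = _
      rw [hcz.mul_pow, hpE, mul_one, map_zpow, map_pow, ← zpow_natCast, ← zpow_natCast, ← zpow_mul, ← zpow_mul,
        mul_comm]
    have e2 : mq E (β xp) = mq E (xp ^ (a * a)) := by
      rw [← hπE, e1, ← hιxp, ← map_zpow π, ← map_zpow ι]
    have hβhom : mq E (β xp) = mq E v ^ (a * i) * mq E w ^ j := by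
      let ω : E →* E ⧸ frattini ↥E := (mq E).comp β.toMonoidHom
      have e0 : ω ((v ^ i * w ^ j)⁻¹ * xp) = 1 := (QuotientGroup.eq_one_iff _).2
        (frattini_invariant β (mq_eq.1 (by rw [hij, map_mul, map_zpow, map_zpow])))
      rw [map_mul, map_inv, inv_mul_eq_one, map_mul, map_zpow, map_zpow, show ω v = mq E v ^ a from hβv,
        show ω w = mq E w from hβw, ← zpow_mul] at e0
      exact e0.symm
    rw [hβhom, map_zpow, hij,
      (show Commute (mq E v ^ i) (mq E w ^ j) from PGroup.Frattini.quotient_mul_comm (p := p) h.pgroup _ _).mul_zpow,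
      ← zpow_mul, ← zpow_mul] at e2
    obtain ⟨-, e3, e4⟩ := indep_eq (PGroup.Frattini.quotient_mul_comm h.pgroup)
      (PGroup.Frattini.quotient_pow_eq_one h.pgroup) (D.indep h) (i := 0) (i' := 0)
      (show mq E u ^ (0 : ℤ) * mq E v ^ (a * i) * mq E w ^ j = mq E u ^ (0 : ℤ) * mq E v ^ (i * (a * a)) * mq E w ^ (j * (a * a)) by
        rw [zpow_zero, one_mul, one_mul]; exact e2)
    push_cast at e3 e4
    have ha1 : (a : ZMod p) ≠ 1 := fun e => D.ha2 (by rw [e, one_pow])
    have ha0 : (a : ZMod p) ≠ 0 := fun e => by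
      have := D.hab
      rw [Int.cast_mul, e, zero_mul] at this
      exact zero_ne_one this
    have hi0 : (i : ZMod p) = 0 :=
      (mul_eq_zero.1 (show (i : ZMod p) * ((a : ZMod p) * (a - 1)) = 0 by linear_combination -e3)).resolve_right
        (mul_ne_zero ha0 (sub_ne_zero.2 ha1))
    have hj0 : (j : ZMod p) = 0 :=
      (mul_eq_zero.1 (show (j : ZMod p) * ((a : ZMod p) ^ 2 - 1) = 0 by linear_combination -e4)).resolve_right
        (sub_ne_zero.2 D.ha2)
    rw [← map_pow, ← hιxp]
    show τ xp = 1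
    rw [hτz hij, zpow_congr (hpE v) (j := 0) (by simpa using hi0), zpow_congr (hpE w) (j := 0) (by simpa using hj0),
      zpow_zero, zpow_zero, one_mul]
  refine ⟨trivial, trivial, trivial, trivial, fun q _ => ?_, fun i k j l he => ?_, ?_, hcv, hcw, hcE u v, hcE u w,
    hcE v w, hxp, hpE u, hpE v, hpE w⟩
  · obtain ⟨n, rfl⟩ := QuotientGroup.mk'_surjective (phiIn E (normalizerIn S E)) q
    have htop : Subgroup.zpowers x ⊔ B = ⊤ := by
      refine Subgroup.index_eq_one.1 (((Nat.dvd_prime hpf.out).1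
        (hBidx ▸ Subgroup.index_dvd_of_le le_sup_right)).resolve_right fun e => ?_)
      exact D.notMem ((eq_of_index_eq (le_sup_right : B ≤ Subgroup.zpowers x ⊔ B) (hBidx.trans e.symm)).ge
        (Subgroup.mem_sup_left (Subgroup.mem_zpowers x)))
    obtain ⟨y, hy, z, hz, rfl⟩ := Subgroup.mem_sup_of_normal_right.1 (htop ▸ Subgroup.mem_top n)
    obtain ⟨i, rfl⟩ := Subgroup.mem_zpowers_iff.1 hy
    obtain ⟨k, j, l, he⟩ := D.gen ⟨(z : Ω), hz⟩
    refine ⟨i, k, j, l, ?_⟩
    rw [map_mul, map_zpow]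
    show π x ^ i * τ ⟨(z : Ω), hz⟩ = _
    rw [hlift he, ← mul_assoc, ← mul_assoc]
    rfl
  · have he' : π x ^ i * τ u ^ k * τ v ^ j * τ w ^ l = 1 := he
    rw [← map_zpow τ u k, ← map_zpow τ v j, ← map_zpow τ w l, mul_assoc, mul_assoc, ← map_mul, ← map_mul, ← map_zpow π] at he'
    have h0 : π (x ^ i * ι (u ^ k * (v ^ j * w ^ l))) = 1 := by rw [map_mul]; exact he'
    have h1 : x ^ i * ι (u ^ k * (v ^ j * w ^ l)) ∈ phiIn E (normalizerIn S E) := (QuotientGroup.eq_one_iff _).1 h0
    rw [Subgroup.mem_subgroupOf] at h1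
    have hxi : ((x : Ω)) ^ i ∈ E := by
      have := E.mul_mem (phi_le E h1) (inv_mem (u ^ k * (v ^ j * w ^ l)).2)
      rwa [Subgroup.coe_mul, SubgroupClass.coe_zpow,
        show ((ι (u ^ k * (v ^ j * w ^ l)) : (normalizerIn S E)) : Ω) = ((u ^ k * (v ^ j * w ^ l) : E) : Ω) from rfl,
        mul_inv_cancel_right] at this
    have hi0 : (i : ZMod p) = 0 := by
      by_contra hne
      exact D.notMem (mem_of_zpow_mem hxpE hxi hne)
    rw [map_zpow π, zpow_congr hxp (j := 0) (by simpa using hi0), zpow_zero, one_mul] at he'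
    have h2 := hπE.1 (he'.trans (map_one τ).symm)
    rw [map_mul, map_mul, map_zpow, map_zpow, map_zpow, map_one, ← mul_assoc] at h2
    obtain ⟨a1, a2, a3⟩ := D.indep h k j l h2
    exact ⟨hi0, a1, a2, a3⟩
  · show π x * π (ι u) * (π x)⁻¹ = τ u * τ v
    rw [← map_inv π, ← map_mul π, ← map_mul π, ← map_mul τ, show x * ι u * x⁻¹ = ι (((autHom F h.le x : F.autGroup E) : MulAut E) u)
      from Subtype.ext (by simp [ι])]
    exact hπE.2 (by rw [D.actu, map_mul])

end TData

end CfsgLib.Fsys.RankThree
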