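import Cfsg.Agent.Lib.FusionSystem.RankThree.Tools

/-! The quotient of a group by the subgroup `Φ ^ p [Φ, G]`. -/

set_option autoImplicit false
set_option linter.unusedSectionVars false
set_option linter.style.haveILetI false

open scoped commutatorElement

namespace CfsgLib.Fsys.RankThree

variable {G : Type*} [Group G] (p : ℕ)

/-- The generators of `Φ ^ p [Φ, G]`. -/
def phiTwoSet (G : Type*) [Group G] : Set G :=
  {g | (∃ x ∈ frattini G, x ^ p = g) ∨ ∃ x ∈ frattini G, ∃ y : G, ⁅x, y⁆ = g}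

/-- The subgroup `Φ ^ p [Φ, G]`. -/
def phiTwo (G : Type*) [Group G] : Subgroup G := Subgroup.closure (phiTwoSet p G)

theorem phiTwo_map_le (α : MulAut G) {g : G} (hg : g ∈ phiTwo p G) : α g ∈ phiTwo p G := by
  have hinv : ∀ x ∈ frattini G, α x ∈ frattini G := fun x hx =>
    (Subgroup.characteristic_iff_map_le.1 frattini_characteristic α) ⟨x, hx, rfl⟩
  have : phiTwo p G ≤ (phiTwo p G).comap α.toMonoidHom := by
    refine (Subgroup.closure_le _).2 ?_
    rintro _ (⟨x, hx, rfl⟩ | ⟨x, hx, y, rfl⟩)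
    · exact Subgroup.subset_closure (Or.inl ⟨α x, hinv x hx, (map_pow α x p).symm⟩)
    · exact Subgroup.subset_closure (Or.inr ⟨α x, hinv x hx, α y, (map_commutatorElement α.toMonoidHom x y).symm⟩)
  exact this hg

instance phiTwo_normal : (phiTwo p G).Normal :=
  ⟨fun g hg y => phiTwo_map_le p (MulAut.conj y) hg⟩

variable [Finite G] [hp : Fact p.Prime]

theorem phiTwo_le (hG : IsPGroup p G) : phiTwo p G ≤ frattini G := by
  refine (Subgroup.closure_le _).2 ?_
  rintro _ (⟨x, hx, rfl⟩ | ⟨x, -, y, rfl⟩)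
  · exact Subgroup.pow_mem _ hx p
  · exact PGroup.Frattini.commutatorElement_mem_frattini hG x y

theorem Rank3.quotient {G : Type*} [Group G] [Finite G] {p : ℕ} (h : Rank3 p G) (M : Subgroup G) [M.Normal] :
    Rank3 p (G ⧸ M) := by
  intro H K hKH hc hpow
  let π := QuotientGroup.mk' M
  have hcard : ∀ H : Subgroup (G ⧸ M), Nat.card (H.comap π) = Nat.card H * Nat.card M := fun H => by
    have hM : M ≤ H.comap π := fun x hx => by
      rw [Subgroup.mem_comap, show π x = 1 from (QuotientGroup.eq_one_iff x).2 hx]; exact H.one_mem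
    have h1 := Subgroup.relIndex_ker (f := π) (H.comap π)
    rw [Subgroup.map_comap_eq_self_of_surjective (QuotientGroup.mk'_surjective M), QuotientGroup.ker_mk'] at h1
    rw [← h1, mul_comm, Subgroup.relIndex, ← Nat.card_congr (Subgroup.subgroupOfEquivOfLe hM).toEquiv,
      Subgroup.card_mul_index]
  have := h (H.comap π) (K.comap π) (Subgroup.comap_mono hKH)
    (fun a ha b hb => by rw [Subgroup.mem_comap, map_commutatorElement]; exact hc _ ha _ hb)
    (fun a ha => by rw [Subgroup.mem_comap, map_pow]; exact hpow _ ha)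
  rw [hcard, hcard, ← mul_assoc] at this
  exact Nat.le_of_mul_le_mul_right this Nat.card_pos

/-- The data of the quotient by `Φ ^ p [Φ, G]`. -/
theorem phiTwo_facts (hG : IsPGroup p G) (h3 : Rank3 p G) :
    let π := QuotientGroup.mk' (phiTwo p G)
    let W := (frattini G).map π
    (∀ w ∈ W, ∀ q, Commute w q) ∧ (∀ w ∈ W, w ^ p = 1) ∧ (∀ q r : G ⧸ phiTwo p G, ⁅q, r⁆ ∈ W) ∧
      (∀ q : G ⧸ phiTwo p G, q ^ p ∈ W) ∧
      Nat.card W ≤ p ^ 3 ∧ (∀ g, π g ∈ W ↔ g ∈ frattini G) ∧
      Nat.card (frattini G) = Nat.card (phiTwo p G) * Nat.card W := by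
  intro π W
  have hle := phiTwo_le p hG
  have hc : ∀ w ∈ W, ∀ q, Commute w q := by
    rintro _ ⟨x, hx, rfl⟩ q
    obtain ⟨y, rfl⟩ := QuotientGroup.mk'_surjective (phiTwo p G) q
    refine commutatorElement_eq_one_iff_commute.1 ?_
    rw [← map_commutatorElement]
    exact (QuotientGroup.eq_one_iff _).2 (Subgroup.subset_closure (Or.inr ⟨x, hx, y, rfl⟩))
  have he : ∀ w ∈ W, w ^ p = 1 := by
    rintro _ ⟨x, hx, rfl⟩
    rw [← map_pow]
    exact (QuotientGroup.eq_one_iff _).2 (Subgroup.subset_closure (Or.inl ⟨x, hx, rfl⟩))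
  refine ⟨hc, he, fun q r => ?_, fun q => ?_, ?_, fun g => ⟨fun hg => ?_, fun hg => ⟨g, hg, rfl⟩⟩, ?_⟩
  · obtain ⟨x, rfl⟩ := QuotientGroup.mk'_surjective (phiTwo p G) q
    obtain ⟨y, rfl⟩ := QuotientGroup.mk'_surjective (phiTwo p G) r
    exact ⟨⁅x, y⁆, PGroup.Frattini.commutatorElement_mem_frattini hG x y, map_commutatorElement π x y⟩
  · obtain ⟨x, rfl⟩ := QuotientGroup.mk'_surjective (phiTwo p G) q
    exact ⟨x ^ p, PGroup.Frattini.pow_mem_frattini hG x, map_pow π x p⟩
  · have := h3.quotient (phiTwo p G) W ⊥ bot_le (fun a ha b _ => by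
      rw [Subgroup.mem_bot]; exact commutatorElement_eq_one_iff_commute.2 (hc a ha b))
      (fun a ha => by rw [Subgroup.mem_bot]; exact he a ha)
    rwa [Subgroup.card_bot, mul_one] at this
  · obtain ⟨x, hx, hxg⟩ := hg
    have h1 : x⁻¹ * g ∈ phiTwo p G := QuotientGroup.eq.1 hxg
    simpa using (frattini G).mul_mem hx (hle h1)
  · have h1 := Subgroup.relIndex_ker (f := π) (frattini G)
    have hk : π.ker = phiTwo p G := QuotientGroup.ker_mk' _
    rw [hk] at h1
    rw [← h1, Subgroup.relIndex, ← Nat.card_congr (Subgroup.subgroupOfEquivOfLe hle).toEquiv,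
      Subgroup.card_mul_index]

/-- The automorphism induced on the quotient by `Φ ^ p [Φ, G]`. -/
noncomputable def phiTwoAut (α : MulAut G) : MulAut (G ⧸ phiTwo p G) :=
  QuotientGroup.congr (phiTwo p G) (phiTwo p G) α (by
    refine le_antisymm ?_ ?_
    · rintro _ ⟨g, hg, rfl⟩
      exact phiTwo_map_le p α hg
    · intro g hg
      exact ⟨α⁻¹ g, phiTwo_map_le p α⁻¹ hg, α.apply_symm_apply g⟩)

theorem phiTwoAut_mk (α : MulAut G) (g : G) :
    phiTwoAut p α (QuotientGroup.mk' _ g) = QuotientGroup.mk' _ (α g) := rfl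

theorem phiTwoAut_pow_mk (α : MulAut G) (g : G) (n : ℕ) :
    (phiTwoAut p α ^ n) (QuotientGroup.mk' _ g) = QuotientGroup.mk' _ ((α ^ n) g) := by
  induction n with
  | zero => simp
  | succ n ih => rw [pow_succ', MulAut.mul_apply, ih, pow_succ', MulAut.mul_apply]; rfl

theorem phiTwoAut_pow_eq_one {α : MulAut G} {n : ℕ} (h : α ^ n = 1) : phiTwoAut p α ^ n = 1 := by
  refine MulEquiv.ext fun q => ?_
  obtain ⟨g, rfl⟩ := QuotientGroup.mk'_surjective (phiTwo p G) q
  rw [phiTwoAut_pow_mk, h]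
  rfl

end CfsgLib.Fsys.RankThree
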