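import Cfsg.Agent.Lib.FusionSystem.EssentialCube
import Cfsg.Agent.Lib.FusionSystem.RankThree.Tools

/-! An essential subgroup with Frattini quotient of order `p ^ 3`: its outer automorphisms and the dichotomy. -/

set_option autoImplicit false
set_option linter.unusedSectionVars false
set_option linter.style.haveILetI false

open Cfsg Cfsg.FusionSystem
open scoped commutatorElement
open CfsgLib.PGroup.FrattiniAct (quot quot_mk eq_one_of_quot)

namespace CfsgLib.Fsys.RankThree

universe u

variable {Ω : Type u} [Group Ω] {S : Subgroup Ω} {p : ℕ} [hpf : Fact p.Prime] {F : FusionSystem S}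
  {E : Subgroup Ω}

/-- The standing hypotheses. -/
structure Hyp (p : ℕ) (F : FusionSystem S) (E : Subgroup Ω) : Prop where
  hp : 5 ≤ p
  hS : IsPGroup p S
  hr : Rank3 p S
  hF : F.IsSaturated p
  hE : F.IsEssential p E
  hrk : (frattini ↥E).index = p ^ 3

/-- The Frattini subgroup of `E` in the ambient group. -/
abbrev phi (E : Subgroup Ω) : Subgroup Ω := (frattini ↥E).map E.subtype

/-- The automorphism induced by an element of the normalizer, inside the automorphism group. -/
noncomputable def autHom (F : FusionSystem S) (hES : E ≤ S) : normalizerIn S E →* F.autGroup E :=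
  (E.normalizerMonoidHom.comp (Subgroup.inclusion inf_le_right)).codRestrict _ fun y =>
    autInducedBy_le_autGroup hES (conjAut_mem_autInducedBy y.2.2 y.2.1)

@[simp] theorem autHom_apply (hES : E ≤ S) (y : normalizerIn S E) (v : E) :
    ((((autHom F hES y : F.autGroup E) : MulAut E) v : E) : Ω) = (y : Ω) * v * (y : Ω)⁻¹ := rfl

theorem autHom_coe (hES : E ≤ S) (y : normalizerIn S E) :
    ((autHom F hES y : F.autGroup E) : MulAut E) = conjAut E y.2.2 := rfl

/-- The elements of `E` fixed modulo the Frattini subgroup. -/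
def fixMod (α : MulAut E) : Subgroup E :=
  MonoidHom.eqLocus ((QuotientGroup.mk' (frattini ↥E)).comp α.toMonoidHom) (QuotientGroup.mk' (frattini ↥E))

theorem mem_fixMod {α : MulAut E} {v : E} : v ∈ fixMod α ↔ v⁻¹ * α v ∈ frattini ↥E := by
  show ((α v : E) : E ⧸ frattini ↥E) = (v : E ⧸ frattini ↥E) ↔ _
  rw [eq_comm, QuotientGroup.eq]

theorem frattini_invariant (α : MulAut E) {v : E} (hv : v ∈ frattini ↥E) : α v ∈ frattini ↥E :=
  (Subgroup.characteristic_iff_map_le.1 frattini_characteristic α) ⟨v, hv, rfl⟩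

theorem frattini_le_fixMod (α : MulAut E) : frattini ↥E ≤ fixMod α := fun v hv =>
  mem_fixMod.2 ((frattini ↥E).mul_mem (inv_mem hv) (frattini_invariant α hv))

theorem phi_le (E : Subgroup Ω) : phi E ≤ E := Subgroup.map_subtype_le _

theorem mem_phi {v : E} : (v : Ω) ∈ phi E ↔ v ∈ frattini ↥E := by
  constructor
  · rintro ⟨w, hw, he⟩
    rwa [← E.subtype_injective he]
  · exact fun h => ⟨v, h, rfl⟩

theorem card_of_relIndex {G : Type*} [Group G] {A C : Subgroup G} (hAC : A ≤ C) {n : ℕ}
    (h : A.relIndex C = n) : Nat.card C = Nat.card A * n := by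
  rw [← h, ← Subgroup.card_mul_index (A.subgroupOf C), Nat.card_congr (Subgroup.subgroupOfEquivOfLe hAC).toEquiv,
    Subgroup.relIndex]

theorem eq_of_index_eq {G : Type*} [Group G] [Finite G] {A C : Subgroup G} (hAC : A ≤ C)
    (h : A.index = C.index) : A = C := by
  refine Subgroup.eq_of_le_of_card_ge hAC (le_of_eq ?_)
  have h1 := Subgroup.card_mul_index A
  rw [h, ← Subgroup.card_mul_index C] at h1
  exact (Nat.eq_of_mul_eq_mul_right (Nat.pos_of_ne_zero Subgroup.index_ne_zero_of_finite) h1).symm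

variable [Finite S]

section Basic

variable (h : Hyp p F E)
include h

theorem Hyp.le : E ≤ S := h.hE.1.1

theorem Hyp.finite : Finite E := finite_of_le_base h.hE.1.1

theorem Hyp.pgroup : IsPGroup p E := h.hS.to_le h.hE.1.1

theorem Hyp.rank : Rank3 p E :=
  h.hr.of_injective (Subgroup.inclusion h.hE.1.1) (Subgroup.inclusion_injective _)

theorem Hyp.card : Nat.card E = Nat.card (frattini ↥E) * p ^ 3 := by
  rw [← h.hrk, Subgroup.card_mul_index]

theorem Hyp.lt_normalizer : E < normalizerIn S E :=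
  lt_normalizerIn h.hS (essential_lt h.hS h.hF h.hE)

theorem Hyp.quotient_card : Nat.card (E ⧸ frattini ↥E) = p ^ 3 := by
  rw [← Subgroup.index_eq_card, h.hrk]

/-- An automorphism of `p`-power order from the normalizer. -/
theorem Hyp.autHom_pow (y : normalizerIn S E) : ∃ k, ((autHom F h.le y : F.autGroup E) : MulAut E) ^ p ^ k = 1 :=
  SmallEssential.conjAut_pow h.hS h.hE y.2

/-- An element acting trivially on the Frattini quotient lies in `E`. -/
theorem Hyp.mem_of_fix (y : normalizerIn S E)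
    (hy : ∀ v : E, v ∈ fixMod ((autHom F h.le y : F.autGroup E) : MulAut E)) : (y : Ω) ∈ E := by
  haveI := h.finite
  refine SmallEssential.mem_of_stab h.hS h.hF h.hE (frattini ↥E) le_rfl
    (fun α _ v hv => frattini_invariant α hv) y.2 (fun v hv => ?_) fun v => mem_fixMod.1 (hy v)
  exact (frattini ↥E).mul_mem (inv_mem hv) (frattini_invariant _ hv)

theorem Hyp.fix_of_mem (y : normalizerIn S E) (hy : (y : Ω) ∈ E) (v : E) :
    v ∈ fixMod ((autHom F h.le y : F.autGroup E) : MulAut E) := by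
  haveI := h.finite
  rw [mem_fixMod]
  have e : v⁻¹ * ((autHom F h.le y : F.autGroup E) : MulAut E) v = ⁅v⁻¹, (⟨y, hy⟩ : E)⁆ := by
    apply Subtype.ext
    simp only [Subgroup.coe_mul, InvMemClass.coe_inv, autHom_apply, commutatorElement_def, inv_inv]
    group
  rw [e]
  exact PGroup.Frattini.commutatorElement_mem_frattini h.pgroup _ _

/-- The outer automorphism group acting on the Frattini quotient. -/
theorem Hyp.exists_model :
    ∃ (X : Type u) (_ : Group X) (_ : Finite X) (ρ : F.autGroup E →* X) (act : X →* MulAut (E ⧸ frattini ↥E))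
      (Y₀ : Subgroup X), Function.Surjective ρ ∧ Function.Injective act ∧ IsStronglyPEmbedded p Y₀ ∧
      (∀ (a : F.autGroup E) (v : E), act (ρ a) (v : E ⧸ frattini ↥E) = (((a : MulAut E) v : E) : E ⧸ frattini ↥E)) ∧
      ∀ a : F.autGroup E, ρ a = 1 → (a : MulAut E) ∈ Inn E := by
  haveI := h.finite
  obtain ⟨-, -, hn, Y₀, hY₀⟩ := id h.hE
  set A := F.autGroup E
  let f : A →* MulAut (E ⧸ frattini ↥E) := quot.comp A.subtype
  have hker : f.ker = (Inn E).subgroupOf A := by
    refine le_antisymm ?_ fun a ha => ?_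
    · intro a ha
      have hp' : IsPGroup p f.ker := isPGroup_of_forall_coprime fun b hb => by
        refine Subtype.ext (Subtype.ext ?_)
        refine eq_one_of_quot h.pgroup (by rwa [Subgroup.orderOf_coe, Subgroup.orderOf_coe]) ?_
        exact MonoidHom.mem_ker.1 b.2
      exact Subgroup.mem_subgroupOf.2
        ((essential_radical h.hS h.hE).2.le ⟨a, CfsgLib.Solvable.Cores.le_pCore hp' ha, rfl⟩)
    · obtain ⟨g, hg⟩ := Subgroup.mem_subgroupOf.1 ha
      refine MonoidHom.mem_ker.2 (MulEquiv.ext fun q => ?_)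
      obtain ⟨v, rfl⟩ := QuotientGroup.mk'_surjective (frattini ↥E) q
      show ((((a : MulAut E)) v : E) : E ⧸ frattini ↥E) = (v : E ⧸ frattini ↥E)
      rw [← hg, QuotientGroup.eq]
      have := PGroup.Frattini.commutatorElement_mem_frattini h.pgroup g v⁻¹
      simpa [MulAut.conj_apply, commutatorElement_def, mul_assoc] using this
  refine ⟨A ⧸ (Inn E).subgroupOf A, inferInstance, inferInstance, QuotientGroup.mk' _,
    QuotientGroup.lift _ f hker.ge, Y₀, QuotientGroup.mk'_surjective _, ?_, hY₀, fun a v => rfl,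
    fun a ha => (QuotientGroup.eq_one_iff a).1 ha⟩
  rw [← MonoidHom.ker_eq_bot_iff, QuotientGroup.ker_lift, hker, QuotientGroup.map_mk'_self]

end Basic

/-- A transvection in the normalizer. -/
def CaseT (p : ℕ) (F : FusionSystem S) (E : Subgroup Ω) (hES : E ≤ S) : Prop :=
  ∃ (x : normalizerIn S E) (K : Subgroup E), (x : Ω) ∉ E ∧ K.index = p ∧ frattini ↥E ≤ K ∧
    fixMod ((autHom F hES x : F.autGroup E) : MulAut E) = K ∧
    ∀ (m : normalizerIn S E), ∀ v ∈ K, ((autHom F hES m : F.autGroup E) : MulAut E) v ∈ K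

/-- A regular unipotent element in the normalizer. -/
def CaseJ (p : ℕ) (F : FusionSystem S) (E : Subgroup Ω) (hES : E ≤ S) : Prop :=
  Nat.card (normalizerIn S E) = p * Nat.card E ∧
    ∃ L : Subgroup E, frattini ↥E ≤ L ∧ Nat.card L = Nat.card (frattini ↥E) * p ∧
      ∀ n : normalizerIn S E, (n : Ω) ∉ E → fixMod ((autHom F hES n : F.autGroup E) : MulAut E) = L

theorem dichotomy (h : Hyp p F E) : CaseT p F E h.le ∨ CaseJ p F E h.le := by
  classical
  haveI := h.finite
  set N := normalizerIn S E with hNdef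
  have hNS : N ≤ S := normalizerIn_le
  haveI : Finite N := finite_of_le_base hNS
  have hNp : IsPGroup p N := h.hS.to_le hNS
  set B : Subgroup N := E.subgroupOf N with hB
  set A : Subgroup N := (phi E).subgroupOf N with hA
  have hEN : E ≤ N := le_normalizerIn h.le
  haveI : B.Normal := by
    refine ⟨fun v hv n => ?_⟩
    rw [hB, Subgroup.mem_subgroupOf] at hv ⊢
    exact (mem_normalizer_iff'.1 n.2.2).1 _ hv
  haveI : A.Normal := by
    refine ⟨fun v hv n => ?_⟩
    rw [hA, Subgroup.mem_subgroupOf] at hv ⊢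
    obtain ⟨w, hw, he⟩ := hv
    exact ⟨conjAut E n.2.2 w, frattini_invariant _ hw, by simp [← he]⟩
  have cardA : Nat.card A = Nat.card (frattini ↥E) := by
    rw [hA, Nat.card_congr (Subgroup.subgroupOfEquivOfLe ((phi_le E).trans hEN)).toEquiv,
      Subgroup.card_map_of_injective E.subtype_injective]
  have cardB : Nat.card B = Nat.card E := Nat.card_congr (Subgroup.subgroupOfEquivOfLe hEN).toEquiv
  have hAB : A ≤ B := fun v hv => phi_le E hv
  have hp1 := hpf.out.one_lt
  have hΦpos : 0 < Nat.card (frattini ↥E) := Nat.card_pos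
  have hlt1 : A < B := lt_of_le_of_ne hAB fun e => by
    have h3 : 1 < p ^ 3 := Nat.one_lt_pow (by norm_num) hp1
    rw [e, cardB, h.card] at cardA
    exact absurd ((Nat.mul_eq_left hΦpos.ne').1 cardA) h3.ne'
  obtain ⟨C₁, hC₁n, hAC₁, hC₁B, hC₁i, hC₁c⟩ := exists_normal_step hNp hlt1
  haveI := hC₁n
  have cardC₁ : Nat.card C₁ = Nat.card (frattini ↥E) * p := by
    rw [card_of_relIndex hAC₁ hC₁i, cardA]
  have hlt2 : C₁ < B := lt_of_le_of_ne hC₁B fun e => by
    rw [e, cardB, h.card] at cardC₁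
    have := Nat.pow_right_injective hpf.out.two_le
      ((Nat.eq_of_mul_eq_mul_left hΦpos cardC₁).trans (pow_one p).symm : p ^ 3 = p ^ 1)
    omega
  obtain ⟨C₂, hC₂n, hC₁C₂, hC₂B, hC₂i, hC₂c⟩ := exists_normal_step hNp hlt2
  have cardC₂ : Nat.card C₂ = Nat.card (frattini ↥E) * p ^ 2 := by
    rw [card_of_relIndex hC₁C₂ hC₂i, cardC₁, pow_two, mul_assoc]
  let ι : E →* N := Subgroup.inclusion hEN
  have hι : Function.Injective ι := Subgroup.inclusion_injective hEN
  set L₁ : Subgroup E := C₁.comap ι with hL₁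
  set L₂ : Subgroup E := C₂.comap ι with hL₂
  have hrange : ι.range = B := by
    ext v
    constructor
    · rintro ⟨w, rfl⟩; exact w.2
    · intro hv; exact ⟨⟨(v : Ω), hv⟩, rfl⟩
  have hcardL : ∀ {C : Subgroup N}, C ≤ B → Nat.card (C.comap ι) = Nat.card C := fun {C} hC => by
    rw [← Subgroup.card_map_of_injective hι, Subgroup.map_comap_eq_self (hrange ▸ hC)]
  have cardL₁ : Nat.card L₁ = Nat.card (frattini ↥E) * p := by rw [hL₁, hcardL hC₁B, cardC₁]
  have cardL₂ : Nat.card L₂ = Nat.card (frattini ↥E) * p ^ 2 := by rw [hL₂, hcardL hC₂B, cardC₂]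
  have hΦL₁ : frattini ↥E ≤ L₁ := fun v hv => hAC₁ (show ((ι v : N) : Ω) ∈ phi E from mem_phi.2 hv)
  have hL₁L₂ : L₁ ≤ L₂ := Subgroup.comap_mono hC₁C₂
  have hfix1 : ∀ n : N, L₁ ≤ fixMod ((autHom F h.le n : F.autGroup E) : MulAut E) := fun n v hv => by
    rw [mem_fixMod]
    have h1 := hC₁c n (ι v) hv
    have h2 : ⁅n, ι v⁆ = ι (((autHom F h.le n : F.autGroup E) : MulAut E) v * v⁻¹) :=
      Subtype.ext (by simp [commutatorElement_def, ι, mul_assoc])
    rw [h2] at h1
    have h3 : ((autHom F h.le n : F.autGroup E) : MulAut E) v * v⁻¹ ∈ frattini ↥E := mem_phi.1 h1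
    exact (Subgroup.Normal.mem_comm_iff inferInstance).1 h3
  have hinv2 : ∀ n : N, ∀ v ∈ L₂, ((autHom F h.le n : F.autGroup E) : MulAut E) v ∈ L₂ := fun n v hv =>
    show ι (((autHom F h.le n : F.autGroup E) : MulAut E) v) ∈ C₂ from
      (Subtype.ext (by simp [ι]) : n * ι v * n⁻¹ = ι (((autHom F h.le n : F.autGroup E) : MulAut E) v)) ▸
        hC₂n.conj_mem _ hv n
  have hshift2 : ∀ n : N, ∀ v ∈ L₂, v⁻¹ * ((autHom F h.le n : F.autGroup E) : MulAut E) v ∈ L₁ := fun n v hv => by
    have h1 := hC₂c n (ι v) hv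
    have h2 : ⁅n, ι v⁆ = ι (((autHom F h.le n : F.autGroup E) : MulAut E) v * v⁻¹) :=
      Subtype.ext (by simp [commutatorElement_def, ι, mul_assoc])
    rw [h2] at h1
    have h3 : ((autHom F h.le n : F.autGroup E) : MulAut E) v * v⁻¹ ∈ L₁ := h1
    haveI : L₁.Normal := hC₁n.comap ι
    exact (Subgroup.Normal.mem_comm_iff inferInstance).1 h3
  have hidx2 : L₂.index = p := by
    have h1 := Subgroup.card_mul_index L₂
    rw [cardL₂, h.card, mul_assoc] at h1
    have h2 := Nat.eq_of_mul_eq_mul_left hΦpos h1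
    rw [pow_succ p 2] at h2
    exact Nat.eq_of_mul_eq_mul_left (pow_pos hpf.out.pos 2) h2
  have hmax : ∀ K : Subgroup E, L₂ ≤ K → K ≠ ⊤ → K = L₂ := fun K hK hne => by
    by_contra h'
    have hd := Subgroup.index_dvd_of_le hK
    rw [hidx2] at hd
    rcases (Nat.dvd_prime hpf.out).1 hd with h1 | h1
    · exact hne (Subgroup.index_eq_one.1 h1)
    · exact h' (eq_of_index_eq hK (hidx2.trans h1.symm)).symm
  have hnotall : ∀ n : N, (n : Ω) ∉ E → fixMod ((autHom F h.le n : F.autGroup E) : MulAut E) ≠ ⊤ :=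
    fun n hn htop => hn (h.mem_of_fix n fun v => htop ▸ Subgroup.mem_top v)
  by_cases hT : ∃ n : N, (n : Ω) ∉ E ∧ L₂ ≤ fixMod ((autHom F h.le n : F.autGroup E) : MulAut E)
  · obtain ⟨n, hn, hle⟩ := hT
    exact Or.inl ⟨n, L₂, hn, hidx2, hΦL₁.trans hL₁L₂, hmax _ hle (hnotall n hn), hinv2⟩
  push Not at hT
  -- the index of `E` is `p`
  obtain ⟨w, hw, hwL⟩ : ∃ w ∈ L₂, w ∉ L₁ := by
    by_contra hno
    push Not at hno
    have := Subgroup.card_le_of_le (show L₂ ≤ L₁ from hno)
    rw [cardL₁, cardL₂, pow_two, ← mul_assoc] at this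
    have h2 : 0 < Nat.card (frattini ↥E) * p := Nat.mul_pos hΦpos hpf.out.pos
    nlinarith
  let π := QuotientGroup.mk' (frattini ↥E)
  let ch : N ⧸ B → L₁.map π := fun q =>
    ⟨π (w⁻¹ * ((autHom F h.le q.out : F.autGroup E) : MulAut E) w), Subgroup.mem_map_of_mem π (hshift2 _ w hw)⟩
  have hch : Function.Injective ch := by
    intro q r hqr
    have e : π (((autHom F h.le q.out : F.autGroup E) : MulAut E) w) =
        π (((autHom F h.le r.out : F.autGroup E) : MulAut E) w) := by
      have := congrArg Subtype.val hqr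
      simp only [ch, map_mul] at this
      exact mul_left_cancel this
    set z := r.out⁻¹ * q.out with hz
    have hzw : w ∈ fixMod ((autHom F h.le z : F.autGroup E) : MulAut E) := by
      rw [mem_fixMod]
      have h1 : (((autHom F h.le r.out : F.autGroup E) : MulAut E) w)⁻¹ *
          ((autHom F h.le q.out : F.autGroup E) : MulAut E) w ∈ frattini ↥E := QuotientGroup.eq.1 e.symm
      have h2 := frattini_invariant ((autHom F h.le r.out : F.autGroup E) : MulAut E)⁻¹ h1
      rw [map_mul, map_inv, MulAut.inv_apply_self] at h2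
      rw [hz, map_mul, map_inv, Subgroup.coe_mul, Subgroup.coe_inv, MulAut.mul_apply]
      exact h2
    rw [← QuotientGroup.out_eq' q, ← QuotientGroup.out_eq' r, eq_comm, QuotientGroup.eq, ← hz,
      hB, Subgroup.mem_subgroupOf]
    by_contra hzE
    refine hT z hzE ?_
    have hmid : L₂ = L₁ ⊔ Subgroup.zpowers w := by
      refine (Subgroup.eq_of_le_of_card_ge (sup_le hL₁L₂ (Subgroup.zpowers_le.2 hw)) ?_).symm
      have := CfsgLib.Fusion.MaxClass.card_mul_le_of_lt h.pgroup (lt_of_le_not_ge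
        (le_sup_left : L₁ ≤ L₁ ⊔ Subgroup.zpowers w) fun hh => hwL (hh (Subgroup.mem_sup_right (Subgroup.mem_zpowers w))))
      rw [cardL₁] at this
      rw [cardL₂]
      refine le_trans (le_of_eq ?_) this
      ring
    rw [hmid]
    exact sup_le (hfix1 z) (Subgroup.zpowers_le.2 hzw)
  have hmapc : Nat.card (L₁.map π) = p := by
    have h1 := Subgroup.relIndex_ker (f := π) L₁
    have hk : π.ker = frattini ↥E := QuotientGroup.ker_mk' _
    rw [hk] at h1
    have h2 := card_of_relIndex hΦL₁ h1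
    rw [cardL₁] at h2
    exact (Nat.eq_of_mul_eq_mul_left hΦpos h2).symm
  have hBidx : B.index = p := by
    have h1 := (Nat.card_le_card_of_injective ch hch).trans_eq hmapc
    rw [← Subgroup.index_eq_card] at h1
    obtain ⟨j, hj⟩ := hNp.index B
    have hj0 : j ≠ 0 := fun e => h.lt_normalizer.not_ge fun v hv => by
      have : (⟨v, hv⟩ : N) ∈ B := by
        have hB1 : B.index = 1 := by rw [hj, e, pow_zero]
        rw [Subgroup.index_eq_one.1 hB1]
        exact Subgroup.mem_top _
      exact this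
    rw [hj] at h1 ⊢
    have := (Nat.pow_le_pow_iff_right hp1).1 (h1.trans_eq (pow_one p).symm)
    rw [show j = 1 by omega, pow_one]
  have hcardN : Nat.card N = p * Nat.card E := by
    rw [← Subgroup.card_mul_index B, hBidx, cardB, mul_comm]
  by_cases hJ : ∀ n : N, (n : Ω) ∉ E → fixMod ((autHom F h.le n : F.autGroup E) : MulAut E) = L₁
  · exact Or.inr ⟨hcardN, L₁, hΦL₁, cardL₁, hJ⟩
  push Not at hJ
  obtain ⟨n, hn, hne⟩ := hJ
  set K := fixMod ((autHom F h.le n : F.autGroup E) : MulAut E) with hK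
  have hlt : L₁ < K := lt_of_le_of_ne (hfix1 n) hne.symm
  have hKi : K.index = p := by
    obtain ⟨j, hj⟩ := h.pgroup.index K
    have hj0 : j ≠ 0 := fun e => hnotall n hn (Subgroup.index_eq_one.1 (by rw [hj, e, pow_zero]))
    have h1 := CfsgLib.Fusion.MaxClass.card_mul_le_of_lt h.pgroup hlt
    rw [cardL₁] at h1
    have h2 := Subgroup.card_mul_index K
    rw [hj, h.card] at h2
    have h3 : Nat.card (frattini ↥E) * p ^ 2 * p ^ j ≤ Nat.card (frattini ↥E) * p ^ 3 := by
      rw [← h2]
      refine Nat.mul_le_mul_right _ (le_trans (le_of_eq ?_) h1)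
      ring
    rw [mul_assoc, ← pow_add] at h3
    have := (Nat.pow_le_pow_iff_right hp1).1 (Nat.le_of_mul_le_mul_left h3 hΦpos)
    rw [hj, show j = 1 by omega, pow_one]
  refine Or.inl ⟨n, K, hn, hKi, frattini_le_fixMod _, hK.symm, fun m v hv => ?_⟩
  -- the normalizer is generated by `n` and `E`
  have hgen : m ∈ B ⊔ Subgroup.zpowers n := by
    have htop : B ⊔ Subgroup.zpowers n = ⊤ := by
      refine Subgroup.index_eq_one.1 (((Nat.dvd_prime hpf.out).1
        (hBidx ▸ Subgroup.index_dvd_of_le le_sup_left)).resolve_right fun e => ?_)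
      have := eq_of_index_eq (le_sup_left : B ≤ B ⊔ Subgroup.zpowers n) (hBidx.trans e.symm)
      exact hn (this.ge (Subgroup.mem_sup_right (Subgroup.mem_zpowers n)))
    rw [htop]
    exact Subgroup.mem_top _
  obtain ⟨b, hb, z, hz, rfl⟩ := Subgroup.mem_sup_of_normal_left.1 hgen
  obtain ⟨i, rfl⟩ := Subgroup.mem_zpowers_iff.1 hz
  have hpres : ∀ (i : ℤ), ∀ v ∈ K, ((autHom F h.le (n ^ i) : F.autGroup E) : MulAut E) v ∈ K := by
    have h1 : ∀ v ∈ K, ((autHom F h.le n : F.autGroup E) : MulAut E) v ∈ K := fun v hv => by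
      have := K.mul_mem hv (frattini_le_fixMod _ (mem_fixMod.1 hv))
      rwa [mul_inv_cancel_left] at this
    intro i
    obtain ⟨j, hj⟩ := mem_powers_iff_mem_zpowers.2 (Subgroup.zpow_mem _ (Subgroup.mem_zpowers n) i)
    rw [← show n ^ j = n ^ i from hj]
    clear hj
    induction j with
    | zero => simp
    | succ j ih =>
      intro v hv
      rw [pow_succ', map_mul, Subgroup.coe_mul, MulAut.mul_apply]
      exact h1 _ (ih v hv)
  rw [map_mul, Subgroup.coe_mul, MulAut.mul_apply]
  have h1 := hpres i v hv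
  have h2 := mem_fixMod.1 (h.fix_of_mem b hb (((autHom F h.le (n ^ i) : F.autGroup E) : MulAut E) v))
  have := K.mul_mem h1 (frattini_le_fixMod _ h2)
  rwa [mul_inv_cancel_left] at this

end CfsgLib.Fsys.RankThree
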