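import Cfsg.Agent.Lib.FusionSystem.RankThree.ThreePowers
import Cfsg.Agent.Lib.FusionSystem.RankThree.Core

/-! Essential subgroups with three generators: the powers of `S` give a normal subgroup. -/

set_option autoImplicit false
set_option linter.unusedSectionVars false
set_option linter.style.haveILetI false

open Cfsg Cfsg.FusionSystem
open scoped commutatorElement

namespace CfsgLib.Fsys.RankThree

universe u

open Two (mk_eq_one mk_eq_iff CharIn)

/-- The powers of a product along a chain of shifts. -/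
theorem mul_pow_chain {Q : Type*} [Group Q] {p : ℕ} [Fact p.Prime] (h5 : 5 ≤ p) {Y e f g : Q}
    (he : Y * e = e * f * Y) (hf : Y * f = f * g * Y) (hg : Y * g = g * Y) (hef : Commute e f) (heg : Commute e g)
    (hfg : Commute f g) (hep : e ^ p = 1) (hfp : f ^ p = 1) (hgp : g ^ p = 1) : (e * Y) ^ p = Y ^ p := by
  have main : ∀ n : ℕ, (e * Y) ^ n = e ^ n * f ^ n.choose 2 * g ^ n.choose 3 * Y ^ n := by
    intro n
    induction n with
    | zero => simp [Nat.choose]
    | succ n ih =>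
      have h1 : Y * e ^ n = (e * f) ^ n * Y :=
        (SemiconjBy.pow_right (show SemiconjBy Y e (e * f) from he) n).eq
      have h2 : Y * f ^ n.choose 2 = (f * g) ^ n.choose 2 * Y :=
        (SemiconjBy.pow_right (show SemiconjBy Y f (f * g) from hf) _).eq
      have h3 : Y * g ^ n.choose 3 = g ^ n.choose 3 * Y :=
        (SemiconjBy.pow_right (show SemiconjBy Y g g from hg) _).eq
      have h4 : (f * g) ^ n.choose 2 * g ^ n.choose 3 = f ^ n.choose 2 * g ^ (n + 1).choose 3 := by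
        rw [hfg.mul_pow, Nat.choose_succ_succ' n 2, pow_add, mul_assoc]
      calc (e * Y) ^ (n + 1) = e * (Y * e ^ n) * f ^ n.choose 2 * g ^ n.choose 3 * Y ^ n := by
            rw [pow_succ', ih]; group
        _ = e * (e * f) ^ n * (Y * f ^ n.choose 2) * g ^ n.choose 3 * Y ^ n := by rw [h1]; group
        _ = e * (e * f) ^ n * (f * g) ^ n.choose 2 * (Y * g ^ n.choose 3) * Y ^ n := by rw [h2]; group
        _ = e * (e * f) ^ n * ((f * g) ^ n.choose 2 * g ^ n.choose 3) * Y ^ (n + 1) := by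
            rw [h3, pow_succ']; group
        _ = e ^ (n + 1) * f ^ (n + 1).choose 2 * g ^ (n + 1).choose 3 * Y ^ (n + 1) := by
            rw [h4, hef.mul_pow, Nat.choose_succ_succ' n 1, Nat.choose_one_right, pow_succ', pow_add]
            group
  rw [main p, hep, choose_pow_eq_one hfp (by omega) (by omega), choose_pow_eq_one hgp (by omega) (by omega),
    one_mul, one_mul, one_mul]

variable {Ω : Type u} [Group Ω] {S : Subgroup Ω} [Finite S] {p : ℕ} [hpf : Fact p.Prime] {F : FusionSystem S}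
  {E E₂ : Subgroup Ω}

theorem fn_map_zpow {P : Subgroup Ω} {g : Ω → Ω} (hg : Fn F P g) {x : Ω} (hx : x ∈ P) (n : ℤ) :
    g (x ^ n) = g x ^ n := by
  let φ : P →* Ω := MonoidHom.mk' (fun y => g y) fun y z => hg.map_mul y.2 z.2
  simpa [φ] using map_zpow φ ⟨x, hx⟩ n

/-- An essential subgroup that is normal in `S`, with three generators. -/
structure NHyp (p : ℕ) (F : FusionSystem S) (E : Subgroup Ω) : Prop where
  hyp : Hyp p F E
  normal : S ≤ Subgroup.normalizer (E : Set Ω)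

namespace NHyp

variable (k : NHyp p F E)
include k

theorem normalizer_eq : normalizerIn S E = S := le_antisymm normalizerIn_le fun _ hs => ⟨hs, k.normal hs⟩

theorem card_S : Nat.card S = p * Nat.card E := by
  have h := k.hyp
  rcases dichotomy h with hT | hJ
  · obtain ⟨x, u, v, w, f, a, b, D⟩ := exists_tdata h hT
    rw [← D.card, k.normalizer_eq]
  · rw [← hJ.1, k.normalizer_eq]

theorem card_phi : Nat.card (phi E) * p ^ 4 = Nat.card S := by
  haveI := k.hyp.finite
  rw [Subgroup.card_map_of_injective E.subtype_injective, k.card_S, k.hyp.card]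
  ring

theorem index_eq : (E.subgroupOf S).index = p := by
  haveI := k.hyp.finite
  have h1 := Subgroup.card_mul_index (E.subgroupOf S)
  rw [Nat.card_congr (Subgroup.subgroupOfEquivOfLe k.hyp.le).toEquiv, k.card_S, mul_comm p] at h1
  exact Nat.eq_of_mul_eq_mul_left Nat.card_pos h1

theorem powers_le : phi E ≤ Subgroup.closure ((fun g => g ^ p) '' (S : Set Ω)) := by
  rintro _ ⟨z, hz, rfl⟩
  have hle : Subgroup.closure (Set.range fun g : E => g ^ p) ≤
      (Subgroup.closure ((fun g => g ^ p) '' (S : Set Ω))).comap E.subtype := (Subgroup.closure_le _).2 (by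
    rintro _ ⟨g, rfl⟩
    exact Subgroup.subset_closure ⟨(g : Ω), k.hyp.le g.2, rfl⟩)
  exact hle (k.hyp.powers hz)

/-- One small power outside forces all powers to be small. -/
theorem all_or_none {y : Ω} (hy : y ∈ S) (hyE : y ∉ E) (hyp : y ^ p ∈ phi E) : ∀ g ∈ S, g ^ p ∈ phi E := by
  intro g hg
  haveI := k.hyp.finite
  have hES := k.hyp.le
  set Es := E.subgroupOf S with hEs
  set Φs := (phi E).subgroupOf S with hΦs
  haveI hEn : Es.Normal := ⟨fun z hz s => (mem_normalizer_iff'.1 (k.normal s.2)).1 _ hz⟩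
  haveI hΦn : Φs.Normal := ⟨fun z hz s => by
    obtain ⟨e, he, hez⟩ := Subgroup.mem_subgroupOf.1 hz
    refine Subgroup.mem_subgroupOf.2 ⟨conjAut E (k.normal s.2) e, frattini_invariant _ he, ?_⟩
    show ((conjAut E (k.normal s.2) e : E) : Ω) = _
    rw [conjAut_coe, show (e : Ω) = ((z : S) : Ω) from hez]
    rfl⟩
  set π := QuotientGroup.mk' Φs with hπ
  have hc : Nat.card (S ⧸ Es) = p := by rw [← Subgroup.index_eq_card, k.index_eq]
  obtain ⟨i, hi⟩ := Subgroup.mem_zpowers_iff.1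
    ((zpowers_eq_top_of_prime_card hc (g := QuotientGroup.mk' Es ⟨y, hy⟩)
      fun e => hyE ((QuotientGroup.eq_one_iff (N := Es) (⟨y, hy⟩ : S)).1 e)).symm ▸ Subgroup.mem_top (QuotientGroup.mk' Es ⟨g, hg⟩))
  set Y : S := ⟨y, hy⟩ ^ i with hY
  have he : (⟨g, hg⟩ : S) * Y⁻¹ ∈ Es := mk_eq_one.1 (by
    rw [map_mul, map_inv, hY, map_zpow, hi, mul_inv_cancel])
  set e : S := (⟨g, hg⟩ : S) * Y⁻¹ with hedef
  have hge : (⟨g, hg⟩ : S) = e * Y := (inv_mul_cancel_right _ _).symm
  set V := Es.map π with hV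
  haveI : V.Normal := hEn.map π (QuotientGroup.mk'_surjective _)
  have hEp := k.hyp.pgroup
  have hVc : ∀ q r : V, q * r = r * q := by
    rintro ⟨_, a, ha, rfl⟩ ⟨_, b, hb, rfl⟩
    refine Subtype.ext (commutatorElement_eq_one_iff_mul_comm.1 ?_)
    show ⁅π a, π b⁆ = 1
    rw [← map_commutatorElement]
    exact mk_eq_one.2 (Subgroup.mem_subgroupOf.2 ⟨⁅(⟨a, ha⟩ : E), ⟨b, hb⟩⁆,
      PGroup.Frattini.commutatorElement_mem_frattini hEp _ _, rfl⟩)
  have hVe : ∀ q : V, q ^ p = 1 := by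
    rintro ⟨_, a, ha, rfl⟩
    refine Subtype.ext ?_
    show π a ^ p = 1
    rw [← map_pow]
    exact mk_eq_one.2 (Subgroup.mem_subgroupOf.2 ⟨(⟨a, ha⟩ : E) ^ p, PGroup.Frattini.pow_mem_frattini hEp _, rfl⟩)
  have hVcard : Nat.card V ≤ p ^ 3 := by
    rw [hV, ← Subgroup.relIndex_ker, QuotientGroup.ker_mk', hΦs, hEs, Subgroup.relIndex_subgroupOf hES,
      ← k.hyp.hrk, show phi E = (frattini ↥E).map E.subtype from rfl, Subgroup.relIndex,
      Subgroup.subgroupOf, Subgroup.comap_map_eq_self_of_injective E.subtype_injective]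
  set φ : MulAut V := MulAut.conjNormal (π Y) with hφ
  obtain ⟨M, hM⟩ := k.hyp.hS Y
  have hφM : φ ^ p ^ M = 1 := by rw [hφ, ← map_pow, ← map_pow, hM, map_one, map_one]
  let e0 : V := ⟨π e, e, he, rfl⟩
  let δ : V → V := fun q => q⁻¹ * φ q
  have hs := shift_iter (p := p) ((k.hyp.hS.to_quotient Φs).to_subgroup V) hφM 3 ⊤
    (fun q _ r _ => hVc q r) (fun q _ => Subgroup.mem_top _) (by rw [Subgroup.card_top]; exact hVcard) e0
    (Subgroup.mem_top _)
  have hstep : ∀ q : V, π Y * (q : S ⧸ Φs) = (q : S ⧸ Φs) * (δ q : S ⧸ Φs) * π Y := fun q => by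
    simp only [δ, hφ, Subgroup.coe_mul, Subgroup.coe_inv, MulAut.conjNormal_apply]
    group
  have hlast : π Y * (δ (δ e0) : S ⧸ Φs) = (δ (δ e0) : S ⧸ Φs) * π Y := by
    rw [hstep, show δ (δ (δ e0)) = 1 from hs, Subgroup.coe_one, mul_one]
  have hcc : ∀ q r : V, Commute (q : S ⧸ Φs) r := fun q r => congrArg Subtype.val (hVc q r)
  have hee : ∀ q : V, (q : S ⧸ Φs) ^ p = 1 := fun q => by
    rw [← Subgroup.coe_pow, hVe q, Subgroup.coe_one]
  have h1 := mul_pow_chain k.hyp.hp (Y := π Y) (e := (e0 : S ⧸ Φs)) (hstep e0) (hstep _) hlast (hcc _ _) (hcc _ _)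
    (hcc _ _) (hee _) (hee _) (hee _)
  have h2 : π (⟨g, hg⟩ ^ p) = 1 := by
    rw [map_pow, hge, map_mul]
    rw [show (π e : S ⧸ Φs) = (e0 : S ⧸ Φs) from rfl, h1, ← map_pow, hY, ← zpow_natCast ((⟨y, hy⟩ : S) ^ i) p,
      ← zpow_mul, mul_comm, zpow_mul, zpow_natCast, map_zpow,
      show π ((⟨y, hy⟩ : S) ^ p) = 1 from mk_eq_one.2 (Subgroup.mem_subgroupOf.2 hyp), one_zpow]
  exact Subgroup.mem_subgroupOf.1 (mk_eq_one.1 h2)

theorem minus_of_caseT (hT : CaseT p F E k.hyp.le) : ∀ g ∈ S, g ^ p ∈ phi E := by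
  obtain ⟨x, u, v, w, f, a, b, D⟩ := exists_tdata k.hyp hT
  exact fun g hg => D.pow_mem_phi k.hyp (k.normalizer_eq.ge hg)

/-- Generators of small order, and a lower bound outside the Frattini subgroup. -/
theorem exists_level (hJ : CaseJ p F E k.hyp.le) : ∃ m : ℕ, 1 ≤ m ∧
    Subgroup.closure {g : E | g ^ p ^ m = 1} = ⊤ ∧ ∀ g : E, g ∉ frattini ↥E → g ^ p ^ (m - 1) ≠ 1 := by
  classical
  haveI := k.hyp.finite
  obtain ⟨M, hM⟩ := IsPGroup.iff_card.1 k.hyp.pgroup
  have hex : ∃ m : ℕ, Subgroup.closure {g : E | g ^ p ^ m = 1} = ⊤ := ⟨M, eq_top_iff.2 fun g _ =>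
    Subgroup.subset_closure (by show g ^ p ^ M = 1; rw [← hM, pow_card_eq_one'])⟩
  refine ⟨Nat.find hex, ?_, Nat.find_spec hex, fun g hg hgm => ?_⟩
  · by_contra h0
    have h1 := Nat.find_spec hex
    rw [show Nat.find hex = 0 by omega] at h1
    have hbot : (⊤ : Subgroup E) ≤ ⊥ := h1.ge.trans ((Subgroup.closure_le _).2 fun g hg => by
      rw [Set.mem_setOf_eq, pow_zero, pow_one] at hg
      exact Subgroup.mem_bot.2 hg)
    have h2 := k.hyp.hrk
    have htop : frattini ↥E = ⊤ := eq_top_iff.2 (hbot.trans bot_le)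
    rw [htop, Subgroup.index_top] at h2
    exact (Nat.one_lt_pow (by norm_num) hpf.out.one_lt).ne h2
  · set j := Nat.find hex - 1 with hj
    set O := Subgroup.closure {g : E | g ^ p ^ j = 1} with hO
    have hne : O ≠ ⊤ := by
      intro htop
      have h1 := Nat.find_min' hex htop
      by_cases h0 : Nat.find hex = 0
      · have hle : (⊤ : Subgroup E) ≤ ⊥ := (Nat.find_spec hex).ge.trans ((Subgroup.closure_le _).2 fun z hz => by
          rw [Set.mem_setOf_eq, h0, pow_zero, pow_one] at hz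
          exact Subgroup.mem_bot.2 hz)
        exact hg (Subgroup.mem_bot.1 (hle (Subgroup.mem_top g)) ▸ one_mem _)
      · omega
    have hne' : O ⊔ frattini ↥E ≠ ⊤ := fun e => hne (frattini_nongenerating e)
    have hle := not_caseJ_of_char k.hyp hJ (O ⊔ frattini ↥E) le_sup_right (fun α _ z hz => by
      have h2 : O ⊔ frattini ↥E ≤ (O ⊔ frattini ↥E).comap α.toMonoidHom := sup_le
        ((Subgroup.closure_le _).2 fun y hy => Subgroup.mem_sup_left (Subgroup.subset_closure (by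
          show α y ^ p ^ j = 1
          rw [← map_pow, show y ^ p ^ j = 1 from hy, map_one])))
        fun y hy => Subgroup.mem_sup_right (frattini_invariant α hy)
      exact h2 hz) hne'
    exact hg (hle (Subgroup.mem_sup_left (Subgroup.subset_closure hgm)))

/-- Two distinct essential subgroups cannot both have large powers. -/
theorem level_lt (k₂ : NHyp p F E₂) (hne : E₂ ≠ E) (hno : ¬ ∀ g ∈ S, g ^ p ∈ phi E) {m m₂ : ℕ}
    (hm : ∀ g : E, g ∉ frattini ↥E → g ^ p ^ (m - 1) ≠ 1)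
    (hm₂ : Subgroup.closure {g : E₂ | g ^ p ^ m₂ = 1} = ⊤) (hm1 : 1 ≤ m) : m < m₂ := by
  haveI := k.hyp.finite
  haveI := k₂.hyp.finite
  obtain ⟨y, hy2, hyE⟩ : ∃ y : E₂, y ^ p ^ m₂ = 1 ∧ (y : Ω) ∉ E := by
    by_contra! hall
    have hle : E₂ ≤ E := fun z hz => by
      have h1 : (⊤ : Subgroup E₂) ≤ E.comap E₂.subtype :=
        hm₂.ge.trans ((Subgroup.closure_le _).2 fun g hg => hall g hg)
      exact h1 (Subgroup.mem_top ⟨z, hz⟩)
    exact hne (Subgroup.eq_of_le_of_card_ge hle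
      (Nat.eq_of_mul_eq_mul_left hpf.out.pos (k₂.card_S.symm.trans k.card_S)).ge)
  have hyS := k₂.hyp.le y.2
  haveI : (E.subgroupOf S).Normal := ⟨fun z hz s => (mem_normalizer_iff'.1 (k.normal s.2)).1 _ hz⟩
  have hypE : (y : Ω) ^ p ∈ E := by
    have h1 := Subgroup.pow_index_mem (E.subgroupOf S) ⟨(y : Ω), hyS⟩
    rw [k.index_eq] at h1
    exact h1
  have hΦ : (⟨(y : Ω) ^ p, hypE⟩ : E) ∉ frattini ↥E := fun hh =>
    hno (k.all_or_none hyS hyE (mem_phi.2 hh))
  by_contra! hle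
  refine hm _ hΦ (Subtype.ext ?_)
  rw [Subgroup.coe_pow, Subgroup.coe_one]
  show ((y : Ω) ^ p) ^ p ^ (m - 1) = 1
  rw [← pow_mul, ← pow_succ', show m - 1 + 1 = m by omega]
  obtain ⟨d, rfl⟩ := Nat.exists_eq_add_of_le hle
  rw [pow_add, pow_mul, show (y : Ω) ^ p ^ m₂ = 1 by rw [← Subgroup.coe_pow, hy2, Subgroup.coe_one], one_pow]

end NHyp

/-- The centre `⟨v, w⟩`, the derived subgroup `⟨v⟩` and an automorphism fixing `w`. -/
structure LineData (p : ℕ) (F : FusionSystem S) (v w : Ω) (a : ℤ) (γ : MulAut S) : Prop where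
  aut : γ ∈ F.autGroup S
  one_ne : (a : ZMod p) ≠ 1
  der : ⁅S, S⁆ = Subgroup.zpowers v
  vp : v ^ p = 1
  wp : w ^ p = 1
  v_ne : v ≠ 1
  comm : Commute v w
  notMem : w ∉ Subgroup.zpowers v
  centre : ∀ z, (z ∈ S ∧ ∀ s ∈ S, z * s = s * z) ↔ ∃ i j : ℤ, z = v ^ i * w ^ j
  actv : autFn γ v = v ^ a
  actw : autFn γ w = w

/-- The line of a transvection in the elementary case. -/
theorem exists_line (k : NHyp p F E) (hT : CaseT p F E k.hyp.le) (hbot : phi E = ⊥) :
    ∃ (v w : Ω) (a : ℤ) (γ : MulAut S), LineData p F v w a γ ∧ w ∈ E ∧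
      ∀ α ∈ F.autGroup E, autFn α w ∈ Subgroup.zpowers w := by
  have h := k.hyp
  haveI := h.finite
  obtain ⟨x, u, v, w, f, a, b, D⟩ := exists_tdata h hT
  have hN := k.normalizer_eq
  have hbot' : frattini ↥E = ⊥ := by
    rw [← Subgroup.map_eq_bot_iff_of_injective _ E.subtype_injective]
    exact hbot
  have hinjq : Function.Injective (mq E) := by
    rw [← MonoidHom.ker_eq_bot_iff, show (mq E).ker = frattini ↥E from QuotientGroup.ker_mk' _, hbot']
  have hVc := PGroup.Frattini.quotient_mul_comm (p := p) (P := E) h.pgroup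
  have hVe := PGroup.Frattini.quotient_pow_eq_one (p := p) (P := E) h.pgroup
  have hec : ∀ e e' : E, e * e' = e' * e := fun e e' => hinjq (by rw [map_mul, map_mul, hVc])
  have hep : ∀ e : E, e ^ p = 1 := fun e => hinjq (by rw [map_pow, hVe, map_one])
  have hind := indep_of_gen hVc hVe h.quotient_card (a := mq E u) (b := mq E v) (c := mq E w) fun z => by
    obtain ⟨e, rfl⟩ := QuotientGroup.mk'_surjective (frattini ↥E) z
    exact D.gen e
  have hz1 : ∀ {q : E ⧸ frattini ↥E}, q ^ (1 : ℤ) = q := zpow_one _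
  obtain ⟨β, -, hβe, hβu, hβv, hβw⟩ := D.torus
  have hfn : Fn F S f := by
    have h1 := D.fn
    rwa [hN] at h1
  obtain ⟨γ, hγ, hγf⟩ := exists_aut_of_fn hfn (hfn.img_eq_self fun s hs => hN.le (D.maps s (hN.ge hs)))
  have hva : (autFn γ (v : Ω)) = (v : Ω) ^ a := by
    rw [show (v : Ω) = ((⟨v, h.le v.2⟩ : S) : Ω) from rfl, autFn_coe, hγf]
    show f (v : Ω) = _
    rw [← hβe, ← SubgroupClass.coe_zpow]
    exact congrArg Subtype.val (hinjq (by rw [map_zpow, hβv]) : β v = v ^ a)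
  have hwa : (autFn γ (w : Ω)) = (w : Ω) := by
    rw [show (w : Ω) = ((⟨w, h.le w.2⟩ : S) : Ω) from rfl, autFn_coe, hγf]
    show f (w : Ω) = _
    rw [← hβe]
    exact congrArg Subtype.val (hinjq hβw)
  refine ⟨v, w, a, γ, ⟨hγ, fun e => D.ha2 (by rw [e, one_pow]), le_antisymm ?_ ?_, ?_, ?_, fun hh => ?_, ?_,
    fun hh => ?_, fun z => ?_, hva, hwa⟩, w.2, fun α hα => ?_⟩
  · refine Subgroup.commutator_le.2 fun s hs t ht => ?_
    obtain ⟨e, he, hee⟩ := D.commutator_mem_vline h (hN.ge hs) (hN.ge ht)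
    obtain ⟨i, hi⟩ := mem_vline.1 he
    rw [← hee]
    refine ⟨i, ?_⟩
    show (v : Ω) ^ i = (e : Ω)
    rw [← SubgroupClass.coe_zpow, hinjq (hi.trans (map_zpow _ _ _).symm)]
  · rw [Subgroup.zpowers_le]
    have h1 : ((autHom F h.le x : F.autGroup E) : MulAut E) u = u * v := hinjq (by rw [D.actu, map_mul])
    have h2 := congrArg Subtype.val h1
    rw [autHom_apply, Subgroup.coe_mul, show ((u : Ω) * v) = v * u from congrArg Subtype.val (hec u v)] at h2
    rw [show (v : Ω) = ⁅(x : Ω), (u : Ω)⁆ by rw [commutatorElement_def, h2, mul_inv_cancel_right]]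
    exact Subgroup.commutator_mem_commutator (hN.le x.2) (h.le u.2)
  · rw [← Subgroup.coe_pow, hep, Subgroup.coe_one]
  · rw [← Subgroup.coe_pow, hep, Subgroup.coe_one]
  · have h1 : mq E v = 1 := by rw [show v = 1 from Subtype.ext hh, map_one]
    have := (hind 0 1 0 (by rw [zpow_zero, zpow_zero, hz1, h1, mul_one, mul_one])).2.1
    simp at this
  · exact congrArg Subtype.val (hec v w)
  · obtain ⟨i, hi⟩ := Subgroup.mem_zpowers_iff.1 hh
    rw [← SubgroupClass.coe_zpow] at hi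
    have h1 := congrArg (mq E) (Subtype.ext hi : v ^ i = w)
    rw [map_zpow] at h1
    have := (indep_eq hVc hVe hind (i := 0) (j := i) (k := 0) (i' := 0) (j' := 0) (k' := 1)
      (by rw [zpow_zero, zpow_zero, zpow_zero, one_mul, mul_one, one_mul, one_mul, hz1]; exact h1)).2.2
    simp at this
  · constructor
    · rintro ⟨hzS, hz⟩
      obtain ⟨e, he, hee⟩ := (D.mem_centre_iff h (z := z)).2 ⟨hN.ge hzS, fun m hm => by
        rw [commutatorElement_eq_one_iff_mul_comm.2 (hz m (hN.le hm))]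
        exact one_mem _⟩
      obtain ⟨i, j, hij⟩ := (mem_plane h).1 he
      refine ⟨i, j, ?_⟩
      rw [← hee, show e = v ^ i * w ^ j from hinjq (by rw [map_mul, map_zpow, map_zpow, hij])]
      simp
    · rintro ⟨i, j, rfl⟩
      have hm := (D.mem_centre_iff h (z := (v : Ω) ^ i * (w : Ω) ^ j)).1 ⟨v ^ i * w ^ j,
        (mem_plane h).2 ⟨i, j, by rw [map_mul, map_zpow, map_zpow]⟩, by simp⟩
      refine ⟨hN.le hm.1, fun s hs => ?_⟩
      have h1 := hm.2 s (hN.ge hs)
      rw [hbot, Subgroup.mem_bot] at h1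
      exact commutatorElement_eq_one_iff_mul_comm.1 h1
  · obtain ⟨X, _, _, ρ, act, Y₀, hρ, hinj, hY₀, hact₀, -⟩ := h.exists_model
    have hact : ∀ (q : F.autGroup E) (e : E), act (ρ q) (mq E e) = mq E (((q : MulAut E) e : E)) := hact₀
    obtain ⟨σ, hσ, hσu, hσv, hσw⟩ := D.swap
    obtain ⟨n, hn⟩ := h.autHom_pow x
    have hn' : (autHom F h.le x : F.autGroup E) ^ p ^ n = 1 :=
      Subtype.ext (by rw [Subgroup.coe_pow, hn, Subgroup.coe_one])
    obtain ⟨i, hi⟩ := Subgroup.mem_zpowers_iff.1 (fixed_line h.quotient_card hVc hVe act hinj hY₀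
      (t := ρ (autHom F h.le x)) (s := ρ ⟨σ, hσ⟩) (k := n) (by rw [← map_pow, hn', map_one])
      (u := mq E u) (v := mq E v) (w := mq E w)
      (fun z => by obtain ⟨e, rfl⟩ := QuotientGroup.mk'_surjective (frattini ↥E) z; exact D.gen e)
      (by rw [hact]; exact D.actu) (by rw [hact]; exact D.actv) (by rw [hact]; exact D.actw)
      (by rw [hact]; exact hσu) (by rw [hact]; exact hσv) (by rw [hact]; exact hσw) (ρ ⟨α, hα⟩))
    rw [hact, ← map_zpow] at hi
    refine ⟨i, ?_⟩
    show (w : Ω) ^ i = _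
    rw [autFn_coe, ← SubgroupClass.coe_zpow, hinjq hi]

/-- A central element moved into the derived subgroup by a coprime power is fixed. -/
theorem aut_coprime (hS : IsPGroup p S) (hF : F.IsSaturated p) {ε : MulAut S} (hε : ε ∈ F.autGroup S) {z t : S}
    (hz : ∀ s : S, z * s = s * z) (htp : t ^ p = 1) (hεt : ε t = t) (hεz : ε z = z * t) : t = 1 := by
  have hfn : F.IsFullyNormalized S := ⟨le_rfl, fun Q _ => by
    rw [le_antisymm normalizerIn_le (fun s hs => ⟨hs, Subgroup.le_normalizer hs⟩ : S ≤ normalizerIn S S)]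
    exact Subgroup.card_le_of_le normalizerIn_le⟩
  obtain ⟨-, R, hR⟩ := (fullyNormalized_good hS hF hfn).1
  haveI : (R : Subgroup (F.autGroup S)).Normal := by
    rw [hR, autInducedBy_self]
    exact inn_normal_aut
  set n := (R : Subgroup (F.autGroup S)).index
  have hco : ¬ p ∣ n := R.not_dvd_index
  have hpow := Subgroup.pow_index_mem (R : Subgroup (F.autGroup S)) ⟨ε, hε⟩
  have hinn : ε ^ n ∈ Inn S := by
    rw [← autInducedBy_self]
    exact (hR.le hpow : (⟨ε, hε⟩ : F.autGroup S) ^ n ∈ (autInducedBy S S).subgroupOf (F.autGroup S))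
  obtain ⟨y, hy⟩ := hinn
  have hiter : ∀ l : ℕ, (ε ^ l) z = z * t ^ l := by
    intro l
    induction l with
    | zero => simp
    | succ l ih => rw [pow_succ', MulAut.mul_apply, ih, map_mul, map_pow, hεt, hεz, pow_succ', mul_assoc]
  have h1 := hiter n
  rw [← hy, MulAut.conj_apply, ← hz y, mul_inv_cancel_right, left_eq_mul] at h1
  have := pow_gcd_eq_one.2 ⟨htp, h1⟩
  rwa [(hpf.out.coprime_iff_not_dvd.2 hco).gcd_eq_one, pow_one] at this

/-- Every automorphism of `S` stabilizes the line of `w`. -/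
theorem LineData.line (hS : IsPGroup p S) (hF : F.IsSaturated p) {v w : Ω} {a : ℤ} {γ : MulAut S}
    (L : LineData p F v w a γ) {α : MulAut S} (hα : α ∈ F.autGroup S) : autFn α w ∈ Subgroup.zpowers w := by
  obtain ⟨hγ, ha1, hder, hvp, hwp, hv1, hvw, hwv, hcen, hγv, hγw⟩ := L
  have hwS : w ∈ S := ((hcen w).2 ⟨0, 1, by simp⟩).1
  have hvS : v ∈ S := ((hcen v).2 ⟨1, 0, by simp⟩).1
  have hw1 : w ≠ 1 := fun e => hwv (e ▸ one_mem _)
  set wS : S := ⟨w, hwS⟩
  set vS : S := ⟨v, hvS⟩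
  have hwc : ∀ s : S, wS * s = s * wS := fun s =>
    Subtype.ext (((hcen w).2 ⟨0, 1, by simp⟩).2 s s.2)
  have hvc : ∀ s : S, vS * s = s * vS := fun s =>
    Subtype.ext (((hcen v).2 ⟨1, 0, by simp⟩).2 s s.2)
  have hinvd : ∀ (δ : MulAut S) (z : S), (z : Ω) ∈ Subgroup.zpowers v → ((δ z : S) : Ω) ∈ Subgroup.zpowers v := by
    intro δ z hz
    rw [← hder] at hz ⊢
    exact ((CharIn.self (E := S)).commutator CharIn.self).2 δ z hz
  have hinvc : ∀ (δ : MulAut S) (z : S), (∀ s : S, z * s = s * z) → ∀ s : S, δ z * s = s * δ z := by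
    intro δ z hz s
    obtain ⟨s, rfl⟩ := δ.surjective s
    rw [← map_mul, ← map_mul, hz s]
  have hγv' : γ vS = vS ^ a := Subtype.ext (by rw [← autFn_coe]; simpa [vS] using hγv)
  have hγw' : γ wS = wS := Subtype.ext (by rw [← autFn_coe]; simpa [wS] using hγw)
  -- the inverse image of `w`
  obtain ⟨i, j, hij⟩ := (hcen ((α⁻¹ wS : S) : Ω)).1
    ⟨(α⁻¹ wS).2, fun s hs => congrArg Subtype.val (hinvc α⁻¹ wS hwc ⟨s, hs⟩)⟩
  have hz : α⁻¹ wS = vS ^ i * wS ^ j := Subtype.ext (by simpa [vS, wS] using hij)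
  obtain ⟨l, hl⟩ := Subgroup.mem_zpowers_iff.1 (hinvd α⁻¹ vS (Subgroup.mem_zpowers v))
  have hl' : α⁻¹ vS = vS ^ l := Subtype.ext (by simpa [vS] using hl.symm)
  set δ : MulAut S := α * γ * α⁻¹ with hδ
  have hδv : δ vS = vS ^ a := by
    rw [hδ, MulAut.mul_apply, MulAut.mul_apply, hl', map_zpow γ, hγv', ← zpow_mul, mul_comm, zpow_mul,
      map_zpow α, ← hl', MulAut.apply_inv_self]
  set t' : S := α (vS ^ (i * a - i)) with ht'
  have hδw : δ wS = wS * t' := by
    rw [hδ, MulAut.mul_apply, MulAut.mul_apply, hz, map_mul γ, map_zpow γ, map_zpow γ, hγv', hγw', ← zpow_mul, ht',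
      show vS ^ (a * i) * wS ^ j = vS ^ i * wS ^ j * vS ^ (i * a - i) by
        rw [mul_assoc, ← ((show Commute vS (wS ^ j) from hvc _).zpow_left _).eq, ← mul_assoc, ← zpow_add,
          show i + (i * a - i) = a * i by ring],
      map_mul, ← hz, MulAut.apply_inv_self]
  set ε : MulAut S := γ⁻¹ * δ with hεdef
  have hεm : ε ∈ F.autGroup S := mul_mem (inv_mem hγ) (mul_mem (mul_mem hα hγ) (inv_mem hα))
  have ht'v : (t' : Ω) ∈ Subgroup.zpowers v :=
    hinvd α _ (by rw [SubgroupClass.coe_zpow]; exact Subgroup.zpow_mem _ (Subgroup.mem_zpowers v) _)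
  obtain ⟨m, hm⟩ := Subgroup.mem_zpowers_iff.1 (hinvd γ⁻¹ t' ht'v)
  have hεv : ε vS = vS := by
    rw [hεdef, MulAut.mul_apply, hδv, ← hγv', MulAut.inv_apply_self]
  have hεw : ε wS = wS * vS ^ m := by
    rw [hεdef, MulAut.mul_apply, hδw, map_mul, show γ⁻¹ wS = wS by
      conv_lhs => rw [← hγw']
      rw [MulAut.inv_apply_self],
      show γ⁻¹ t' = vS ^ m from Subtype.ext (by simpa [vS] using hm.symm)]
  have hvSp : vS ^ p = 1 := Subtype.ext (by simpa [vS] using hvp)
  have ht1 := aut_coprime hS hF hεm hwc (t := vS ^ m)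
    (by rw [← zpow_natCast, ← zpow_mul, mul_comm, zpow_mul, zpow_natCast, hvSp, one_zpow])
    (by rw [map_zpow, hεv]) hεw
  have hγt : γ⁻¹ t' = 1 := by rw [← ht1]; exact Subtype.ext (by simpa [vS] using hm.symm)
  have hi0 : vS ^ (i * a - i) = 1 := by
    have h2 : t' = 1 := (γ⁻¹).injective (hγt.trans (map_one _).symm)
    exact α.injective (h2.trans (map_one α).symm)
  have hi : (i : ZMod p) = 0 := by
    have hv1' : vS ≠ 1 := fun e => hv1 (congrArg Subtype.val e)
    have h3 := eq_of_zpow hvSp hv1' (i := i * a - i) (j := 0) (by rw [zpow_zero]; exact hi0)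
    push_cast at h3
    rcases mul_eq_mul_right_iff.1 (show (a : ZMod p) * i = 1 * i by rw [one_mul]; linear_combination h3) with h4 | h4
    · exact absurd h4 ha1
    · exact h4
  have hwj : α⁻¹ wS = wS ^ j := by
    rw [hz, zpow_congr hvSp (j := 0) (by simpa using hi), zpow_zero, one_mul]
  -- invert
  have hj0 : (j : ZMod p) ≠ 0 := fun h0 => by
    have h5 : wS ^ j = 1 := by
      rw [zpow_congr (Subtype.ext (by simpa [wS] using hwp) : wS ^ p = 1) (j := 0) (by simpa using h0), zpow_zero]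
    rw [h5] at hwj
    exact hw1 (congrArg Subtype.val ((α⁻¹).injective (hwj.trans (map_one α⁻¹).symm)))
  have h6 : (α wS) ^ j = wS := by rw [← map_zpow, ← hwj, MulAut.apply_inv_self]
  rw [show w = (wS : Ω) from rfl, autFn_coe]
  obtain ⟨n, hn⟩ : ∃ n : ℤ, α wS = (wS : S) ^ n := by
    refine ⟨(((j : ZMod p)⁻¹).val : ℤ), ?_⟩
    have hp1 : (α wS) ^ p = 1 := by
      rw [← map_pow, show wS ^ p = 1 from Subtype.ext (by simpa [wS] using hwp), map_one]
    conv_rhs => rw [← h6]
    rw [← zpow_mul]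
    conv_lhs => rw [← zpow_one (α wS)]
    refine zpow_congr hp1 ?_
    rw [Int.cast_one, Int.cast_mul, intCast_val, mul_inv_cancel₀ hj0]
  rw [hn, SubgroupClass.coe_zpow]
  exact Subgroup.zpow_mem _ (Subgroup.mem_zpowers w) n

theorem LineData.indep {v w : Ω} {a : ℤ} {γ : MulAut S} (L : LineData p F v w a γ) {i j i' j' : ℤ}
    (h : v ^ i * w ^ j = v ^ i' * w ^ j') : (i : ZMod p) = i' ∧ (j : ZMod p) = j' := by
  have hwv := L.notMem
  have hwp := L.wp
  have hvp := L.vp
  have hv1 := L.v_ne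
  have h1 : w ^ (j - j') = v ^ (i' - i) := by
    calc w ^ (j - j') = (v ^ i)⁻¹ * (v ^ i * w ^ j) * (w ^ j')⁻¹ := by rw [zpow_sub]; group
      _ = v ^ (i' - i) := by
        rw [h, mul_assoc, mul_inv_cancel_right, ← zpow_neg, ← zpow_add, neg_add_eq_sub]
  have hj : ((j - j' : ℤ) : ZMod p) = 0 := by
    by_contra hne
    refine hwv (mem_of_zpow_mem (p := p) (by rw [hwp]; exact one_mem _) ?_ hne)
    rw [h1]
    exact Subgroup.zpow_mem _ (Subgroup.mem_zpowers v) _
  rw [zpow_congr hwp (j := 0) (by simpa using hj), zpow_zero] at h1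
  have hi := eq_of_zpow hvp hv1 (i := 0) (j := i' - i) (by rw [zpow_zero]; exact h1)
  push_cast at hi hj
  exact ⟨(sub_eq_zero.1 hi.symm).symm, sub_eq_zero.1 hj⟩

/-- Some nontrivial subgroup is normal in the fusion system. -/
theorem three_normal (hS : IsPGroup p S) (hF : F.IsSaturated p) (hSne : S ≠ ⊥)
    (hall : ∀ E, F.IsEssential p E → NHyp p F E) : ∃ U : Subgroup Ω, U ≠ ⊥ ∧ F.IsNormal U := by
  classical
  by_cases hplus : ∃ E, F.IsEssential p E ∧ ¬ ∀ g ∈ S, g ^ p ∈ phi E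
  · -- a single essential subgroup
    obtain ⟨E, hE, hno⟩ := hplus
    have k := hall E hE
    haveI := k.hyp.finite
    have huniq : ∀ E₂, F.IsEssential p E₂ → E₂ = E := by
      intro E₂ hE₂
      by_contra hne
      have k₂ := hall E₂ hE₂
      haveI := k₂.hyp.finite
      by_cases hminus : ∀ g ∈ S, g ^ p ∈ phi E₂
      · push Not at hno
        obtain ⟨g, hg, hgE⟩ := hno
        have hle : phi E ≤ phi E₂ := k.powers_le.trans ((Subgroup.closure_le _).2 (by
          rintro _ ⟨s, hs, rfl⟩; exact hminus s hs))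
        have h1 := k₂.card_phi
        rw [← k.card_phi] at h1
        haveI : Finite (phi E₂) := finite_of_le_base ((phi_le E₂).trans k₂.hyp.le)
        exact hgE ((Subgroup.eq_of_le_of_card_ge hle
          (Nat.eq_of_mul_eq_mul_right (pow_pos hpf.out.pos 4) h1).le).ge (hminus g hg))
      · have hJ := (dichotomy k.hyp).resolve_left fun hT => hno (k.minus_of_caseT hT)
        have hJ₂ := (dichotomy k₂.hyp).resolve_left fun hT => hminus (k₂.minus_of_caseT hT)
        obtain ⟨m, hm1, hmtop, hm⟩ := k.exists_level hJ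
        obtain ⟨m₂, hm₂1, hm₂top, hm₂⟩ := k₂.exists_level hJ₂
        have h1 := k.level_lt k₂ hne hno hm hm₂top hm1
        have h2 := k₂.level_lt k (Ne.symm hne) hminus hm₂ hmtop hm₂1
        omega
    refine ⟨E, fun hb => ?_, normal_of_aut hS hF k.hyp.le (fun α hα u hu => ?_) fun M hM => ?_⟩
    · have h1 := k.hyp.hrk
      haveI : Subsingleton E := hb ▸ inferInstanceAs (Subsingleton (⊥ : Subgroup Ω))
      rw [show frattini ↥E = ⊤ from Subsingleton.elim _ _, Subgroup.index_top] at h1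
      exact (Nat.one_lt_pow (by norm_num) hpf.out.one_lt).ne h1
    · rw [← huniq _ (essential_image hS hE k.normal hα)]
      exact mem_img_of_mem hu
    · rw [huniq M hM]
      exact ⟨le_rfl, fun α _ u hu => autFn_mem _ hu⟩
  push Not at hplus
  set U := Subgroup.closure ((fun g => g ^ p) '' (S : Set Ω)) with hU
  have hUphi : ∀ E, F.IsEssential p E → phi E = U := fun E hE =>
    le_antisymm (hall E hE).powers_le ((Subgroup.closure_le _).2 (by
      rintro _ ⟨s, hs, rfl⟩; exact hplus E hE s hs))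
  by_cases hUne : U ≠ ⊥
  · have hc : CharIn S U := CharIn.powers p
    refine ⟨U, hUne, normal_of_aut hS hF hc.1 (fun α _ u hu => ?_) fun M hM => ?_⟩
    · have := hc.2 α ⟨u, hc.1 hu⟩ hu
      rwa [← autFn_coe] at this
    · haveI := finite_of_le_base hM.1.1
      rw [← hUphi M hM]
      refine ⟨phi_le M, fun α _ z hz => ?_⟩
      obtain ⟨y, hy, rfl⟩ := hz
      show autFn α (y : Ω) ∈ phi M
      rw [autFn_coe]
      exact mem_phi.2 (frattini_invariant α hy)
  push Not at hUne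
  by_cases hnone : ∀ E, ¬ F.IsEssential p E
  · exact ⟨S, hSne, normal_of_aut hS hF le_rfl (fun α _ u hu => autFn_mem _ hu)
      fun M hM => absurd hM (hnone M)⟩
  push Not at hnone
  obtain ⟨E, hE⟩ := hnone
  have k := hall E hE
  haveI := k.hyp.finite
  by_cases hone : ∀ E₂, F.IsEssential p E₂ → E₂ = E
  · refine ⟨E, fun hb => ?_, normal_of_aut hS hF k.hyp.le (fun α hα u hu => ?_) fun M hM => ?_⟩
    · have h1 := k.hyp.hrk
      haveI : Subsingleton E := hb ▸ inferInstanceAs (Subsingleton (⊥ : Subgroup Ω))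
      rw [show frattini ↥E = ⊤ from Subsingleton.elim _ _, Subgroup.index_top] at h1
      exact (Nat.one_lt_pow (by norm_num) hpf.out.one_lt).ne h1
    · rw [← hone _ (essential_image hS hE k.normal hα)]
      exact mem_img_of_mem hu
    · rw [hone M hM]
      exact ⟨le_rfl, fun α _ u hu => autFn_mem _ hu⟩
  push Not at hone
  -- two abelian essential subgroups: every essential subgroup is of transvection type
  have hcomm : ∀ M, F.IsEssential p M → ∀ s ∈ M, ∀ t ∈ M, s * t = t * s := by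
    intro M hM s hs t ht
    haveI := finite_of_le_base hM.1.1
    have h1 := mem_phi.2 (PGroup.Frattini.commutatorElement_mem_frattini (hS.to_le hM.1.1)
      (⟨s, hs⟩ : M) ⟨t, ht⟩)
    rw [hUphi M hM, hUne, Subgroup.mem_bot] at h1
    exact commutatorElement_eq_one_iff_mul_comm.1 (by simpa [commutatorElement_def] using h1)
  have hcardE : ∀ M, F.IsEssential p M → Nat.card M = p ^ 3 := by
    intro M hM
    have kM := hall M hM
    haveI := kM.hyp.finite
    have h1 := kM.hyp.card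
    rw [← Subgroup.card_map_of_injective M.subtype_injective,
      show (frattini ↥M).map M.subtype = U from hUphi M hM, hUne, Subgroup.card_bot, one_mul] at h1
    exact h1
  have hT : ∀ M, ∀ hM : F.IsEssential p M, CaseT p F M hM.1.1 := by
    intro M hM
    have kM := hall M hM
    haveI := kM.hyp.finite
    refine (dichotomy kM.hyp).resolve_right fun hJ => ?_
    obtain ⟨-, L, hΦL, hLc, hfix⟩ := hJ
    obtain ⟨M', hM', hne⟩ : ∃ M', F.IsEssential p M' ∧ M' ≠ M := by
      obtain ⟨E₂, hE₂, hE₂ne⟩ := hone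
      by_cases h : M = E
      · exact ⟨E₂, hE₂, h ▸ hE₂ne⟩
      · exact ⟨E, hE, fun e => h e.symm⟩
    have kM' := hall M' hM'
    haveI := kM'.hyp.finite
    haveI hM'n : (M'.subgroupOf S).Normal := ⟨fun z hz s => (mem_normalizer_iff'.1 (kM'.normal s.2)).1 _ hz⟩
    obtain ⟨g, hg, hgM⟩ := SetLike.exists_of_lt kM.hyp.lt_normalizer
    -- the intersection is fixed
    have hsup : S ≤ M ⊔ M' := by
      have hle : M ⊔ M' ≤ S := sup_le kM.hyp.le kM'.hyp.le
      have hlt : M < M ⊔ M' := lt_of_le_not_ge le_sup_left fun h => hne (Subgroup.eq_of_le_of_card_ge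
        (le_sup_right.trans h) (by rw [hcardE M hM, hcardE M' hM']))
      haveI := finite_of_le_base hle
      haveI : Finite (M ⊔ M' : Subgroup Ω) := finite_of_le_base hle
      have hlt' : M.subgroupOf S < (M ⊔ M').subgroupOf S := lt_of_le_not_ge
        (Subgroup.comap_mono le_sup_left) fun h => hlt.not_ge fun z hz => h (show (⟨z, hle hz⟩ : S) ∈ _ from hz)
      have h3 := CfsgLib.Fusion.MaxClass.card_mul_le_of_lt hS hlt'
      rw [Nat.card_congr (Subgroup.subgroupOfEquivOfLe kM.hyp.le).toEquiv, ← kM.card_S,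
        Nat.card_congr (Subgroup.subgroupOfEquivOfLe hle).toEquiv] at h3
      exact (Subgroup.eq_of_le_of_card_ge hle h3).ge
    have hfixed : M'.subgroupOf M ≤ L := by
      intro z hz
      rw [← hfix ⟨g, hg⟩ hgM, mem_fixMod]
      have hcz : ∀ s ∈ M ⊔ M', (z : Ω) * s = s * z := by
        have h1 : M ⊔ M' ≤ Subgroup.centralizer {(z : Ω)} := sup_le
          (fun s hs => Subgroup.mem_centralizer_iff.2 fun y hy => by
            rw [Set.mem_singleton_iff.1 hy]; exact hcomm M hM _ z.2 s hs)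
          (fun s hs => Subgroup.mem_centralizer_iff.2 fun y hy => by
            rw [Set.mem_singleton_iff.1 hy]; exact hcomm M' hM' _ hz s hs)
        exact fun s hs => Subgroup.mem_centralizer_iff.1 (h1 hs) _ rfl
      have h2 := hcz g (hsup hg.1)
      have h3 : ((autHom F kM.hyp.le ⟨g, hg⟩ : F.autGroup M) : MulAut M) z = z := Subtype.ext (by
        rw [autHom_apply]
        show g * (z : Ω) * g⁻¹ = z
        rw [← h2, mul_inv_cancel_right])
      rw [h3, inv_mul_cancel]
      exact one_mem _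
    let θ : M →* S ⧸ M'.subgroupOf S :=
      (QuotientGroup.mk' _).comp (Subgroup.inclusion kM.hyp.le)
    have hker : θ.ker = M'.subgroupOf M := by
      ext z
      rw [MonoidHom.mem_ker]
      exact QuotientGroup.eq_one_iff _
    have hran : Nat.card θ.range ≤ p := by
      refine (Subgroup.card_le_card_group θ.range).trans ?_
      rw [← Subgroup.index_eq_card, kM'.index_eq]
    have h1 := Subgroup.card_mul_index θ.ker
    rw [Subgroup.index_ker, hker, hcardE M hM] at h1
    have h2 : Nat.card (M'.subgroupOf M) ≤ p := by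
      have h3 := Subgroup.card_le_of_le hfixed
      rw [hLc] at h3
      have hΦ1 : Nat.card (frattini ↥M) = 1 := by
        rw [← Subgroup.card_map_of_injective M.subtype_injective,
          show (frattini ↥M).map M.subtype = U from hUphi M hM, hUne, Subgroup.card_bot]
      rwa [hΦ1, one_mul] at h3
    have h4 : p ^ 3 ≤ p * p := h1 ▸ Nat.mul_le_mul h2 hran
    have := hpf.out.one_lt
    nlinarith
  obtain ⟨v, w, a, γ, L, hwE, hME⟩ := exists_line k (hT E hE) ((hUphi E hE).trans hUne)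
  set C := Subgroup.zpowers w with hC
  have hwS : w ∈ S := k.hyp.le hwE
  have hw1 : w ≠ 1 := fun e => L.notMem (e ▸ one_mem _)
  have hinv : ∀ {g : Ω → Ω} {P : Subgroup Ω}, Fn F P g → w ∈ P → g w ∈ C → ∀ z ∈ C, g z ∈ C := by
    intro g P hg hwP hgw z hz
    obtain ⟨i, rfl⟩ := Subgroup.mem_zpowers_iff.1 hz
    rw [fn_map_zpow hg hwP]
    exact C.zpow_mem hgw i
  refine ⟨C, fun e => hw1 (Subgroup.zpowers_eq_bot.1 e), normal_of_aut hS hF (Subgroup.zpowers_le.2 hwS)
    (fun α hα => hinv ((mem_autGroup_iff_fn le_rfl).1 hα) hwS (L.line hS hF hα)) fun M hM => ?_⟩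
  have kM := hall M hM
  haveI := kM.hyp.finite
  obtain ⟨v₂, w₂, a₂, γ₂, L₂, hw₂M, hM₂⟩ := exists_line kM (hT M hM) ((hUphi M hM).trans hUne)
  -- the second line is the same
  obtain ⟨i, j, hij⟩ := (L.centre w₂).1 ((L₂.centre w₂).2 ⟨0, 1, by simp⟩)
  obtain ⟨l, hl⟩ := Subgroup.mem_zpowers_iff.1 (L₂.line hS hF L.aut)
  have hj : (j : ZMod p) ≠ 0 := by
    intro h0
    refine L₂.notMem ?_
    rw [← L₂.der, L.der, hij, zpow_congr L.wp (j := 0) (by simpa using h0), zpow_zero, mul_one]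
    exact Subgroup.zpow_mem _ (Subgroup.mem_zpowers v) i
  have hfn := (mem_autGroup_iff_fn le_rfl).1 L.aut
  have hvS : v ∈ S := ((L.centre v).2 ⟨1, 0, by simp⟩).1
  have himg : autFn γ w₂ = v ^ (a * i) * w ^ j := by
    rw [hij, hfn.map_mul (S.zpow_mem hvS i) (S.zpow_mem hwS j), fn_map_zpow hfn hvS, fn_map_zpow hfn hwS, L.actv, L.actw,
      ← zpow_mul]
  rw [himg, hij, L.comm.zpow_zpow i j |>.mul_zpow, ← zpow_mul, ← zpow_mul] at hl
  obtain ⟨h1, h2⟩ := L.indep hl
  push_cast at h1 h2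
  have hi : (i : ZMod p) = 0 := by
    have hl1 : (l : ZMod p) = 1 := mul_left_cancel₀ hj (by rw [mul_one]; exact h2)
    rw [hl1, mul_one] at h1
    rcases mul_eq_mul_right_iff.1 (show (a : ZMod p) * i = 1 * i by rw [one_mul]; exact h1.symm) with h4 | h4
    · exact absurd h4 L.one_ne
    · exact h4
  have hw₂ : w₂ = w ^ j := by
    rw [hij, zpow_congr L.vp (j := 0) (by simpa using hi), zpow_zero, one_mul]
  have hwM : w ∈ M := mem_of_zpow_mem (p := p) (by rw [L.wp]; exact one_mem _) (hw₂ ▸ hw₂M) hj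
  refine ⟨Subgroup.zpowers_le.2 hwM, fun α hα => hinv ((mem_autGroup_iff_fn hM.1.1).1 hα) hwM ?_⟩
  obtain ⟨n, hn⟩ := Subgroup.mem_zpowers_iff.1 (hM₂ α hα)
  refine mem_of_zpow_mem (p := p) (i := j) ?_ ?_ hj
  · rw [← zpow_natCast, ← fn_map_zpow ((mem_autGroup_iff_fn hM.1.1).1 hα) hwM, zpow_natCast, L.wp,
      ((mem_autGroup_iff_fn hM.1.1).1 hα).map_one]
    exact one_mem _
  · rw [← fn_map_zpow ((mem_autGroup_iff_fn hM.1.1).1 hα) hwM, ← hw₂, ← hn, hw₂, ← zpow_mul]
    exact Subgroup.zpow_mem _ (Subgroup.mem_zpowers w) _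

end CfsgLib.Fsys.RankThree
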