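import Cfsg.Agent.Lib.FusionSystem.RankThree.TwoCore
import Cfsg.Agent.Lib.FusionSystem.RankThree.Transvection
import Cfsg.Agent.Lib.FusionSystem.RankThree.Conj

/-! The torus data of a two generator essential subgroup that is not a pearl. -/

set_option autoImplicit false
set_option linter.unusedSectionVars false
set_option linter.style.haveILetI false

open Cfsg Cfsg.FusionSystem
open scoped commutatorElement
open CfsgLib.PGroup.FrattiniAct (quot quot_mk eq_one_of_quot)

namespace CfsgLib.Fsys.RankThree.Two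

universe u

/-- The Frattini subgroup lies in each subgroup with elementary abelian quotient. -/
theorem frattini_le_elementary {G : Type*} [Group G] [Finite G] {p : ℕ} [hp : Fact p.Prime] {K : Subgroup G}
    (hc : ∀ a b : G, ⁅a, b⁆ ∈ K) (hpow : ∀ g : G, g ^ p ∈ K) : frattini G ≤ K := by
  intro g hg
  by_contra hgK
  haveI : K.Normal := ⟨fun k hk y => by
    have := K.mul_mem (hc y k) hk
    rwa [commutatorElement_def, inv_mul_cancel_right] at this⟩
  letI : CommGroup (G ⧸ K) := { (inferInstance : Group (G ⧸ K)) with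
    mul_comm := fun q r => by
      obtain ⟨a, rfl⟩ := QuotientGroup.mk'_surjective K q
      obtain ⟨b, rfl⟩ := QuotientGroup.mk'_surjective K r
      rw [← commutatorElement_eq_one_iff_mul_comm, ← map_commutatorElement]
      exact (QuotientGroup.eq_one_iff _).2 (hc a b) }
  obtain ⟨ch, hch⟩ := CommGroup.exists_apply_ne_one_of_hasEnoughRootsOfUnity (G ⧸ K) ℂ
    (a := (g : G ⧸ K)) (fun e => hgK ((QuotientGroup.eq_one_iff g).1 e))
  let k : G →* ℂˣ := ch.comp (QuotientGroup.mk' K)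
  haveI : Finite k.range := Finite.of_surjective k.rangeRestrict k.rangeRestrict_surjective
  haveI : IsCyclic k.range := inferInstance
  have hexp : ∀ y : k.range, y ^ p = 1 := by
    rintro ⟨_, y, rfl⟩
    refine Subtype.ext ?_
    show k y ^ p = 1
    rw [← map_pow]
    show ch (QuotientGroup.mk' K (y ^ p)) = 1
    rw [show QuotientGroup.mk' K (y ^ p) = 1 from (QuotientGroup.eq_one_iff _).2 (hpow y), map_one]
  have hidx : k.ker.index = p := by
    rw [Subgroup.index_ker, ← IsCyclic.exponent_eq_card]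
    refine ((Nat.dvd_prime hp.out).1 (Monoid.exponent_dvd_of_forall_pow_eq_one hexp)).resolve_left fun e => hch ?_
    haveI := Monoid.exp_eq_one_iff.1 e
    exact congrArg Subtype.val (Subsingleton.elim (⟨k g, g, rfl⟩ : k.range) 1)
  exact hch (MonoidHom.mem_ker.1 (frattini_le_of_index hidx hg))

variable {Ω : Type u} [Group Ω] {S : Subgroup Ω} [Finite S] {p : ℕ} [hpf : Fact p.Prime] {F : FusionSystem S}
  {E : Subgroup Ω}

/-- A two generator essential subgroup of large order. -/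
structure Pre (p : ℕ) (F : FusionSystem S) (E : Subgroup Ω) : Prop where
  hp : 5 ≤ p
  hS : IsPGroup p S
  hr : Rank3 p S
  hF : F.IsSaturated p
  hE : F.IsEssential p E
  hrk : (frattini ↥E).index = p ^ 2
  big : p ^ 4 ≤ Nat.card E

theorem Pre.of_not_pearl (hp : 5 ≤ p) (hS : IsPGroup p S) (hr : Rank3 p S) (hF : F.IsSaturated p)
    (hE : F.IsEssential p E) (hrk : (frattini ↥E).index = p ^ 2)
    (hnp : ¬ ((IsElementaryAbelian p E ∧ Nat.card E = p ^ 2) ∨
      (IsExtraspecial p ↥E ∧ Nat.card E = p ^ 3 ∧ ∀ x ∈ E, x ^ p = 1))) : Pre p F E := by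
  refine ⟨hp, hS, hr, hF, hE, hrk, ?_⟩
  by_contra! hlt
  haveI := finite_of_le_base hE.1.1
  obtain ⟨hcard, hc, hpow⟩ := cube_elementary hS hF (by omega) hE hlt (fun hor => hnp (by
    rcases hor with ⟨h1, h2⟩ | ⟨h1, h2, h3⟩
    · exact Or.inl ⟨h2, h1⟩
    · refine Or.inr ⟨h2, h1, fun x hx => ?_⟩
      have := Monoid.pow_exponent_eq_one (⟨x, hx⟩ : E)
      rw [h3] at this
      exact congrArg Subtype.val this))
  have hb : frattini ↥E = ⊥ := le_bot_iff.1 (frattini_le_elementary (p := p)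
    (fun a b => Subgroup.mem_bot.2 (commutatorElement_eq_one_iff_mul_comm.2 (Subtype.ext (hc _ a.2 _ b.2))))
    fun g => Subgroup.mem_bot.2 (Subtype.ext (hpow _ g.2)))
  rw [hb, Subgroup.index_bot, hcard] at hrk
  exact absurd (Nat.pow_right_injective hpf.out.two_le hrk) (by norm_num)

theorem Pre.le (h : Pre p F E) : E ≤ S := h.hE.1.1

/-- The torus data. -/
theorem Pre.exists_data (h : Pre p F E) :
    ∃ (x u v : normalizerIn S E) (f : MulAut (normalizerIn S E)) (a b : ℤ),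
      Data p (normalizerIn S E) (E.subgroupOf (normalizerIn S E)) ((phi E).subgroupOf (normalizerIn S E))
        x u v f a b := by
  classical
  have hES := h.le
  haveI := finite_of_le_base hES
  have hEp : IsPGroup p E := h.hS.to_le hES
  set N := normalizerIn S E with hNdef
  haveI : Finite N := finite_of_le_base normalizerIn_le
  have hEN : E ≤ N := le_normalizerIn hES
  have hNp : IsPGroup p N := h.hS.to_le normalizerIn_le
  -- the model
  set A := F.autGroup E
  obtain ⟨-, -, hn, Y₀, hY₀⟩ := id h.hE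
  let f0 : A →* MulAut (E ⧸ frattini ↥E) := quot.comp A.subtype
  have hker0 : f0.ker = (Inn E).subgroupOf A := by
    refine le_antisymm ?_ fun g hg => ?_
    · intro g hg
      have hp' : IsPGroup p f0.ker := isPGroup_of_forall_coprime fun y hy => by
        refine Subtype.ext (Subtype.ext ?_)
        refine eq_one_of_quot hEp (by rwa [Subgroup.orderOf_coe, Subgroup.orderOf_coe]) ?_
        exact MonoidHom.mem_ker.1 y.2
      exact Subgroup.mem_subgroupOf.2
        ((essential_radical h.hS h.hE).2.le ⟨g, CfsgLib.Solvable.Cores.le_pCore hp' hg, rfl⟩)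
    · obtain ⟨y, hy⟩ := Subgroup.mem_subgroupOf.1 hg
      refine MonoidHom.mem_ker.2 (MulEquiv.ext fun q => ?_)
      obtain ⟨z, rfl⟩ := QuotientGroup.mk'_surjective (frattini ↥E) q
      show ((((g : MulAut E)) z : E) : E ⧸ frattini ↥E) = (z : E ⧸ frattini ↥E)
      rw [← hy, QuotientGroup.eq]
      have := PGroup.Frattini.commutatorElement_mem_frattini hEp y z⁻¹
      simpa [MulAut.conj_apply, commutatorElement_def, mul_assoc] using this
  let X := A ⧸ (Inn E).subgroupOf A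
  let ρ : A →* X := QuotientGroup.mk' _
  have hρ : Function.Surjective ρ := QuotientGroup.mk'_surjective _
  let act : X →* MulAut (E ⧸ frattini ↥E) := QuotientGroup.lift _ f0 hker0.ge
  have hinj : Function.Injective act := by
    rw [← MonoidHom.ker_eq_bot_iff, QuotientGroup.ker_lift, hker0, QuotientGroup.map_mk'_self]
  have hact : ∀ (q : A) (e : E), act (ρ q) (mq E e) = mq E (((q : MulAut E) e : E)) := fun q e => rfl
  have hInn : ∀ g : A, ρ g = 1 → (g : MulAut E) ∈ Inn E := fun g hg => (QuotientGroup.eq_one_iff g).1 hg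
  have hVc := PGroup.Frattini.quotient_mul_comm (p := p) (P := E) hEp
  have hVe := PGroup.Frattini.quotient_pow_eq_one (p := p) (P := E) hEp
  have hVcard : Nat.card (E ⧸ frattini ↥E) = p ^ 2 := by rw [← Subgroup.index_eq_card, h.hrk]
  let ψ : N →* X := ρ.comp (autHom F hES)
  have hψ : ∀ (g : N) (e : E), act (ψ g) (mq E e) = mq E (((autHom F hES g : A) : MulAut E) e) :=
    fun g e => hact _ e
  have hP : IsPGroup p ψ.range := hNp.of_surjective ψ.rangeRestrict ψ.rangeRestrict_surjective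
  have hmem : ∀ g : N, (∀ e : E, mq E (((autHom F hES g : A) : MulAut E) e) = mq E e) → (g : Ω) ∈ E := by
    intro g hg
    refine SmallEssential.mem_of_stab h.hS h.hF h.hE (frattini ↥E) le_rfl
      (fun α _ z hz => frattini_invariant α hz) g.2 (fun z hz => ?_) fun z => ?_
    · exact (frattini ↥E).mul_mem (inv_mem hz) (frattini_invariant _ hz)
    · exact QuotientGroup.eq.1 (hg z).symm
  -- the fixed line
  obtain ⟨g₀, hg₀, hg₀E⟩ := SetLike.exists_of_lt (lt_normalizerIn h.hS (essential_lt h.hS h.hF h.hE))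
  set t := ψ ⟨g₀, hg₀⟩ with ht
  let L1 : Subgroup (E ⧸ frattini ↥E) := MonoidHom.eqLocus (act t).toMonoidHom (MonoidHom.id _)
  have hVp : IsPGroup p (E ⧸ frattini ↥E) := IsPGroup.of_card hVcard
  obtain ⟨kt, hkt⟩ := hP ⟨t, ⟨_, rfl⟩⟩
  have htp : act t ^ p ^ kt = 1 := by
    rw [← map_pow, show t ^ p ^ kt = 1 by simpa using congrArg Subtype.val hkt, map_one]
  have hVne : (⊤ : Subgroup (E ⧸ frattini ↥E)) ≠ ⊥ := fun e => by
    have h1 : Nat.card (⊤ : Subgroup (E ⧸ frattini ↥E)) = 1 := by rw [e, Subgroup.card_bot]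
    rw [Subgroup.card_top, hVcard] at h1
    exact (Nat.one_lt_pow two_ne_zero hpf.out.one_lt).ne' h1
  letI : MulAction ψ.range (E ⧸ frattini ↥E) := MulAction.compHom _ (act.comp ψ.range.subtype)
  obtain ⟨z₀, hz₀, hz₀1⟩ := hP.exists_fixed_point_of_prime_dvd_card_of_fixed_point (E ⧸ frattini ↥E)
    (by rw [hVcard]; exact dvd_pow_self p two_ne_zero) (a := 1) (fun y => map_one (act y.1))
  have hz₀f : ∀ y ∈ ψ.range, act y z₀ = z₀ := fun y hy => hz₀ ⟨y, hy⟩
  have hz₀L : z₀ ∈ L1 := hz₀f t ⟨_, rfl⟩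
  have hL1c : Nat.card L1 = p := by
    obtain ⟨j, hj2, hj⟩ := (Nat.dvd_prime_pow hpf.out).1 (hVcard ▸ Subgroup.card_subgroup_dvd_card L1)
    have h0 : j ≠ 0 := fun e => hz₀1 (by
      rw [e, pow_zero] at hj
      rw [Subgroup.eq_bot_of_card_eq _ hj, Subgroup.mem_bot] at hz₀L
      exact hz₀L.symm)
    have h2 : j ≠ 2 := fun e => hg₀E (hmem ⟨g₀, hg₀⟩ fun z => by
      rw [← hψ]
      have htop : L1 = ⊤ := Subgroup.eq_top_of_card_eq _ (by rw [hj, e, hVcard])
      exact htop.ge (Subgroup.mem_top (mq E z)))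
    rw [hj, show j = 1 by omega, pow_one]
  have hLgen : L1 = Subgroup.zpowers z₀ := by
    refine (Subgroup.eq_of_le_of_card_ge (Subgroup.zpowers_le.2 hz₀L) ?_).symm
    rw [hL1c, Nat.card_zpowers, orderOf_eq_prime (hVe z₀) hz₀1.symm]
  -- the product with a line
  let V3 := (E ⧸ frattini ↥E) × Multiplicative (ZMod p)
  let act3 : X →* MulAut V3 :=
    { toFun := fun y => MulEquiv.prodCongr (act y) (MulEquiv.refl _)
      map_one' := MulEquiv.ext fun z => Prod.ext (by show act 1 z.1 = z.1; rw [map_one]; rfl) rfl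
      map_mul' := fun y z => MulEquiv.ext fun q => Prod.ext
        (by show act (y * z) q.1 = act y (act z q.1); rw [map_mul]; rfl) rfl }
  have hact3 : ∀ (y : X) (q : V3), act3 y q = (act y q.1, q.2) := fun _ _ => rfl
  have hinj3 : Function.Injective act3 := fun y z he => hinj (MulEquiv.ext fun q =>
    congrArg Prod.fst (DFunLike.congr_fun he (q, 1)))
  have hV3 : Nat.card V3 = p ^ 3 := by
    rw [Nat.card_prod, hVcard, Nat.card_congr Multiplicative.toAdd, Nat.card_zmod]
    ring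
  have hVc3 : ∀ q r : V3, q * r = r * q := fun q r => Prod.ext (hVc _ _) (mul_comm _ _)
  have hVe3 : ∀ q : V3, q ^ p = 1 := fun q => Prod.ext (hVe _) (by
    show q.2 ^ p = 1
    apply Multiplicative.toAdd.injective
    rw [toAdd_pow, toAdd_one, nsmul_eq_mul, ZMod.natCast_self, zero_mul])
  set K3 : Subgroup V3 := L1.prod ⊤ with hK3
  have hK3c : Nat.card K3 = p ^ 2 := by
    rw [hK3, Nat.card_congr (Subgroup.prodEquiv L1 (⊤ : Subgroup (Multiplicative (ZMod p)))).toEquiv, Nat.card_prod,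
      hL1c, Subgroup.card_top, Nat.card_congr Multiplicative.toAdd, Nat.card_zmod, pow_two]
  have hfix3 : ∀ q, act3 t q = q ↔ q ∈ K3 := fun q => by
    rw [hact3, hK3, Subgroup.mem_prod]
    exact ⟨fun e => ⟨congrArg Prod.fst e, Subgroup.mem_top _⟩, fun e => Prod.ext e.1 rfl⟩
  have hPK3 : ∀ y ∈ ψ.range, ∀ q ∈ K3, act3 y q ∈ K3 := by
    intro y hy q hq
    rw [hK3, Subgroup.mem_prod] at hq ⊢
    refine ⟨?_, Subgroup.mem_top _⟩
    obtain ⟨i, hi⟩ := Subgroup.mem_zpowers_iff.1 (hLgen.le hq.1)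
    show act y q.1 ∈ L1
    rw [← hi, map_zpow, hz₀f y hy]
    exact L1.zpow_mem hz₀L i
  obtain ⟨hPle, -⟩ := Fsys.Transvection.main hV3 hVc3 hVe3 act3 hinj3 hY₀ hP (t := t) ⟨_, rfl⟩
    hK3c hfix3 hPK3
  obtain ⟨u3, v3, w3, t₁, s, ht₁, -, -, -, hv31, hgen3, h1u, h1v, -, hsu, -, -, htor⟩ :=
    torus hV3 hVc3 hVe3 act3 hinj3 hY₀ hP (t := t) ⟨_, rfl⟩ hK3c hfix3 hPK3
  have hv2 : v3.2 = 1 := by
    have := congrArg Prod.snd h1u
    rw [hact3] at this
    exact left_eq_mul.1 this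
  have hu2 : u3.2 = 1 := by
    have := congrArg Prod.snd hsu
    rw [hact3] at this
    exact this.trans hv2
  have hgenV : ∀ z : E ⧸ frattini ↥E, ∃ i j : ℤ, z = u3.1 ^ i * v3.1 ^ j := by
    have hw : w3.2 ≠ 1 := fun hw => by
      obtain ⟨i, j, k, hq⟩ := hgen3 (1, Multiplicative.ofAdd 1)
      have h1 : Multiplicative.ofAdd (1 : ZMod p) = u3.2 ^ i * v3.2 ^ j * w3.2 ^ k := congrArg Prod.snd hq
      rw [hu2, hv2, hw, one_zpow, one_zpow, one_zpow, one_mul, one_mul] at h1
      have h2 := congrArg Multiplicative.toAdd h1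
      simp at h2
    intro z
    obtain ⟨i, j, k, hq⟩ := hgen3 (z, 1)
    refine ⟨i, j, ?_⟩
    have h2 : (1 : Multiplicative (ZMod p)) = u3.2 ^ i * v3.2 ^ j * w3.2 ^ k := congrArg Prod.snd hq
    rw [hu2, hv2, one_zpow, one_zpow, one_mul, one_mul] at h2
    have hk := eq_of_zpow (congrArg Prod.snd (hVe3 w3)) hw (i := k) (j := 0) (by rw [zpow_zero]; exact h2.symm)
    rw [zpow_congr (hVe3 w3) hk, zpow_zero, mul_one] at hq
    exact congrArg Prod.fst hq
  obtain ⟨m, rfl⟩ := Subgroup.mem_zpowers_iff.1 ht₁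
  have hv1 : v3.1 ≠ 1 := fun e => hv31 (Prod.ext e hv2)
  obtain ⟨a, b, hab, ha2, ha3, -⟩ := exists_unit (p := p) h.hp
  obtain ⟨th, hhu, hhv, -, hht⟩ := htor a b hab
  have g1u : act (t ^ m) u3.1 = u3.1 * v3.1 := congrArg Prod.fst h1u
  have g1v : act (t ^ m) v3.1 = v3.1 := congrArg Prod.fst h1v
  have ghu : act th u3.1 = u3.1 ^ b := congrArg Prod.fst hhu
  have ghv : act th v3.1 = v3.1 ^ a := congrArg Prod.fst hhv
  obtain ⟨u, hu⟩ := QuotientGroup.mk'_surjective (frattini ↥E) u3.1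
  obtain ⟨v, hv⟩ := QuotientGroup.mk'_surjective (frattini ↥E) v3.1
  rw [← hu, ← hv] at g1u hgenV
  rw [← hv] at g1v hv1 ghv
  rw [← hu] at ghu
  set x₁ : N := ⟨g₀, hg₀⟩ ^ m with hx₁
  have hψx₁ : ψ x₁ = t ^ m := map_zpow _ _ _
  rw [← hψx₁] at g1u g1v hht
  clear_value x₁
  set E0 := E.subgroupOf N with hE0
  haveI hE0n : E0.Normal := ⟨fun z hz g => (mem_normalizer_iff'.1 g.2.2).1 _ hz⟩
  have hker : ψ.ker = E0 := by
    ext g
    refine ⟨fun hg => hmem g fun e => ?_, fun hg => ?_⟩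
    · rw [← hψ, MonoidHom.mem_ker.1 hg, map_one, MulAut.one_apply]
    · refine MonoidHom.mem_ker.2 (hinj (MulEquiv.ext fun z => ?_))
      obtain ⟨e, rfl⟩ := QuotientGroup.mk'_surjective (frattini ↥E) z
      rw [hψ, map_one, MulAut.one_apply]
      refine (QuotientGroup.eq.2 ?_).symm
      have : e⁻¹ * ((autHom F hES g : A) : MulAut E) e = ⁅e⁻¹, (⟨g, hg⟩ : E)⁆ := by
        apply Subtype.ext
        simp only [Subgroup.coe_mul, InvMemClass.coe_inv, autHom_apply, commutatorElement_def, inv_inv]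
        group
      rw [this]
      exact PGroup.Frattini.commutatorElement_mem_frattini hEp _ _
  have hψx₁1 : ψ x₁ ≠ 1 := fun e => hv1 (by
    rw [e, map_one, MulAut.one_apply] at g1u
    exact left_eq_mul.1 g1u)
  have hx₁E : x₁ ∉ E0 := fun hh => hψx₁1 (MonoidHom.mem_ker.1 (hker.ge hh))
  have hrange : Nat.card ψ.range = p := by
    obtain ⟨j, hj⟩ := IsPGroup.iff_card.1 hP
    have hj0 : j ≠ 0 := fun e => hψx₁1 (by
      rw [e, pow_zero] at hj
      exact Subgroup.mem_bot.1 ((Subgroup.eq_bot_of_card_eq _ hj) ▸ (⟨x₁, rfl⟩ : ψ x₁ ∈ ψ.range)))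
    rw [hj] at hPle ⊢
    have := (Nat.pow_le_pow_iff_right hpf.out.one_lt).1 (hPle.trans_eq (pow_one p).symm)
    rw [show j = 1 by omega, pow_one]
  have hidx : E0.index = p := by rw [← hker, Subgroup.index_ker, hrange]
  have hgenP : ∀ g : N, ψ g ∈ Subgroup.zpowers (ψ x₁) := by
    intro g
    have hle : Subgroup.zpowers (ψ x₁) ≤ ψ.range := Subgroup.zpowers_le.2 ⟨x₁, rfl⟩
    have hp' : p ≤ Nat.card (Subgroup.zpowers (ψ x₁)) := by
      obtain ⟨j, hj⟩ := IsPGroup.iff_card.1 (hP.to_le hle)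
      rw [hj]
      refine Nat.le_self_pow (fun e => hψx₁1 ?_) p
      rw [e, pow_zero, Nat.card_zpowers, orderOf_eq_one_iff] at hj
      exact hj
    exact (Subgroup.eq_of_le_of_card_ge hle (hrange.le.trans hp')).ge ⟨g, rfl⟩
  -- the torus
  obtain ⟨β, hβ⟩ := hρ th
  have hβfn := (mem_autGroup_iff_fn hES).1 β.2
  obtain ⟨N', f, hf, hEN', hN', hfe⟩ :=
    receptive_extend (fullyNormalized_receptive h.hS h.hF h.hE.2.1) hβfn (img_autFn _)
  have hconj : ∀ g : N, ∃ y : N, β * autHom F hES g * β⁻¹ = autHom F hES y := by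
    intro g
    obtain ⟨i, hi⟩ := Subgroup.mem_zpowers_iff.1 (hgenP g)
    let y₀ : N := x₁ ^ (i * (a * a))
    have h1 : ρ (β * autHom F hES g * β⁻¹ * (autHom F hES y₀)⁻¹) = 1 := by
      rw [map_mul, map_mul, map_mul, map_inv, map_inv, hβ, show ρ (autHom F hES g) = ψ g from rfl,
        show ρ (autHom F hES y₀) = ψ y₀ from rfl, ← hi, map_zpow, ← conj_zpow, hht, ← zpow_mul,
        mul_comm i, mul_inv_cancel]
    obtain ⟨e, he⟩ := hInn _ h1
    refine ⟨⟨(e : Ω), hEN e.2⟩ * y₀, ?_⟩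
    rw [map_mul, eq_comm, ← eq_mul_inv_iff_mul_eq]
    refine Subtype.ext ?_
    show ((autHom F hES ⟨(e : Ω), hEN e.2⟩ : A) : MulAut E) = _
    rw [← he]
    exact MulEquiv.ext fun z => Subtype.ext (by simp)
  have hle : N ≤ N' := fun g hg => by
    obtain ⟨y, hy⟩ := hconj ⟨g, hg⟩
    refine (hN' g).2 ⟨hg.1, hg.2, y, normalizerIn_le y.2, fun z hz => ?_⟩
    lift z to E using hz
    have h2 := congrArg (fun q : A => (((q : MulAut E) (((β : MulAut E)) z) : E) : Ω)) hy
    simp only [Subgroup.coe_mul, Subgroup.coe_inv, MulAut.mul_apply, MulAut.inv_apply_self, autHom_apply] at h2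
    rw [show g * (z : Ω) * g⁻¹ = ((conjAut E hg.2 z : E) : Ω) from rfl, autFn_coe, autFn_coe]
    exact h2
  have hfN : ∀ g ∈ N, f g ∈ N := fun g hg =>
    hf.map_normalizer hEN' ((img_congr hfe).trans (img_autFn _)) (hle hg) hg.2
  have hβe : ∀ e : E, (((β : MulAut E) e : E) : Ω) = f e := fun e => by rw [hfe _ e.2, autFn_coe]
  let fh : N →* N := MonoidHom.mk' (fun g => ⟨f g, hfN g g.2⟩) fun g y => Subtype.ext (hf.map_mul (hle g.2) (hle y.2))
  have hfinj : Function.Injective fh := fun g y e =>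
    Subtype.ext (hf.inj (hle g.2) (hle y.2) (congrArg Subtype.val e))
  let fN : MulAut N := MulEquiv.ofBijective fh ⟨hfinj, Finite.surjective_of_injective hfinj⟩
  let ι := Subgroup.inclusion hEN
  have hfι : ∀ e : E, fN (ι e) = ι ((β : MulAut E) e) := fun e => Subtype.ext (hβe e).symm
  set Φ0 := (phi E).subgroupOf N with hΦ0
  have hΦmem : ∀ {e : E}, ι e ∈ Φ0 ↔ e ∈ frattini ↥E := fun {e} => by
    rw [hΦ0, Subgroup.mem_subgroupOf]
    exact mem_phi
  have hE0ι : ∀ {g : N}, g ∈ E0 → ∃ e : E, ι e = g := fun {g} hg => ⟨⟨g, hg⟩, rfl⟩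
  have hΦE : Φ0 ≤ E0 := fun g hg => phi_le E hg
  haveI : Φ0.Normal := ⟨fun g hg y => by
    obtain ⟨e, rfl⟩ := hE0ι (hΦE hg)
    rw [show y * ι e * y⁻¹ = ι (((autHom F hES y : A) : MulAut E) e) from Subtype.ext (by simp [ι])]
    exact hΦmem.2 (frattini_invariant _ (hΦmem.1 hg))⟩
  set π := QuotientGroup.mk' Φ0 with hπ
  have hπι : ∀ {e e' : E}, mq E e = mq E e' → π (ι e) = π (ι e') := fun {e e'} hee => by
    refine mk_eq_iff.2 ?_
    rw [← map_inv, ← map_mul]
    exact hΦmem.2 (QuotientGroup.eq.1 hee)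
  have hψ' : ∀ (g : N) (e : E), π (g * ι e * g⁻¹) = π (ι (((autHom F hES g : A) : MulAut E) e)) :=
    fun g e => congrArg π (Subtype.ext (by simp [ι]))
  have hxu₁ : π (x₁ * ι u * x₁⁻¹) = π (ι u) * π (ι v) := by
    rw [hψ', ← map_mul, ← map_mul]
    exact hπι (by rw [map_mul]; exact (hψ x₁ u).symm.trans g1u)
  have hxv₁ : π (x₁ * ι v * x₁⁻¹) = π (ι v) := by
    rw [hψ']
    exact hπι ((hψ x₁ v).symm.trans g1v)
  have hfu : π (fN (ι u)) = π (ι u) ^ b := by
    rw [hfι, ← map_zpow, ← map_zpow]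
    exact hπι (by rw [map_zpow, ← hact, hβ, ghu])
  have hfv : π (fN (ι v)) = π (ι v) ^ a := by
    rw [hfι, ← map_zpow, ← map_zpow]
    exact hπι (by rw [map_zpow, ← hact, hβ, ghv])
  have hEc : ∀ e e' : E, Commute (π (ι e)) (π (ι e')) := fun e e' => mk_commute (by
    rw [← map_commutatorElement]
    exact hΦmem.2 (PGroup.Frattini.commutatorElement_mem_frattini hEp e e'))
  -- adjust the outer element
  have hfx₁ : ∃ e₀ : E, fN x₁ = x₁ ^ (a * a) * ι e₀ := by
    have h3 : autHom F hES (fN x₁) = β * autHom F hES x₁ * β⁻¹ := by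
      refine Subtype.ext (MulEquiv.ext fun z => Subtype.ext ?_)
      obtain ⟨z, rfl⟩ := (β : MulAut E).surjective z
      simp only [Subgroup.coe_mul, Subgroup.coe_inv, MulAut.mul_apply, MulAut.inv_apply_self, autHom_apply, hβe]
      exact (hf.map_conj (hle x₁.2) (hle (hEN z.2))).symm
    have h4 : (x₁ ^ (a * a))⁻¹ * fN x₁ ∈ E0 := by
      refine hker.le (MonoidHom.mem_ker.2 ?_)
      rw [map_mul, map_inv, map_zpow, show ψ (fN x₁) = ρ (β * autHom F hES x₁ * β⁻¹) from
        congrArg ρ h3, map_mul, map_mul, map_inv, hβ]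
      show (ψ x₁ ^ (a * a))⁻¹ * (th * ψ x₁ * th⁻¹) = 1
      rw [hht, inv_mul_cancel]
    obtain ⟨e, he⟩ := hE0ι h4
    exact ⟨e, by rw [he, mul_inv_cancel_left]⟩
  obtain ⟨e₀, he₀⟩ := hfx₁
  obtain ⟨j, k, hjk⟩ := hgenV (mq E e₀)
  set U := π (ι u) with hU
  set V := π (ι v) with hV
  have hUp : U ^ p = 1 := by
    rw [hU, ← map_pow, ← map_pow]
    exact mk_eq_one.2 (hΦmem.2 (PGroup.Frattini.pow_mem_frattini hEp u))
  have hVp' : V ^ p = 1 := by
    rw [hV, ← map_pow, ← map_pow]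
    exact mk_eq_one.2 (hΦmem.2 (PGroup.Frattini.pow_mem_frattini hEp v))
  have he₀π : π (ι e₀) = U ^ j * V ^ k := by
    rw [hU, hV, ← map_zpow, ← map_zpow, ← map_zpow, ← map_zpow, ← map_mul, ← map_mul]
    exact hπι (by rw [map_mul, map_zpow, map_zpow]; exact hjk)
  set n : ℤ := a * a with hn
  set X₁ := π x₁ with hX₁
  have hVX : Commute V X₁ := by
    rw [map_mul, map_mul, map_inv, mul_inv_eq_iff_eq_mul] at hxv₁
    exact hxv₁.symm
  have hUV : Commute U V := hEc u v
  -- modulo `⟨v⟩`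
  set Z := Subgroup.zpowers V with hZ
  have hVall : ∀ g : N, Commute V (π g) := by
    intro g
    obtain ⟨i, hi⟩ := Subgroup.mem_zpowers_iff.1 (hgenP g)
    obtain ⟨e, he⟩ := hE0ι (hker.le (MonoidHom.mem_ker.2
      (by rw [map_mul, map_inv, map_zpow, hi, inv_mul_cancel]) : (x₁ ^ i)⁻¹ * g ∈ ψ.ker))
    rw [show g = x₁ ^ i * ι e by rw [he, mul_inv_cancel_left], map_mul, map_zpow]
    exact (hVX.zpow_right i).mul_right (hEc v e)
  haveI : Z.Normal := ⟨fun z hz g => by
    obtain ⟨i, rfl⟩ := Subgroup.mem_zpowers_iff.1 hz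
    obtain ⟨g, rfl⟩ := QuotientGroup.mk'_surjective Φ0 g
    rw [((hVall g).zpow_left i).symm.eq, mul_inv_cancel_right]
    exact hz⟩
  have hshift : ∀ r : ℤ, ∃ l : ℤ, (X₁ * U ^ r) ^ n = X₁ ^ n * U ^ (r * n) * V ^ l := by
    intro r
    have hXU : X₁ * U * X₁⁻¹ = U * V := by rw [← map_inv, ← map_mul, ← map_mul]; exact hxu₁
    have hc : Commute (QuotientGroup.mk' Z X₁) (QuotientGroup.mk' Z U) := mk_commute (by
      rw [commutatorElement_def, hXU, hUV.eq, mul_inv_cancel_right]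
      exact Subgroup.mem_zpowers V)
    obtain ⟨l, hl⟩ := Subgroup.mem_zpowers_iff.1 (show (X₁ ^ n * U ^ (r * n))⁻¹ * (X₁ * U ^ r) ^ n ∈ Z from
      mk_eq_iff.1 (by
        rw [map_mul, map_zpow, map_zpow, map_zpow, map_mul, map_zpow, (hc.zpow_right r).mul_zpow, ← zpow_mul (QuotientGroup.mk' Z U)]))
    exact ⟨l, by rw [hl, mul_inv_cancel_left]⟩
  have ha1 : (a : ZMod p) ≠ 1 := fun e => ha2 (by rw [e, one_pow])
  have hab' : (a : ZMod p) * b = 1 := by push_cast at hab; exact hab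
  have hden : (a : ZMod p) * a - b ≠ 0 := fun e => by
    rw [sub_eq_zero] at e
    exact ha3 (by rw [pow_succ, pow_two, e, mul_comm, hab'])
  have hden2 : (a : ZMod p) * a - a ≠ 0 := fun e => by
    rw [sub_eq_zero] at e
    have ha0 : (a : ZMod p) ≠ 0 := fun e0 => by rw [e0, zero_mul] at hab'; exact zero_ne_one hab'
    exact ha1 (mul_left_cancel₀ ha0 (by rw [mul_one]; exact e))
  set r : ℤ := (((j : ZMod p) / ((a : ZMod p) * a - b)).val : ℤ) with hr
  obtain ⟨l₀, hl₀⟩ := hshift r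
  set q : ℤ := ((((k : ZMod p) - l₀) / ((a : ZMod p) * a - a)).val : ℤ) with hq
  set x := x₁ * ι (u ^ r * v ^ q) with hxdef
  have hπx : π x = X₁ * U ^ r * V ^ q := by
    rw [hxdef, map_mul, map_mul, map_mul, map_zpow, map_zpow, map_zpow, map_zpow, mul_assoc]
  have hfx : π (fN x) = π x ^ n := by
    rw [hπx, Commute.mul_zpow ((hVX.symm.mul_left (hUV.zpow_left r)).zpow_right q), hl₀, hxdef, map_mul fN,
      map_mul π, he₀, map_mul π, map_zpow π, ← hX₁, he₀π, map_mul, map_zpow, map_zpow, map_mul, map_zpow, map_zpow,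
      map_mul, map_zpow, map_zpow, hfu, hfv, ← zpow_mul, ← zpow_mul, ← zpow_mul]
    simp only [mul_assoc]
    congr 1
    rw [← mul_assoc (V ^ k), ((hUV.symm).zpow_zpow k (b * r)).eq, mul_assoc, ← mul_assoc (U ^ j), ← zpow_add,
      ← zpow_add, ← zpow_add]
    refine congrArg₂ (· * ·) (zpow_congr hUp ?_) (zpow_congr hVp' ?_)
    · push_cast
      rw [hn, hr, intCast_val]
      push_cast
      have := mul_div_cancel₀ (j : ZMod p) hden
      linear_combination -this
    · push_cast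
      rw [hn, hq, intCast_val]
      push_cast
      have := mul_div_cancel₀ ((k : ZMod p) - l₀) hden2
      linear_combination -this
  have hqe : π (ι (u ^ r * v ^ q)) * U = U * π (ι (u ^ r * v ^ q)) := hEc _ u
  have hxu : π (x * ι u * x⁻¹) = U * V := by
    rw [hxdef, map_mul, map_mul, map_inv, map_mul, mul_inv_rev, mul_assoc, mul_assoc, ← mul_assoc (π (ι (_ * _))) U,
      hqe, mul_assoc U, mul_inv_cancel_left, ← mul_assoc, ← map_inv, ← map_mul, ← map_mul]
    exact hxu₁
  have hqe' : π (ι (u ^ r * v ^ q)) * V = V * π (ι (u ^ r * v ^ q)) := hEc _ v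
  have hxv : π (x * ι v * x⁻¹) = V := by
    rw [hxdef, map_mul, map_mul, map_inv, map_mul, mul_inv_rev, mul_assoc, mul_assoc, ← mul_assoc (π (ι (_ * _))) V,
      hqe', mul_assoc V, mul_inv_cancel_left, ← mul_assoc, ← map_inv, ← map_mul, ← map_mul]
    exact hxv₁
  have hind : ∀ i i' : ℤ, mq E u ^ i * mq E v ^ i' = 1 → (i : ZMod p) = 0 ∧ (i' : ZMod p) = 0 := by
    let θ : ZMod p × ZMod p → E ⧸ frattini ↥E := fun z => mq E u ^ (z.1.val : ℤ) * mq E v ^ (z.2.val : ℤ)
    have hsur : Function.Surjective θ := fun z => by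
      obtain ⟨i, i', rfl⟩ := hgenV z
      exact ⟨((i : ZMod p), (i' : ZMod p)), by
        show _ * _ = _
        rw [zpow_congr (hVe _) (intCast_val _), zpow_congr (hVe _) (intCast_val _)]⟩
    have hbij := hsur.bijective_of_nat_card_le (by rw [Nat.card_prod, Nat.card_zmod, hVcard, pow_two])
    intro i i' hii
    have := @hbij.1 ((i : ZMod p), (i' : ZMod p)) (0, 0) (by
      show _ * _ = _ * _
      rw [zpow_congr (hVe _) (intCast_val _), zpow_congr (hVe _) (intCast_val _), hii]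
      simp)
    exact ⟨congrArg Prod.fst this, congrArg Prod.snd this⟩
  refine ⟨x, ι u, ι v, fN, a, b, ?_⟩
  refine
    { hG := hNp
      hr := h.hr.of_injective (Subgroup.inclusion normalizerIn_le) (Subgroup.inclusion_injective _)
      hp := h.hp
      normal := hE0n
      index := hidx
      big := ?big
      xE := fun hh => hx₁E ?xE
      uE := u.2
      vE := v.2
      phiLe := hΦE
      phiChar := ?char
      phiComm := ?comm
      phiPow := ?pow
      phiMin := ?min
      gen := ?gen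
      ind := ?ind
      xu := ?xu
      xv := ?xv
      fu := ?fu
      fv := ?fv
      fE := ?fE
      fx := ?fx
      hab := hab
      ha2 := ha2
      ha3 := ha3
      line := ?line }
  case big => rw [hE0, Nat.card_congr (Subgroup.subgroupOfEquivOfLe hEN).toEquiv]; exact h.big
  case xE =>
    have := E0.mul_mem hh (E0.inv_mem (show ι (u ^ r * v ^ q) ∈ E0 from (u ^ r * v ^ q).2))
    rwa [hxdef, mul_inv_cancel_right] at this
  case comm =>
    refine Subgroup.commutator_le.2 fun g hg y hy => ?_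
    obtain ⟨e, rfl⟩ := hE0ι hg
    obtain ⟨e', rfl⟩ := hE0ι hy
    rw [← map_commutatorElement]
    exact hΦmem.2 (PGroup.Frattini.commutatorElement_mem_frattini hEp e e')
  case pow =>
    intro g hg
    obtain ⟨e, rfl⟩ := hE0ι hg
    rw [← map_pow]
    exact hΦmem.2 (PGroup.Frattini.pow_mem_frattini hEp e)
  case min =>
    intro K hKc hKp g hg
    obtain ⟨e, rfl⟩ := hE0ι (hΦE hg)
    refine frattini_le_elementary (p := p) (K := K.comap ι) (fun s t => ?_) (fun s => ?_) (hΦmem.1 hg)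
    · rw [Subgroup.mem_comap, map_commutatorElement]
      exact hKc (Subgroup.commutator_mem_commutator s.2 t.2)
    · rw [Subgroup.mem_comap, map_pow]
      exact hKp _ s.2
  case char =>
    refine ⟨hΦE, fun α z hz => ?_⟩
    let eq : E0 ≃* E := Subgroup.subgroupOfEquivOfLe hEN
    have h1 : eq z ∈ frattini ↥E := hΦmem.1 (show ι (eq z) ∈ Φ0 from hz)
    have h2 : eq (α z) ∈ frattini ↥E := by
      have := frattini_invariant ((eq.symm.trans α).trans eq) h1
      simpa using this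
    exact hΦmem.2 h2
  case gen =>
    intro g hg
    obtain ⟨e, rfl⟩ := hE0ι hg
    obtain ⟨i, i', hii⟩ := hgenV (mq E e)
    refine ⟨i, i', ?_⟩
    rw [← map_zpow, ← map_zpow, ← map_mul, ← map_inv, ← map_mul]
    refine hΦmem.2 (QuotientGroup.eq.1 (?_ : mq E (u ^ i * v ^ i') = mq E e))
    rw [map_mul, map_zpow, map_zpow, hii]
  case ind =>
    intro i i' hii
    rw [← map_zpow, ← map_zpow, ← map_mul] at hii
    refine hind i i' ?_
    rw [← map_zpow, ← map_zpow, ← map_mul]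
    exact (QuotientGroup.eq_one_iff _).2 (hΦmem.1 hii)
  case xu => exact mk_eq_iff.1 (by rw [hxu, map_mul])
  case xv => exact mk_eq_iff.1 hxv.symm
  case fu => exact mk_eq_iff.1 (by rw [map_zpow, hfu])
  case fv => exact mk_eq_iff.1 (by rw [map_zpow, hfv])
  case fx => exact mk_eq_iff.1 (by rw [map_zpow, hfx])
  case fE =>
    intro g hg
    obtain ⟨e, rfl⟩ := hE0ι hg
    rw [hfι]
    exact (((β : MulAut E) e) : E).2
  case line =>
    intro L hL g hg hgΦ
    let eq : E0 ≃* E := Subgroup.subgroupOfEquivOfLe hEN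
    by_contra hne
    obtain ⟨e, rfl⟩ := hE0ι (hL.1 hg)
    refine SmallEssential.false_of_line h.hS h.hF h.hE h.hrk.le (L.comap ι) (fun α _ z hz => ?_) (fun htop => hne ?_)
      (fun hle => hgΦ (hΦmem.2 (hle hg)))
    · exact hL.2 ((eq.trans α).trans eq.symm) ⟨ι z, z.2⟩ hz
    · intro y hy
      obtain ⟨z, rfl⟩ := hE0ι hy
      exact Subgroup.mem_comap.1 (htop ▸ Subgroup.mem_top z : z ∈ L.comap ι)

end CfsgLib.Fsys.RankThree.Two
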