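import Cfsg.Agent.Lib.FusionSystem.RankThree.Act
import Cfsg.Agent.Lib.FusionSystem.RankThree.Centre
import Cfsg.Agent.Lib.FusionSystem.RankThree.TwoData

/-! The Frattini subgroup of an essential subgroup with three generators consists of powers. -/

set_option autoImplicit false
set_option linter.unusedSectionVars false
set_option linter.style.haveILetI false

open Cfsg Cfsg.FusionSystem
open scoped commutatorElement

namespace CfsgLib.Fsys.RankThree

universe u

open Two (mk_eq_one mk_eq_iff mk_commute comm_mul_left_central comm_mul_right_central comm_zpow_left comm_zpow_right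
  closure_commute closure_pow card_adjoin eq_bot_of_le_comm weight)

variable {Ω : Type u} [Group Ω] {S : Subgroup Ω} [Finite S] {p : ℕ} [hpf : Fact p.Prime] {F : FusionSystem S}
  {E : Subgroup Ω}

/-- A characteristic subgroup strictly between the Frattini subgroup and `E` rules out the regular case. -/
theorem not_caseJ_of_char (h : Hyp p F E) (hJ : CaseJ p F E h.le) (R : Subgroup E) (hΦ : frattini ↥E ≤ R)
    (hinv : ∀ α ∈ F.autGroup E, ∀ z ∈ R, α z ∈ R) (hne : R ≠ ⊤) : R ≤ frattini ↥E := by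
  haveI := h.finite
  obtain ⟨hcardN, L, hΦL, hLc, hfix⟩ := hJ
  haveI : Finite (normalizerIn S E) := finite_of_le_base normalizerIn_le
  obtain ⟨X, _, _, ρ, act, Y₀, hρ, hinj, hY₀, hact₀, -⟩ := h.exists_model
  have hact : ∀ (q : F.autGroup E) (e : E), act (ρ q) (mq E e) = mq E (((q : MulAut E) e : E)) := hact₀
  have hVc := PGroup.Frattini.quotient_mul_comm (p := p) (P := E) h.pgroup
  have hVe := PGroup.Frattini.quotient_pow_eq_one (p := p) (P := E) h.pgroup
  obtain ⟨g, hg, hgE⟩ := SetLike.exists_of_lt h.lt_normalizer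
  let ψ : normalizerIn S E →* X := ρ.comp (autHom F h.le)
  have hP : IsPGroup p ψ.range :=
    (h.hS.to_le normalizerIn_le).of_surjective ψ.rangeRestrict ψ.rangeRestrict_surjective
  have hmemL : ∀ {e : E}, mq E e ∈ L.map (mq E) → e ∈ L := by
    rintro e ⟨k, hk, he⟩
    have := L.mul_mem hk (hΦL (QuotientGroup.eq.1 he))
    rwa [mul_inv_cancel_left] at this
  have hLc' : Nat.card (L.map (mq E)) = p := by
    rw [← Subgroup.relIndex_ker, show (mq E).ker = frattini ↥E from QuotientGroup.ker_mk' _]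
    have h1 := Subgroup.card_mul_index ((frattini ↥E).subgroupOf L)
    rw [Nat.card_congr (Subgroup.subgroupOfEquivOfLe hΦL).toEquiv, hLc] at h1
    exact Nat.eq_of_mul_eq_mul_left Nat.card_pos h1
  have hfixV : ∀ z, act (ψ ⟨g, hg⟩) z = z ↔ z ∈ L.map (mq E) := by
    intro z
    obtain ⟨e, rfl⟩ := QuotientGroup.mk'_surjective (frattini ↥E) z
    rw [show act (ψ ⟨g, hg⟩) (mq E e) = _ from hact _ e]
    refine ⟨fun he => ⟨e, ?_, rfl⟩, fun he => ?_⟩
    · rw [← hfix ⟨g, hg⟩ hgE, SetLike.mem_coe, mem_fixMod]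
      exact QuotientGroup.eq.1 he.symm
    · have h1 := hmemL he
      rw [← hfix ⟨g, hg⟩ hgE, mem_fixMod] at h1
      exact (QuotientGroup.eq.2 h1).symm
  rcases regular_irreducible (by have := h.hp; omega) h.quotient_card hVc hVe act hinj hY₀ hP
      (t := ψ ⟨g, hg⟩) ⟨_, rfl⟩ hLc' hfixV (R.map (mq E)) (fun y z hz => by
        obtain ⟨α, rfl⟩ := hρ y
        obtain ⟨e, he, rfl⟩ := hz
        rw [hact]
        exact Subgroup.mem_map_of_mem _ (hinv _ α.2 e he)) with h0 | h0
  · rw [Subgroup.map_eq_bot_iff] at h0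
    exact h0.trans (QuotientGroup.ker_mk' _).le
  · refine absurd (eq_top_iff.2 fun e _ => ?_) hne
    obtain ⟨r, hr, hre⟩ := h0.ge (Subgroup.mem_top (mq E e))
    have := R.mul_mem hr (hΦ (QuotientGroup.eq.1 hre))
    rwa [mul_inv_cancel_left] at this

/-- The coordinates of an element outside the Frattini subgroup. -/
theorem exists_basis3 (h : Hyp p F E) :
    ∃ g₁ g₂ g₃ : E, (∀ e : E, ∃ i j k : ℤ, mq E e = mq E g₁ ^ i * mq E g₂ ^ j * mq E g₃ ^ k) ∧
      Indep3 p (mq E g₁) (mq E g₂) (mq E g₃) := by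
  haveI := h.finite
  have hVc := PGroup.Frattini.quotient_mul_comm (p := p) (P := E) h.pgroup
  have hVe := PGroup.Frattini.quotient_pow_eq_one (p := p) (P := E) h.pgroup
  have hnorm : ∀ K : Subgroup (E ⧸ frattini ↥E), K.Normal := fun K =>
    ⟨fun k hk y => by rwa [hVc y k, mul_inv_cancel_right]⟩
  have hex : ∀ K : Subgroup (E ⧸ frattini ↥E), Nat.card K < p ^ 3 → ∃ z, z ∉ K := fun K hK => by
    by_contra! hno
    rw [show K = ⊤ from eq_top_iff.2 fun z _ => hno z, Subgroup.card_top, h.quotient_card] at hK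
    exact hK.ne rfl
  have hp1 := hpf.out.one_lt
  obtain ⟨a, ha⟩ := hex ⊥ (by rw [Subgroup.card_bot]; exact Nat.one_lt_pow (by norm_num) hp1)
  have hca : Nat.card (Subgroup.zpowers a) = p := by
    rw [Nat.card_zpowers, orderOf_eq_prime (hVe a) fun e => ha (Subgroup.mem_bot.2 e)]
  obtain ⟨b, hb⟩ := hex (Subgroup.zpowers a) (by rw [hca]; exact lt_self_pow₀ hp1 (by norm_num))
  haveI := hnorm (Subgroup.zpowers a)
  have hcb := card_adjoin (p := p) (by rw [hVe]; exact one_mem _) hb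
  rw [hca] at hcb
  obtain ⟨c, hc⟩ := hex (Subgroup.zpowers a ⊔ Subgroup.zpowers b) (by
    rw [hcb, ← pow_two]; exact Nat.pow_lt_pow_right hp1 (by norm_num))
  haveI := hnorm (Subgroup.zpowers a ⊔ Subgroup.zpowers b)
  have hcc := card_adjoin (p := p) (by rw [hVe]; exact one_mem _) hc
  have htop : Subgroup.zpowers a ⊔ Subgroup.zpowers b ⊔ Subgroup.zpowers c = ⊤ :=
    Subgroup.eq_top_of_card_eq _ (by rw [hcc, hcb, h.quotient_card]; ring)
  obtain ⟨a, rfl⟩ := QuotientGroup.mk'_surjective (frattini ↥E) a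
  obtain ⟨b, rfl⟩ := QuotientGroup.mk'_surjective (frattini ↥E) b
  obtain ⟨c, rfl⟩ := QuotientGroup.mk'_surjective (frattini ↥E) c
  refine ⟨a, b, c, fun e => gen_of_closure hVc hVe htop (mq E e), indep_of_gen hVc hVe h.quotient_card fun z => ?_⟩
  exact gen_of_closure hVc hVe htop z

/-- The Frattini subgroup is generated by powers. -/
theorem Hyp.powers (h : Hyp p F E) :
    frattini ↥E ≤ Subgroup.closure (Set.range fun g : E => g ^ p) := by
  classical
  haveI := h.finite
  have hEp := h.pgroup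
  set Φ := frattini ↥E with hΦ
  set A0 := Subgroup.closure (Set.range fun g : E => g ^ p) with hA0
  by_contra hnot
  have hinvΦ : ∀ (α : MulAut E), ∀ z ∈ Φ, α z ∈ Φ := fun α z hz => frattini_invariant α hz
  have hinvA : ∀ (α : MulAut E), ∀ z ∈ A0, α z ∈ A0 := by
    intro α z hz
    have hle : A0 ≤ A0.comap α.toMonoidHom := (Subgroup.closure_le _).2 (by
      rintro _ ⟨g, rfl⟩
      exact Subgroup.subset_closure ⟨α g, (map_pow α g p).symm⟩)
    exact hle hz
  haveI : A0.Normal := ⟨fun z hz g => hinvA (MulAut.conj g) z hz⟩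
  haveI : Φ.Normal := inferInstance
  set B := A0 ⊔ ⁅Φ, (⊤ : Subgroup E)⁆ with hB
  have hinvB : ∀ (α : MulAut E), ∀ z ∈ B, α z ∈ B := by
    intro α z hz
    have hle : B ≤ B.comap α.toMonoidHom := sup_le (fun y hy => Subgroup.mem_sup_left (hinvA α y hy))
      (Subgroup.commutator_le.2 fun s hs t _ => by
        rw [Subgroup.mem_comap, map_commutatorElement]
        exact Subgroup.mem_sup_right (Subgroup.commutator_mem_commutator (hinvΦ α s hs) (Subgroup.mem_top _)))
    exact hle hz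
  haveI : B.Normal := ⟨fun z hz g => hinvB (MulAut.conj g) z hz⟩
  have hBΦ : B ≤ Φ := sup_le ((Subgroup.closure_le _).2 (by
    rintro _ ⟨g, rfl⟩
    exact PGroup.Frattini.pow_mem_frattini hEp g)) (Subgroup.commutator_le_left _ _)
  set π := QuotientGroup.mk' B with hπ
  have hexp : ∀ g : E, π g ^ p = 1 := fun g => by
    rw [← map_pow]; exact mk_eq_one.2 (Subgroup.mem_sup_left (Subgroup.subset_closure ⟨g, rfl⟩))
  have hcen : ∀ z ∈ Φ, ∀ g, Commute (π z) (π g) := fun z hz g =>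
    mk_commute (Subgroup.mem_sup_right (Subgroup.commutator_mem_commutator hz (Subgroup.mem_top g)))
  have hcom : ∀ g k : E, ⁅g, k⁆ ∈ Φ := fun g k => PGroup.Frattini.commutatorElement_mem_frattini hEp g k
  set W := Φ.map π with hW
  have hWcard : Nat.card Φ = Nat.card B * Nat.card W := by
    rw [hW, ← Subgroup.relIndex_ker, QuotientGroup.ker_mk', Subgroup.relIndex,
      ← Nat.card_congr (Subgroup.subgroupOfEquivOfLe hBΦ).toEquiv, Subgroup.card_mul_index]
  have hnΦB : ¬ Φ ≤ B := by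
    intro hle
    refine hnot ?_
    let π' := QuotientGroup.mk' A0
    have h1 : Φ.map π' ≤ ⁅Φ.map π', (⊤ : Subgroup E).map π'⁆ := by
      refine (Subgroup.map_mono hle).trans ?_
      rw [Subgroup.map_sup, Subgroup.map_commutator]
      refine sup_le ?_ le_rfl
      rintro _ ⟨z, hz, rfl⟩
      rw [mk_eq_one.2 hz]
      exact one_mem _
    have h2 := eq_bot_of_le_comm (hEp.to_quotient A0) h1
    rw [Subgroup.map_eq_bot_iff, QuotientGroup.ker_mk'] at h2
    exact h2
  -- bounds from the rank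
  have hbig : ∀ (T : Subgroup E), Φ ≤ T → (∀ g ∈ T, ∀ k ∈ T, ⁅g, k⁆ ∈ B) →
      Nat.card T ≤ p ^ 3 * Nat.card B :=
    fun T hT hTc => h.rank T B (hBΦ.trans hT) hTc fun g _ => mk_eq_one.1 (by rw [map_pow]; exact hexp g)
  obtain ⟨g₁, g₂, g₃, hgen, hind⟩ := exists_basis3 h
  have hpair : ∀ g k : E, g ∉ Φ → k ∉ Φ ⊔ Subgroup.zpowers g → ⁅g, k⁆ ∈ B → Nat.card W ≤ p := by
    intro g k hg hk hgk
    set T1 := Φ ⊔ Subgroup.zpowers g with hT1
    haveI hT1n : T1.Normal := ⟨fun z hz y => by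
      rw [show y * z * y⁻¹ = ⁅y, z⁆ * z by simp [commutatorElement_def]]
      exact T1.mul_mem (Subgroup.mem_sup_left (hcom y z)) hz⟩
    have hc1 : Nat.card T1 = Nat.card Φ * p := card_adjoin (PGroup.Frattini.pow_mem_frattini hEp g) hg
    have hc2 : Nat.card (T1 ⊔ Subgroup.zpowers k : Subgroup E) = Nat.card T1 * p :=
      card_adjoin (Subgroup.mem_sup_left (PGroup.Frattini.pow_mem_frattini hEp k)) hk
    set s : Set (E ⧸ B) := π '' ({g, k} ∪ (Φ : Set E)) with hs
    have hmem : ∀ z ∈ T1 ⊔ Subgroup.zpowers k, π z ∈ Subgroup.closure s := by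
      have hle : T1 ⊔ Subgroup.zpowers k ≤ (Subgroup.closure s).comap π :=
        sup_le (sup_le (fun z hz => Subgroup.subset_closure ⟨z, Or.inr hz, rfl⟩)
          (Subgroup.zpowers_le.2 (Subgroup.subset_closure ⟨g, Or.inl (Or.inl rfl), rfl⟩)))
          (Subgroup.zpowers_le.2 (Subgroup.subset_closure ⟨k, Or.inl (Or.inr rfl), rfl⟩))
      exact fun z hz => hle hz
    have hsc : ∀ q ∈ s, ∀ r ∈ s, Commute q r := by
      have hgk' : Commute (π g) (π k) := mk_commute hgk
      rintro _ ⟨y, hy, rfl⟩ _ ⟨z, hz, rfl⟩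
      rcases hy with (rfl | rfl) | hy <;> rcases hz with (rfl | rfl) | hz
      exacts [Commute.refl _, hgk', (hcen _ hz _).symm, hgk'.symm, Commute.refl _, (hcen _ hz _).symm,
        hcen _ hy _, hcen _ hy _, hcen _ hy _]
    have h1 := hbig _ (le_sup_left.trans le_sup_left) fun y hy z hz => mk_eq_one.1 (by
      rw [map_commutatorElement]
      exact commutatorElement_eq_one_iff_commute.2 (closure_commute hsc _ (hmem y hy) _ (hmem z hz)))
    rw [hc2, hc1, hWcard] at h1
    refine Nat.le_of_mul_le_mul_left (?_ : Nat.card B * p ^ 2 * Nat.card W ≤ Nat.card B * p ^ 2 * p)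
      (Nat.mul_pos Nat.card_pos (pow_pos hpf.out.pos 2))
    calc Nat.card B * p ^ 2 * Nat.card W = Nat.card B * Nat.card W * p * p := by ring
      _ ≤ p ^ 3 * Nat.card B := h1
      _ = Nat.card B * p ^ 2 * p := by ring
  have hWp : ∀ q ∈ W, q ^ p = 1 := by rintro _ ⟨z, -, rfl⟩; exact hexp z
  have hWc : ∀ q ∈ W, ∀ r : E ⧸ B, Commute q r := by
    rintro _ ⟨z, hz, rfl⟩ r
    obtain ⟨k, rfl⟩ := QuotientGroup.mk'_surjective B r
    exact hcen z hz k
  have hbil : ∀ g k : E, ∀ i : ℤ, ⁅π g ^ i, π k⁆ = ⁅π g, π k⁆ ^ i ∧ ⁅π g, π k ^ i⁆ = ⁅π g, π k⁆ ^ i := fun g k i =>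
    ⟨comm_zpow_left (by rw [← map_commutatorElement]; exact (hWc _ ⟨_, hcom g k, rfl⟩ _).symm) i,
      comm_zpow_right (by rw [← map_commutatorElement]; exact (hWc _ ⟨_, hcom g k, rfl⟩ _).symm) i⟩
  have hmul : ∀ g k l : E, ⁅π g * π k, π l⁆ = ⁅π g, π l⁆ * ⁅π k, π l⁆ ∧
      ⁅π l, π g * π k⁆ = ⁅π l, π g⁆ * ⁅π l, π k⁆ := fun g k l => by
    refine ⟨?_, comm_mul_right_central ?_⟩
    · rw [comm_mul_left_central (by rw [← map_commutatorElement]; exact (hWc _ ⟨_, hcom k l, rfl⟩ _).symm)]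
      rw [← map_commutatorElement π k l]
      exact (hWc _ ⟨_, hcom k l, rfl⟩ _).eq
    · rw [← map_commutatorElement]; exact (hWc _ ⟨_, hcom l k, rfl⟩ _).symm
  set P := ⁅π g₁, π g₂⁆ with hP
  set Q := ⁅π g₁, π g₃⁆ with hQ
  set T := ⁅π g₂, π g₃⁆ with hT
  have hPW : P ∈ W := ⟨_, hcom g₁ g₂, map_commutatorElement π _ _⟩
  have hQW : Q ∈ W := ⟨_, hcom g₁ g₃, map_commutatorElement π _ _⟩
  have hTW : T ∈ W := ⟨_, hcom g₂ g₃, map_commutatorElement π _ _⟩
  have hco : ∀ e : E, e ∈ Φ ↔ mq E e = 1 := fun e => (QuotientGroup.eq_one_iff e).symm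
  have hVc := PGroup.Frattini.quotient_mul_comm (p := p) (P := E) hEp
  have hVe := PGroup.Frattini.quotient_pow_eq_one (p := p) (P := E) hEp
  -- the radical
  let R : Subgroup E := (Subgroup.center (E ⧸ B)).comap π
  have hmemR : ∀ {g : E}, g ∈ R ↔ ∀ k, Commute (π k) (π g) := fun {g} => by
    rw [Subgroup.mem_comap, Subgroup.mem_center_iff]
    refine ⟨fun h' k => h' (π k), fun h' q => ?_⟩
    obtain ⟨k, rfl⟩ := QuotientGroup.mk'_surjective B q
    exact h' k
  have hΦR : Φ ≤ R := fun z hz => hmemR.2 fun k => (hcen z hz k).symm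
  have hRne : R ≠ ⊤ := fun htop => hnΦB (Two.frattini_le_elementary (p := p)
    (fun g k => mk_eq_one.1 (by
      rw [map_commutatorElement]
      exact commutatorElement_eq_one_iff_commute.2 (hmemR.1 (htop.ge (Subgroup.mem_top k)) g)))
    fun g => mk_eq_one.1 (by rw [map_pow]; exact hexp g))
  have hRinv : ∀ (α : MulAut E), ∀ z ∈ R, α z ∈ R := fun α z hz => hmemR.2 fun k => by
    have h1 := hmemR.1 hz (α⁻¹ k)
    rw [← commutatorElement_eq_one_iff_commute, ← map_commutatorElement] at h1 ⊢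
    have h2 := hinvB α _ (mk_eq_one.1 h1)
    rw [map_commutatorElement, MulAut.apply_inv_self] at h2
    exact mk_eq_one.2 h2
  have hW3 : Nat.card W ≤ p ^ 2 := by
    have h1 := hbig Φ le_rfl fun g hg k _ =>
      Subgroup.mem_sup_right (Subgroup.commutator_mem_commutator hg (Subgroup.mem_top k))
    rw [hWcard, mul_comm (p ^ 3)] at h1
    have hW3 := Nat.le_of_mul_le_mul_left h1 Nat.card_pos
    by_contra hgt
    have hg : g₁ ∉ Φ := fun hg => by
      have := (hind 1 0 0 (by rw [zpow_one, zpow_zero, zpow_zero, (hco _).1 hg, mul_one, mul_one])).1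
      simp at this
    set T1 := Φ ⊔ Subgroup.zpowers g₁ with hT1
    have hc1 : Nat.card T1 = Nat.card Φ * p := card_adjoin (PGroup.Frattini.pow_mem_frattini hEp g₁) hg
    have hle : T1 ≤ (Subgroup.closure (π '' ({g₁} ∪ (Φ : Set E)))).comap π :=
      sup_le (fun z hz => Subgroup.subset_closure ⟨z, Or.inr hz, rfl⟩)
        (Subgroup.zpowers_le.2 (Subgroup.subset_closure ⟨g₁, Or.inl rfl, rfl⟩))
    have hsc : ∀ q ∈ π '' ({g₁} ∪ (Φ : Set E)), ∀ r ∈ π '' ({g₁} ∪ (Φ : Set E)), Commute q r := by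
      rintro _ ⟨y, hy, rfl⟩ _ ⟨z, hz, rfl⟩
      rcases hy with rfl | hy <;> rcases hz with rfl | hz
      exacts [Commute.refl _, (hcen _ hz _).symm, hcen _ hy _, hcen _ hy _]
    have h2 := hbig T1 le_sup_left fun y hy z hz => mk_eq_one.1 (by
      rw [map_commutatorElement]
      exact commutatorElement_eq_one_iff_commute.2 (closure_commute hsc _ (hle hy) _ (hle hz)))
    rw [hc1, hWcard] at h2
    obtain ⟨j, hj⟩ := IsPGroup.iff_card.1 ((hEp.to_quotient B).to_subgroup W)
    have hj3 : 2 < j := by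
      by_contra hle2
      exact hgt (hj ▸ Nat.pow_le_pow_right hpf.out.pos (by omega))
    rw [hj] at h2
    have h4 : Nat.card B * p ^ 3 * p ≤ Nat.card B * p ^ 3 * 1 := by
      calc Nat.card B * p ^ 3 * p ≤ Nat.card B * p ^ j * p :=
            Nat.mul_le_mul_right _ (Nat.mul_le_mul_left _ (Nat.pow_le_pow_right hpf.out.pos hj3))
        _ ≤ p ^ 3 * Nat.card B := h2
        _ = Nat.card B * p ^ 3 * 1 := by ring
    have := Nat.le_of_mul_le_mul_left h4 (Nat.mul_pos Nat.card_pos (pow_pos hpf.out.pos 3))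
    have := hpf.out.one_lt
    omega
  have hnot1 : Nat.card W ≠ 1 := fun h1 => hnΦB (fun z hz => mk_eq_one.1 (Subgroup.mem_bot.1
    ((Subgroup.eq_bot_of_card_eq _ h1) ▸ Subgroup.mem_map_of_mem π hz)))
  have hWle : Nat.card W ≤ p := by
    obtain ⟨j, hj⟩ := IsPGroup.iff_card.1 ((hEp.to_quotient B).to_subgroup W)
    by_contra hgt
    have hj2 : j = 2 := by
      rw [hj] at hW3 hgt
      have := (Nat.pow_le_pow_iff_right hpf.out.one_lt).1 hW3
      have : 1 < j := by
        by_contra hle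
        exact hgt ((Nat.pow_le_pow_right hpf.out.pos (show j ≤ 1 by omega)).trans_eq (pow_one p))
      omega
    by_cases hPQ : ∀ i k : ℤ, P ^ i * Q ^ k = 1 → (i : ZMod p) = 0 ∧ (k : ZMod p) = 0
    · -- the two commutators with the first generator span
      let θ : ZMod p × ZMod p → W := fun z => ⟨P ^ (z.1.val : ℤ) * Q ^ (z.2.val : ℤ),
        W.mul_mem (W.zpow_mem hPW _) (W.zpow_mem hQW _)⟩
      have hθ : Function.Injective θ := fun z z' he => by
        have he' : P ^ (z.1.val : ℤ) * Q ^ (z.2.val : ℤ) = P ^ (z'.1.val : ℤ) * Q ^ (z'.2.val : ℤ) :=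
          congrArg Subtype.val he
        have h1 := hPQ ((z.1.val : ℤ) - z'.1.val) ((z.2.val : ℤ) - z'.2.val) (by
          have hc := (hWc P hPW Q).zpow_zpow (z'.1.val : ℤ) ((z.2.val : ℤ))
          rw [zpow_sub, zpow_sub, mul_assoc, ← mul_assoc (P ^ (z'.1.val : ℤ))⁻¹, hc.inv_left.eq,
            mul_assoc (Q ^ (z.2.val : ℤ)), ← mul_inv_rev, ← mul_assoc, he',
            ((hWc P hPW Q).zpow_zpow (z'.1.val : ℤ) (z'.2.val : ℤ)).eq, mul_inv_cancel])
        simp only [Int.cast_sub, intCast_val, sub_eq_zero] at h1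
        exact Prod.ext h1.1 h1.2
      obtain ⟨⟨α, β⟩, hαβ⟩ := (hθ.bijective_of_nat_card_le
        (by rw [hj, hj2, Nat.card_prod, Nat.card_zmod, pow_two])).2 ⟨T, hTW⟩
      have hT' : T = P ^ (α.val : ℤ) * Q ^ (β.val : ℤ) := (congrArg Subtype.val hαβ).symm
      refine hgt (hpair (g₂ * g₁ ^ (-(β.val : ℤ))) (g₃ * g₁ ^ (α.val : ℤ)) (fun hh => ?_) (fun hh => ?_) ?_)
      · have h1 := (hco _).1 hh
        rw [map_mul, map_zpow, hVc, ← mul_one (mq E g₁ ^ _ * mq E g₂)] at h1
        have := (hind (-(β.val : ℤ)) 1 0 (by rw [zpow_one, zpow_zero]; exact h1)).2.1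
        simp at this
      · obtain ⟨y, hy, z, hz, hyz⟩ := Subgroup.mem_sup_of_normal_left.1 hh
        obtain ⟨l, rfl⟩ := Subgroup.mem_zpowers_iff.1 hz
        have h1 := congrArg (mq E) hyz
        simp only [map_mul, map_zpow, (hco _).1 hy, one_mul] at h1
        letI : CommGroup (E ⧸ frattini ↥E) := { (inferInstance : Group (E ⧸ frattini ↥E)) with mul_comm := hVc }
        rw [mul_zpow, ← zpow_mul] at h1
        have := (indep_eq hVc hVe hind (i := -(β.val : ℤ) * l) (j := l) (k := 0) (i' := (α.val : ℤ)) (j' := 0)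
          (k' := 1) (by rw [zpow_zero, mul_one, zpow_zero, zpow_one, mul_one, mul_comm, h1, mul_comm])).2.2
        simp at this
      · refine mk_eq_one.1 ?_
        rw [map_commutatorElement, map_mul π g₂, (hmul _ _ _).1, map_mul π g₃, (hmul _ _ _).2, (hmul _ _ _).2, map_zpow,
          map_zpow, (hbil _ _ _).1, (hbil g₂ g₁ _).2,
          commutatorElement_eq_one_iff_commute.2 ((Commute.refl (π g₁)).zpow_zpow (-(β.val : ℤ)) (α.val : ℤ)), mul_one, ← hT, ← hQ, ← commutatorElement_inv (π g₁) (π g₂), ← hP, hT', inv_zpow',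
          zpow_neg Q, mul_assoc (P ^ (α.val : ℤ)), ((hWc _ (W.zpow_mem hQW _) (P ^ (-(α.val : ℤ))))).eq,
          ← mul_assoc (P ^ (α.val : ℤ)),
          ← zpow_add, add_neg_cancel, zpow_zero, one_mul, mul_inv_cancel]
    · push Not at hPQ
      obtain ⟨i, k, hik, hne⟩ := hPQ
      refine hgt (hpair g₁ (g₂ ^ i * g₃ ^ k) (fun hh => ?_) (fun hh => ?_) ?_)
      · have := (hind 1 0 0 (by rw [zpow_one, zpow_zero, zpow_zero, (hco _).1 hh, mul_one, mul_one])).1
        simp at this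
      · obtain ⟨y, hy, z, hz, hyz⟩ := Subgroup.mem_sup_of_normal_left.1 hh
        obtain ⟨l, rfl⟩ := Subgroup.mem_zpowers_iff.1 hz
        have h1 := congrArg (mq E) hyz
        rw [map_mul, map_mul, map_zpow, map_zpow, map_zpow, (hco _).1 hy, one_mul] at h1
        obtain ⟨-, hi, hk⟩ := indep_eq hVc hVe hind (i := l) (j := 0) (k := 0) (i' := 0) (j' := i) (k' := k)
          (by rw [zpow_zero, zpow_zero, zpow_zero, mul_one, mul_one, one_mul]; exact h1)
        exact hne (by simpa using hi.symm) (by simpa using hk.symm)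
      · refine mk_eq_one.1 ?_
        rw [map_commutatorElement, map_mul, (hmul _ _ _).2, map_zpow, map_zpow, (hbil _ _ _).2, (hbil _ _ _).2]
        exact hik
  -- a radical vector
  obtain ⟨r, hrR, hrΦ⟩ : ∃ r ∈ R, r ∉ Φ := by
    have hWeq : ∀ q ∈ W, q ≠ 1 → W = Subgroup.zpowers q := fun q hq hq1 =>
      (Subgroup.eq_of_le_of_card_ge (Subgroup.zpowers_le.2 hq)
        (by rw [Nat.card_zpowers, orderOf_eq_prime (hWp q hq) hq1]; exact hWle)).symm
    have hW1 : W ≠ ⊥ := fun e => hnot1 (by rw [e, Subgroup.card_bot])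
    obtain ⟨⟨q, hq⟩, hq1⟩ := Subgroup.ne_bot_iff_exists_ne_one.1 hW1
    have hW' := hWeq q hq fun e => hq1 (Subtype.ext e)
    obtain ⟨α, hα⟩ := Subgroup.mem_zpowers_iff.1 (hW'.le hPW)
    obtain ⟨β, hβ⟩ := Subgroup.mem_zpowers_iff.1 (hW'.le hQW)
    obtain ⟨γ, hγ⟩ := Subgroup.mem_zpowers_iff.1 (hW'.le hTW)
    refine ⟨g₁ ^ γ * g₂ ^ (-β) * g₃ ^ α, ?_, fun hh => ?_⟩
    · rw [hmemR]
      intro k
      have hbase : ∀ l : E, (l = g₁ ∨ l = g₂ ∨ l = g₃) →
          Commute (π l) (π (g₁ ^ γ * g₂ ^ (-β) * g₃ ^ α)) := by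
        intro l hl
        rw [← commutatorElement_eq_one_iff_commute, map_mul π (g₁ ^ γ * g₂ ^ (-β)), (hmul _ _ _).2,
          map_mul π (g₁ ^ γ), (hmul _ _ _).2, map_zpow, map_zpow, map_zpow, (hbil _ _ _).2,
          (hbil _ _ _).2, (hbil _ _ _).2]
        rcases hl with rfl | rfl | rfl
        · rw [commutatorElement_self, one_zpow, one_mul, ← hP, ← hQ, ← hα, ← hβ, ← zpow_mul, ← zpow_mul, ← zpow_add,
            show α * -β + β * α = 0 by ring, zpow_zero]
        · rw [commutatorElement_self, one_zpow, mul_one, ← commutatorElement_inv (π g₁), ← hP, ← hT, ← hα, ← hγ,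
            ← zpow_neg, ← zpow_mul, ← zpow_mul, ← zpow_add, show -α * γ + γ * α = 0 by ring, zpow_zero]
        · rw [commutatorElement_self, one_zpow, mul_one, ← commutatorElement_inv (π g₁), ← hQ,
            ← commutatorElement_inv (π g₂), ← hT, ← hβ, ← hγ, ← zpow_neg, ← zpow_neg, ← zpow_mul, ← zpow_mul,
            ← zpow_add, show -β * γ + -γ * -β = 0 by ring, zpow_zero]
      obtain ⟨i, j, l, hijl⟩ := hgen k
      have hk : (g₁ ^ i * g₂ ^ j * g₃ ^ l)⁻¹ * k ∈ Φ :=
        QuotientGroup.eq.1 (show mq E (g₁ ^ i * g₂ ^ j * g₃ ^ l) = mq E k by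
          rw [map_mul, map_mul, map_zpow, map_zpow, map_zpow, hijl])
      rw [← mul_inv_cancel_left (g₁ ^ i * g₂ ^ j * g₃ ^ l) k, map_mul π, map_mul π, map_mul π, map_zpow, map_zpow,
        map_zpow]
      exact ((((hbase g₁ (Or.inl rfl)).zpow_left i).mul_left ((hbase g₂ (Or.inr (Or.inl rfl))).zpow_left j)).mul_left
        ((hbase g₃ (Or.inr (Or.inr rfl))).zpow_left l)).mul_left (hcen _ hk _)
    · have h1 := (hco _).1 hh
      rw [map_mul, map_mul, map_zpow, map_zpow, map_zpow] at h1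
      obtain ⟨hγ0, hβ0, hα0⟩ := hind _ _ _ h1
      have hz : ∀ {m : ℤ}, (m : ZMod p) = 0 → q ^ m = 1 := fun {m} hm => by
        rw [zpow_congr (hWp q hq) (j := 0) (by simpa using hm), zpow_zero]
      rw [Int.cast_neg, neg_eq_zero] at hβ0
      refine hRne (eq_top_iff.2 fun k _ => hmemR.2 fun l => ?_)
      have hbase : ∀ s ∈ ({π g₁, π g₂, π g₃} ∪ π '' (Φ : Set E) : Set (E ⧸ B)),
          ∀ t ∈ ({π g₁, π g₂, π g₃} ∪ π '' (Φ : Set E) : Set (E ⧸ B)), Commute s t := by
        have c12 : Commute (π g₁) (π g₂) := commutatorElement_eq_one_iff_commute.1 (hα.symm.trans (hz hα0))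
        have c13 : Commute (π g₁) (π g₃) := commutatorElement_eq_one_iff_commute.1 (hβ.symm.trans (hz hβ0))
        have c23 : Commute (π g₂) (π g₃) := commutatorElement_eq_one_iff_commute.1 (hγ.symm.trans (hz hγ0))
        rintro s ((rfl | rfl | rfl) | ⟨s, hs, rfl⟩) t ((rfl | rfl | rfl) | ⟨t, ht, rfl⟩)
        exacts [Commute.refl _, c12, c13, (hcen _ ht _).symm, c12.symm, Commute.refl _, c23, (hcen _ ht _).symm,
          c13.symm, c23.symm, Commute.refl _, (hcen _ ht _).symm, hcen _ hs _, hcen _ hs _, hcen _ hs _, hcen _ hs _]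
      have hmem : ∀ e : E, π e ∈ Subgroup.closure ({π g₁, π g₂, π g₃} ∪ π '' (Φ : Set E)) := by
        intro e
        obtain ⟨i, j, m, hijm⟩ := hgen e
        have he : (g₁ ^ i * g₂ ^ j * g₃ ^ m)⁻¹ * e ∈ Φ :=
          QuotientGroup.eq.1 (show mq E (g₁ ^ i * g₂ ^ j * g₃ ^ m) = mq E e by
            rw [map_mul, map_mul, map_zpow, map_zpow, map_zpow, hijm])
        rw [← mul_inv_cancel_left (g₁ ^ i * g₂ ^ j * g₃ ^ m) e, map_mul π, map_mul π, map_mul π, map_zpow, map_zpow,
          map_zpow]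
        have hs1 : π g₁ ∈ Subgroup.closure ({π g₁, π g₂, π g₃} ∪ π '' (Φ : Set E)) :=
          Subgroup.subset_closure (Or.inl (by simp))
        have hs2 : π g₂ ∈ Subgroup.closure ({π g₁, π g₂, π g₃} ∪ π '' (Φ : Set E)) :=
          Subgroup.subset_closure (Or.inl (by simp))
        have hs3 : π g₃ ∈ Subgroup.closure ({π g₁, π g₂, π g₃} ∪ π '' (Φ : Set E)) :=
          Subgroup.subset_closure (Or.inl (by simp))
        exact Subgroup.mul_mem _ (Subgroup.mul_mem _ (Subgroup.mul_mem _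
          (Subgroup.zpow_mem _ hs1 i) (Subgroup.zpow_mem _ hs2 j)) (Subgroup.zpow_mem _ hs3 m))
          (Subgroup.subset_closure (Or.inr ⟨_, he, rfl⟩))
      exact closure_commute hbase _ (hmem l) _ (hmem k)
  rcases dichotomy h with hT' | hJ
  swap
  · exact hrΦ (not_caseJ_of_char h hJ R hΦR (fun α _ => hRinv α) hRne hrR)
  -- a transvection
  obtain ⟨x, u, v, w, f, a, b, D⟩ := exists_tdata h hT'
  obtain ⟨σ, -, hσu, hσv, hσw⟩ := D.swap
  have hindD := indep_of_gen hVc hVe h.quotient_card (a := mq E u) (b := mq E v) (c := mq E w) fun z => by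
    obtain ⟨e, rfl⟩ := QuotientGroup.mk'_surjective Φ z
    exact D.gen e
  have hRq : ∀ {g k : E}, mq E g = mq E k → g ∈ R → k ∈ R := fun {g k} hgk hg => by
    have := R.mul_mem hg (hΦR (QuotientGroup.eq.1 hgk))
    rwa [mul_inv_cancel_left] at this
  have hwR : w ∈ R := by
    have hsw : ∀ {i j k : ℤ} {g : E}, mq E g = mq E u ^ i * mq E v ^ j * mq E w ^ k →
        mq E (σ g) = mq E u ^ (-j) * mq E v ^ i * mq E w ^ k := fun {i j k g} hg => by
      letI : CommGroup (E ⧸ frattini ↥E) := { (inferInstance : Group (E ⧸ frattini ↥E)) with mul_comm := hVc }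
      have h1 : mq E g = mq E (u ^ i * v ^ j * w ^ k) := by rw [hg, map_mul, map_mul, map_zpow, map_zpow, map_zpow]
      have h2 : mq E (σ g) = mq E (σ (u ^ i * v ^ j * w ^ k)) := by
        refine QuotientGroup.eq.2 ?_
        rw [← map_inv, ← map_mul]
        exact hinvΦ σ _ (QuotientGroup.eq.1 h1)
      rw [h2, map_mul σ, map_mul σ, map_zpow σ, map_zpow σ, map_zpow σ, map_mul (mq E), map_mul (mq E),
        map_zpow (mq E), map_zpow (mq E), map_zpow (mq E), hσu,
        hσv, hσw, inv_zpow', mul_comm (mq E v ^ i)]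
    letI : CommGroup (E ⧸ frattini ↥E) := { (inferInstance : Group (E ⧸ frattini ↥E)) with mul_comm := hVc }
    obtain ⟨i, j, k, hr⟩ := D.gen r
    by_cases hk : (k : ZMod p) = 0
    · -- the plane of `u` and `v` is radical
      rw [zpow_congr (hVe _) (j := 0) (i := k) (by simpa using hk), zpow_zero, mul_one] at hr
      have hvR : v ∈ R := by
        have hxr := R.mul_mem (R.inv_mem hrR) (hRinv ((autHom F h.le x : F.autGroup E) : MulAut E) r hrR)
        have hxq : mq E (r⁻¹ * ((autHom F h.le x : F.autGroup E) : MulAut E) r) = mq E (v ^ i) := by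
          have h1 : mq E r = mq E (u ^ i * v ^ j) := by rw [hr, map_mul, map_zpow, map_zpow]
          have h2 : mq E (((autHom F h.le x : F.autGroup E) : MulAut E) r) =
              mq E (((autHom F h.le x : F.autGroup E) : MulAut E) (u ^ i * v ^ j)) := by
            refine QuotientGroup.eq.2 ?_
            rw [← map_inv, ← map_mul]
            exact hinvΦ _ _ (QuotientGroup.eq.1 h1)
          rw [map_mul, map_inv, h2, h1, map_mul (((autHom F h.le x : F.autGroup E) : MulAut E)), map_zpow, map_zpow,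
            map_mul, map_mul, map_zpow, map_zpow, map_zpow, map_zpow, D.actu, D.actv, mul_zpow, map_zpow]
          rw [mul_comm (mq E u ^ i) (mq E v ^ i), mul_assoc, inv_mul_eq_iff_eq_mul, mul_comm (mq E u ^ i * _)]
        have hvi : v ^ i ∈ R := hRq hxq hxr
        by_cases hi : (i : ZMod p) = 0
        · rw [zpow_congr (hVe _) (i := i) (j := 0) (by simpa using hi), zpow_zero, one_mul, ← map_zpow] at hr
          refine mem_of_zpow_mem (p := p) (hΦR (PGroup.Frattini.pow_mem_frattini hEp v)) (hRq hr hrR) fun hj => ?_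
          refine hrΦ ((hco r).2 ?_)
          rw [hr, map_zpow, zpow_congr (hVe _) (j := 0) (by simpa using hj), zpow_zero]
        · exact mem_of_zpow_mem (p := p) (hΦR (PGroup.Frattini.pow_mem_frattini hEp v)) hvi hi
      have huR : u ∈ R := by
        have h1 := hRinv σ v hvR
        have := R.inv_mem (hRq (k := u⁻¹) (by rw [hσv, map_inv]) h1)
        rwa [inv_inv] at this
      refine hmemR.2 fun g => ?_
      obtain ⟨i, j, l, hg⟩ := D.gen g
      have hg' : (u ^ i * v ^ j * w ^ l)⁻¹ * g ∈ Φ :=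
        QuotientGroup.eq.1 (show mq E (u ^ i * v ^ j * w ^ l) = mq E g by
          rw [map_mul, map_mul, map_zpow, map_zpow, map_zpow, hg])
      rw [← mul_inv_cancel_left (u ^ i * v ^ j * w ^ l) g, map_mul π, map_mul π, map_mul π, map_zpow, map_zpow,
        map_zpow]
      exact ((((hmemR.1 huR w).symm.zpow_left i).mul_left ((hmemR.1 hvR w).symm.zpow_left j)).mul_left
        ((Commute.refl (π w)).zpow_left l)).mul_left (hcen _ hg' w)
    · have h1 := hsw (hsw hr)
      have h2 : mq E (r * σ (σ r)) = mq E (w ^ (2 * k)) := by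
        rw [map_mul, h1, hr, map_zpow, two_mul, zpow_add]
        simp only [zpow_neg]
        rw [mul_mul_mul_comm, mul_mul_mul_comm (mq E u ^ i), mul_inv_cancel, mul_inv_cancel, one_mul, one_mul]
      refine mem_of_zpow_mem (p := p) (hΦR (PGroup.Frattini.pow_mem_frattini hEp w))
        (hRq h2 (R.mul_mem hrR (hRinv σ _ (hRinv σ r hrR)))) ?_
      push_cast
      refine mul_ne_zero ?_ hk
      intro h2'
      have h3 : ((2 : ℕ) : ZMod p) = 0 := by exact_mod_cast h2'
      rw [ZMod.natCast_eq_zero_iff] at h3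
      have := Nat.le_of_dvd two_pos h3
      have := h.hp
      omega
  -- a section of rank four in the normalizer
  haveI : Finite (normalizerIn S E) := finite_of_le_base normalizerIn_le
  have hEN : E ≤ (normalizerIn S E) := le_normalizerIn h.le
  let ι := Subgroup.inclusion hEN
  set BN := B.map ι with hBN
  have hιmem : ∀ {e : E}, ι e ∈ BN ↔ e ∈ B := fun {e} =>
    ⟨fun ⟨y, hy, he⟩ => Subgroup.inclusion_injective hEN he ▸ hy, fun he => ⟨e, he, rfl⟩⟩
  haveI : BN.Normal := ⟨by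
    rintro _ ⟨e, he, rfl⟩ n
    exact ⟨_, hinvB ((autHom F h.le n : F.autGroup E) : MulAut E) e he, Subtype.ext (by simp [ι])⟩⟩
  set τ := QuotientGroup.mk' BN with hτ
  have hτι : ∀ {e k : E}, Commute (π e) (π k) → Commute (τ (ι e)) (τ (ι k)) := fun {e k} hek => mk_commute (by
    rw [← commutatorElement_eq_one_iff_commute, ← map_commutatorElement, mk_eq_one] at hek
    rw [← map_commutatorElement]
    exact hιmem.2 hek)
  have hτp : ∀ e : E, τ (ι e) ^ p = 1 := fun e => by
    rw [← map_pow, ← map_pow]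
    exact mk_eq_one.2 (hιmem.2 (Subgroup.mem_sup_left (Subgroup.subset_closure ⟨e, rfl⟩)))
  set c := ⁅u, v⁆ with hc
  have hcB : c ∉ B := by
    intro hc'
    refine hRne (eq_top_iff.2 fun k _ => hmemR.2 fun l => ?_)
    have hwall := hmemR.1 hwR
    have huv : Commute (π u) (π v) := mk_commute hc'
    have hbase : ∀ s ∈ ({π u, π v, π w} ∪ π '' (Φ : Set E) : Set (E ⧸ B)),
        ∀ t ∈ ({π u, π v, π w} ∪ π '' (Φ : Set E) : Set (E ⧸ B)), Commute s t := by
      rintro s ((rfl | rfl | rfl) | ⟨s, hs, rfl⟩) t ((rfl | rfl | rfl) | ⟨t, ht, rfl⟩)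
      exacts [Commute.refl _, huv, hwall u, (hcen _ ht _).symm, huv.symm, Commute.refl _, hwall v,
        (hcen _ ht _).symm, (hwall u).symm, (hwall v).symm, Commute.refl _, (hcen _ ht _).symm, hcen _ hs _,
        hcen _ hs _, hcen _ hs _, hcen _ hs _]
    have hmem : ∀ e : E, π e ∈ Subgroup.closure ({π u, π v, π w} ∪ π '' (Φ : Set E)) := by
      intro e
      obtain ⟨i, j, m, hijm⟩ := D.gen e
      have he : (u ^ i * v ^ j * w ^ m)⁻¹ * e ∈ Φ :=
        QuotientGroup.eq.1 (show mq E (u ^ i * v ^ j * w ^ m) = mq E e by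
          rw [map_mul, map_mul, map_zpow, map_zpow, map_zpow, hijm])
      rw [← mul_inv_cancel_left (u ^ i * v ^ j * w ^ m) e, map_mul π, map_mul π, map_mul π, map_zpow, map_zpow,
        map_zpow]
      have hs1 : π u ∈ Subgroup.closure ({π u, π v, π w} ∪ π '' (Φ : Set E)) :=
        Subgroup.subset_closure (Or.inl (by simp))
      have hs2 : π v ∈ Subgroup.closure ({π u, π v, π w} ∪ π '' (Φ : Set E)) :=
        Subgroup.subset_closure (Or.inl (by simp))
      have hs3 : π w ∈ Subgroup.closure ({π u, π v, π w} ∪ π '' (Φ : Set E)) :=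
        Subgroup.subset_closure (Or.inl (by simp))
      exact Subgroup.mul_mem _ (Subgroup.mul_mem _ (Subgroup.mul_mem _
        (Subgroup.zpow_mem _ hs1 i) (Subgroup.zpow_mem _ hs2 j)) (Subgroup.zpow_mem _ hs3 m))
        (Subgroup.subset_closure (Or.inr ⟨_, he, rfl⟩))
    exact closure_commute hbase _ (hmem l) _ (hmem k)
  have hcΦ : c ∈ Φ := hcom u v
  have hWgen : ∀ z ∈ Φ, ∃ i : ℤ, π z = π c ^ i := fun z hz => by
    have hne : π c ≠ 1 := fun e => hcB (mk_eq_one.1 e)
    have hWc' : W = Subgroup.zpowers (π c) := (Subgroup.eq_of_le_of_card_ge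
      (Subgroup.zpowers_le.2 (Subgroup.mem_map_of_mem π hcΦ))
      (by rw [Nat.card_zpowers, orderOf_eq_prime (hexp c) hne]; exact hWle)).symm
    obtain ⟨i, hi⟩ := Subgroup.mem_zpowers_iff.1 (hWc'.le (Subgroup.mem_map_of_mem π hz))
    exact ⟨i, hi.symm⟩
  -- the factor of order `p` is central in the normalizer
  have hΦc : ∀ z ∈ Φ, ∀ n : (normalizerIn S E), Commute (τ (ι z)) (τ n) := by
    intro z hz n
    let α : MulAut E := ((autHom F h.le n : F.autGroup E) : MulAut E)
    obtain ⟨k, hk⟩ := h.autHom_pow n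
    have hshift := SmallEssential.shift_small hEp (K := B) (L := Φ) hBΦ (by
        rw [Subgroup.relIndex]
        have h1 := Subgroup.card_mul_index (B.subgroupOf Φ)
        rw [Nat.card_congr (Subgroup.subgroupOfEquivOfLe hBΦ).toEquiv, hWcard] at h1
        rw [Nat.eq_of_mul_eq_mul_left Nat.card_pos h1]
        exact hWle) hk (hinvB α) (hinvΦ α) hz
    have h1 : τ (ι z) = τ (n * ι z * n⁻¹) := mk_eq_iff.2 (by
      rw [show (ι z)⁻¹ * (n * ι z * n⁻¹) = ι (z⁻¹ * α z) from Subtype.ext (by simp [ι, α, mul_assoc])]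
      exact hιmem.2 hshift)
    rw [map_mul, map_mul, map_inv] at h1
    exact (eq_mul_inv_iff_mul_eq.1 h1)
  obtain ⟨β, -, hβe, hβu, hβv, hβw⟩ := D.torus
  have hf : ∀ e : E, f (e : Ω) = (β e : E) := fun e => (hβe e).symm
  let fh : (normalizerIn S E) →* (normalizerIn S E) := MonoidHom.mk' (fun g => ⟨f g, D.maps g g.2⟩) fun g y => Subtype.ext (D.fn.map_mul g.2 y.2)
  have hfι : ∀ e : E, fh (ι e) = ι (β e) := fun e => Subtype.ext (hf e)
  have hfB : ∀ g ∈ BN, fh g ∈ BN := by
    rintro _ ⟨e, he, rfl⟩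
    rw [hfι]
    exact hιmem.2 (hinvB β e he)
  set F' := QuotientGroup.map BN BN fh (fun g hg => hfB g hg) with hF'
  have hF : ∀ g : (normalizerIn S E), F' (τ g) = τ (fh g) := fun g => rfl
  set C := τ (ι c) with hC
  have hCp : C ^ p = 1 := hτp c
  have hC1 : C ≠ 1 := fun e => hcB (hιmem.1 (mk_eq_one.1 e))
  have hCall : ∀ n : (normalizerIn S E), Commute C (τ n) := hΦc c hcΦ
  have hτΦ : ∀ z ∈ Φ, ∃ i : ℤ, τ (ι z) = C ^ i := fun z hz => by
    obtain ⟨i, hi⟩ := hWgen z hz
    refine ⟨i, ?_⟩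
    rw [← map_zpow π] at hi
    rw [hC, ← map_zpow, ← map_zpow]
    refine (mk_eq_iff.2 ?_).symm
    rw [← map_inv, ← map_mul]
    exact hιmem.2 (mk_eq_iff.1 hi.symm)
  have hvw : Commute (τ (ι v)) (τ (ι w)) := hτι (hmemR.1 hwR v)
  have hwu : Commute (τ (ι u)) (τ (ι w)) := hτι (hmemR.1 hwR u)
  have hsplit : ∀ {e k : E}, mq E e = mq E k → ∃ i : ℤ, τ (ι e) = τ (ι k) * C ^ i := fun {e k} hek => by
    obtain ⟨i, hi⟩ := hτΦ _ (QuotientGroup.eq.1 hek.symm)
    exact ⟨i, by rw [← hi, ← map_mul, ← map_mul, mul_inv_cancel_left]⟩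
  have hFC : F' C = C := by
    obtain ⟨i, hi⟩ := hsplit (show mq E (β u) = mq E (u ^ b) by rw [hβu, map_zpow])
    obtain ⟨j, hj⟩ := hsplit (show mq E (β v) = mq E (v ^ a) by rw [hβv, map_zpow])
    have hCi : ∀ (i : ℤ) (n : (normalizerIn S E)), ⁅C ^ i, τ n⁆ = 1 := fun i n =>
      commutatorElement_eq_one_iff_commute.2 ((hCall n).zpow_left i)
    have hCi' : ∀ (i : ℤ) (n : (normalizerIn S E)), ⁅τ n, C ^ i⁆ = 1 := fun i n =>
      commutatorElement_eq_one_iff_commute.2 ((hCall n).zpow_left i).symm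
    have hCuv : C = ⁅τ (ι u), τ (ι v)⁆ := by rw [hC, hc, map_commutatorElement, map_commutatorElement]
    conv_lhs => rw [hCuv, map_commutatorElement, hF, hF, hfι, hfι, hi, hj]
    rw [Two.comm_left_trivial (commutatorElement_eq_one_iff_commute.2
      (((hCall _).zpow_left i).mul_right ((Commute.refl C).zpow_zpow i j))),
      Two.comm_right_trivial (hCi' j _), map_zpow ι, map_zpow τ, map_zpow ι, map_zpow τ,
      comm_zpow_left (by
        rw [comm_zpow_right (by rw [← hCuv]; exact (hCall _).symm), ← hCuv]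
        exact ((hCall _).zpow_left a).symm),
      comm_zpow_right (by rw [← hCuv]; exact (hCall _).symm), ← hCuv, ← zpow_mul]
    conv_rhs => rw [← zpow_one C]
    refine zpow_congr hCp ?_
    rw [D.hab, Int.cast_one]
  set n : ℤ := a * a with hn
  obtain ⟨z, hz, hfx⟩ := D.fx
  obtain ⟨j₀, k₀, hz'⟩ := (mem_plane h).1 hz
  obtain ⟨i₀, hzτ⟩ := hsplit (show mq E z = mq E (v ^ j₀ * w ^ k₀) by rw [hz', map_mul, map_zpow, map_zpow])
  have hfxN : fh x = x ^ n * ι z := Subtype.ext (hfx.trans (by simp [ι, hn]))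
  have hzC : ∀ {g : (normalizerIn S E)}, Commute (τ g) (τ (ι v)) → Commute (τ g) (τ (ι w)) → Commute (τ g) (τ (ι z)) :=
    fun {g} h1 h2 => by
      rw [hzτ, map_mul, map_mul, map_zpow, map_zpow, map_zpow, map_zpow]
      exact ((h1.zpow_right j₀).mul_right (h2.zpow_right k₀)).mul_right ((hCall g).symm.zpow_right i₀)
  have hweight : ∀ {g : (normalizerIn S E)} {i m : ℤ}, τ g = C ^ i → F' (τ g) = (C ^ i) ^ m → (m : ZMod p) ≠ 1 → τ g = 1 := by
    intro g i m hg hFg hm
    rw [hg]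
    exact weight hCp (n := 1) (by rw [← hFg, hg, map_zpow, hFC, zpow_one]) (by simpa using hm)
  have hcomm : ∀ (y : E) (m : ℤ), mq E (β y) = mq E y ^ m → Commute (τ (ι v)) (τ (ι y)) →
      Commute (τ (ι w)) (τ (ι y)) → ⁅x, ι y⁆ ∈ Φ.map ι → ((n * m : ℤ) : ZMod p) ≠ 1 → Commute (τ x) (τ (ι y)) := by
    intro y m hβy hvy hwy hΦy hm
    obtain ⟨d, hd, hde⟩ := hΦy
    obtain ⟨i, hi⟩ := hτΦ d hd
    rw [hde] at hi
    obtain ⟨l, hl⟩ := hsplit (show mq E (β y) = mq E (y ^ m) by rw [hβy, map_zpow])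
    rw [← commutatorElement_eq_one_iff_commute, ← map_commutatorElement]
    refine hweight hi (m := m * n) ?_ (by rw [mul_comm]; exact hm)
    rw [hF, map_commutatorElement fh, map_commutatorElement τ, hfxN, hfι, hl, map_mul τ,
      Two.comm_left_trivial (commutatorElement_eq_one_iff_commute.2 (by
        refine ((hzC ?_ ?_).symm.mul_right ((hCall (ι z)).symm.zpow_right l))
        · rw [map_zpow, map_zpow]; exact hvy.symm.zpow_left m
        · rw [map_zpow, map_zpow]; exact hwy.symm.zpow_left m)),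
      Two.comm_right_trivial (commutatorElement_eq_one_iff_commute.2 ((hCall _).symm.zpow_right l)), map_zpow ι,
      map_zpow τ, map_zpow τ, comm_zpow_right (by
        rw [comm_zpow_left (by rw [← map_commutatorElement, hi]; exact ((hCall x).zpow_left i).symm),
          ← map_commutatorElement, hi]
        exact (((hCall _).zpow_left i).zpow_left n).symm),
      comm_zpow_left (by rw [← map_commutatorElement, hi]; exact ((hCall x).zpow_left i).symm),
      ← map_commutatorElement, hi, ← zpow_mul, ← zpow_mul, ← zpow_mul, mul_comm m n, mul_assoc]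
  have hΦy : ∀ y : E, mq E (((autHom F h.le x : F.autGroup E) : MulAut E) y) = mq E y → ⁅x, ι y⁆ ∈ Φ.map ι :=
    fun y hy => ⟨((autHom F h.le x : F.autGroup E) : MulAut E) y * y⁻¹,
      (Subgroup.Normal.mem_comm_iff inferInstance).1 (QuotientGroup.eq.1 hy.symm),
      Subtype.ext (by simp [ι, commutatorElement_def])⟩
  have hxv : Commute (τ x) (τ (ι v)) :=
    hcomm v a hβv (Commute.refl _) hvw.symm (hΦy v D.actv) (by
      rw [hn]; push_cast; intro e; exact D.ha3 (by rw [pow_succ, pow_two]; exact e))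
  have hxw : Commute (τ x) (τ (ι w)) :=
    hcomm w 1 (by rw [hβw, zpow_one]) hvw (Commute.refl _) (hΦy w D.actw) (by
      rw [hn]; push_cast; intro e; exact D.ha2 (by rw [pow_two]; simpa using e))
  have hxp : τ x ^ p = 1 := by
    obtain ⟨d, hd, hde⟩ := D.pow_mem_phi h x.2
    have hde' : x ^ p = ι d := Subtype.ext hde.symm
    obtain ⟨i, hi⟩ := hτΦ d hd
    rw [← hde', map_pow] at hi
    rw [← map_pow]
    refine hweight (g := x ^ p) (by rw [map_pow]; exact hi) (m := n) ?_ ?_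
    · rw [hF, map_pow fh, map_pow τ, hfxN, map_mul, ((hzC hxv hxw).zpow_left n |> fun hh => by
          rw [map_zpow]; exact hh : Commute (τ (x ^ n)) (τ (ι z))).mul_pow, hτp, mul_one, map_zpow,
        ← zpow_natCast, ← zpow_mul, mul_comm n, zpow_mul, zpow_natCast, hi]
    · rw [hn]; push_cast; intro e; exact D.ha2 (by rw [pow_two]; exact e)
  -- counting
  set T0 := Φ.map ι with hT0
  have hT0c : Nat.card T0 = Nat.card B * Nat.card W := by
    rw [hT0, Subgroup.card_map_of_injective (Subgroup.inclusion_injective hEN), hWcard]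
  have hWp2 : p ≤ Nat.card W := by
    obtain ⟨j, hj⟩ := IsPGroup.iff_card.1 ((hEp.to_quotient B).to_subgroup W)
    rw [hj]
    exact Nat.le_self_pow (fun e => hnot1 (by rw [hj, e, pow_zero])) p
  have hNp : IsPGroup p (normalizerIn S E) := h.hS.to_le normalizerIn_le
  set T1 := T0 ⊔ Subgroup.zpowers (ι v) with hT1
  set T2 := T1 ⊔ Subgroup.zpowers (ι w) with hT2
  set T3 := T2 ⊔ Subgroup.zpowers x with hT3
  have hιinj := Subgroup.inclusion_injective hEN
  have h01 : T0 < T1 := lt_of_le_not_ge le_sup_left fun hle => by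
    obtain ⟨d, hd, hde⟩ := hle (Subgroup.mem_sup_right (Subgroup.mem_zpowers _))
    have h1 := (hco v).1 (hιinj hde ▸ hd)
    have := (hindD 0 1 0 (by rw [zpow_one, zpow_zero, zpow_zero, h1, mul_one, mul_one])).2.1
    simp at this
  have hT1le : T1 ≤ ((Subgroup.zpowers (mq E v)).comap (mq E)).map ι := sup_le
    (Subgroup.map_mono fun z hz => Subgroup.mem_comap.2 ((hco z).1 hz ▸ one_mem _))
    (Subgroup.zpowers_le.2 ⟨v, Subgroup.mem_comap.2 (Subgroup.mem_zpowers _), rfl⟩)
  have h12 : T1 < T2 := lt_of_le_not_ge le_sup_left fun hle => by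
    obtain ⟨d, hd, hde⟩ := hT1le (hle (Subgroup.mem_sup_right (Subgroup.mem_zpowers _)))
    rw [hιinj hde] at hd
    obtain ⟨l, hl⟩ := Subgroup.mem_zpowers_iff.1 (Subgroup.mem_comap.1 hd)
    have := (indep_eq hVc hVe hindD (i := 0) (j := l) (k := 0) (i' := 0) (j' := 0) (k' := 1) (by
      rw [zpow_zero, zpow_zero, zpow_zero, one_mul, mul_one, one_mul, one_mul, zpow_one]; exact hl)).2.2
    simp at this
  have h23 : T2 < T3 := lt_of_le_not_ge le_sup_left fun hle => by
    have hT2le : T2 ≤ (⊤ : Subgroup E).map ι := sup_le (sup_le (Subgroup.map_mono le_top)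
      (Subgroup.zpowers_le.2 ⟨v, Subgroup.mem_top _, rfl⟩)) (Subgroup.zpowers_le.2 ⟨w, Subgroup.mem_top _, rfl⟩)
    obtain ⟨d, -, hde⟩ := hT2le (hle (Subgroup.mem_sup_right (Subgroup.mem_zpowers x)))
    exact D.notMem ((congrArg Subtype.val hde) ▸ d.2)
  have hc3 : Nat.card B * p ^ 4 ≤ Nat.card T3 := by
    have e1 := CfsgLib.Fusion.MaxClass.card_mul_le_of_lt hNp h01
    have e2 := CfsgLib.Fusion.MaxClass.card_mul_le_of_lt hNp h12
    have e3 := CfsgLib.Fusion.MaxClass.card_mul_le_of_lt hNp h23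
    calc Nat.card B * p ^ 4 = p * (p * (p * (Nat.card B * p))) := by ring
      _ ≤ p * (p * (p * Nat.card T0)) := by rw [hT0c]; gcongr
      _ ≤ p * (p * Nat.card T1) := by gcongr
      _ ≤ p * Nat.card T2 := by gcongr
      _ ≤ Nat.card T3 := e3
  set s : Set ((normalizerIn S E) ⧸ BN) := τ '' ({x, ι v, ι w} ∪ (T0 : Set (normalizerIn S E))) with hs
  have hmem : ∀ g ∈ T3, τ g ∈ Subgroup.closure s := by
    have hle : T3 ≤ (Subgroup.closure s).comap τ :=
      sup_le (sup_le (sup_le (fun g hg => Subgroup.subset_closure ⟨g, Or.inr hg, rfl⟩)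
        (Subgroup.zpowers_le.2 (Subgroup.subset_closure ⟨ι v, Or.inl (by simp), rfl⟩)))
        (Subgroup.zpowers_le.2 (Subgroup.subset_closure ⟨ι w, Or.inl (by simp), rfl⟩)))
        (Subgroup.zpowers_le.2 (Subgroup.subset_closure ⟨x, Or.inl (by simp), rfl⟩))
    exact fun g hg => hle hg
  have hsc : ∀ q ∈ s, ∀ r ∈ s, Commute q r := by
    have hT : ∀ g ∈ T0, ∀ n : (normalizerIn S E), Commute (τ g) (τ n) := by
      rintro _ ⟨d, hd, rfl⟩ n
      exact hΦc d hd n
    rintro _ ⟨y, hy, rfl⟩ _ ⟨y', hy', rfl⟩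
    rcases hy with (rfl | rfl | rfl) | hy <;> rcases hy' with (rfl | rfl | rfl) | hy'
    exacts [Commute.refl _, hxv, hxw, (hT _ hy' _).symm, hxv.symm, Commute.refl _, hvw, (hT _ hy' _).symm,
      hxw.symm, hvw.symm, Commute.refl _, (hT _ hy' _).symm, hT _ hy _, hT _ hy _, hT _ hy _, hT _ hy _]
  have hse : ∀ q ∈ s, q ^ p = 1 := by
    rintro _ ⟨y, (rfl | rfl | rfl) | hy, rfl⟩
    · exact hxp
    · exact hτp v
    · exact hτp w
    · obtain ⟨d, -, rfl⟩ := hy
      exact hτp d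
  have hBT : BN ≤ T3 :=
    (Subgroup.map_mono hBΦ).trans (le_sup_left.trans (le_sup_left.trans le_sup_left))
  have h5 := (h.hr.of_injective (Subgroup.inclusion (normalizerIn_le : (normalizerIn S E) ≤ S)) (Subgroup.inclusion_injective _))
    T3 BN hBT
    (fun g hg k hk => mk_eq_one.1 (by
      rw [map_commutatorElement]
      exact commutatorElement_eq_one_iff_commute.2 (closure_commute hsc _ (hmem g hg) _ (hmem k hk))))
    (fun g hg => mk_eq_one.1 (by rw [map_pow]; exact closure_pow hsc hse _ (hmem g hg)))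
  rw [hBN, Subgroup.card_map_of_injective hιinj] at h5
  have h6 : Nat.card B * p ^ 4 ≤ Nat.card B * p ^ 3 := (hc3.trans h5).trans_eq (mul_comm _ _)
  have h7 := Nat.le_of_mul_le_mul_left h6 Nat.card_pos
  have := (Nat.pow_le_pow_iff_right hpf.out.one_lt).1 h7
  omega

end CfsgLib.Fsys.RankThree
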