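import Cfsg.Agent.Lib.FusionSystem.RankThree.Setup

/-! Passing to a conjugate with fully normalized normalizer. -/

set_option autoImplicit false
set_option linter.unusedSectionVars false
set_option linter.style.haveILetI false

open Cfsg Cfsg.FusionSystem
open scoped commutatorElement

namespace CfsgLib.Fsys.RankThree

universe u

variable {p : ℕ} [hp : Fact p.Prime]

theorem stronglyPEmbedded_map {X X' : Type*} [Group X] [Finite X] [Group X'] [Finite X'] (e : X ≃* X')
    {Y : Subgroup X} (h : IsStronglyPEmbedded p Y) : IsStronglyPEmbedded p (Y.map e.toMonoidHom) := by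
  obtain ⟨hd, hne, T, hT⟩ := h
  refine ⟨(Nat.card_congr e.toEquiv) ▸ hd, fun h => hne ?_, ?_⟩
  · rw [← Subgroup.map_top_of_surjective e.toMonoidHom e.surjective] at h
    exact Subgroup.map_injective e.injective h
  have hT' : IsPGroup p ((T : Subgroup X).map e.toMonoidHom) := T.2.map _
  obtain ⟨T', hT''⟩ := hT'.exists_le_sylow
  refine ⟨T', ?_⟩
  have heq : ((T : Subgroup X).map e.toMonoidHom) = (T' : Subgroup X') := by
    refine le_antisymm hT'' fun z hz => ?_
    have h1 : (T' : Subgroup X').comap e.toMonoidHom = T :=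
      T.3 (T'.2.comap_of_injective _ e.injective) (Subgroup.map_le_iff_le_comap.1 hT'')
    exact ⟨e.symm z, h1 ▸ (show e (e.symm z) ∈ (T' : Subgroup X') by rwa [e.apply_symm_apply]),
      e.apply_symm_apply z⟩
  rw [kGeneratedCore_one_le_iff T'.2]
  intro Q hQ hQne z hz
  refine ⟨e.symm z, (kGeneratedCore_one_le_iff T.2).1 hT (Q.comap e.toMonoidHom) ?_ ?_ ?_, e.apply_symm_apply z⟩
  · intro q hq
    obtain ⟨t, ht, hte⟩ := heq.ge (hQ hq)
    rwa [← e.injective hte]
  · intro hbot
    refine hQne ((Subgroup.eq_bot_iff_forall _).2 fun q hq => ?_)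
    have : e.symm q ∈ Q.comap e.toMonoidHom := show e (e.symm q) ∈ Q by rwa [e.apply_symm_apply]
    rw [hbot, Subgroup.mem_bot] at this
    rw [← e.apply_symm_apply q, this, map_one]
  · rw [Subgroup.mem_normalizer_iff]
    intro q
    rw [Subgroup.mem_comap, Subgroup.mem_comap]
    simpa using Subgroup.mem_normalizer_iff.1 hz (e q)

variable {Ω : Type u} [Group Ω] {S : Subgroup Ω} [Finite S] {F : FusionSystem S} {E : Subgroup Ω}

/-- The image under an isomorphism of the normalizer onto a fully normalized subgroup. -/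
theorem exists_good_conj (h : Hyp p F E) :
    ∃ E' : Subgroup Ω, Hyp p F E' ∧ Nat.card (normalizerIn S E') = Nat.card (normalizerIn S E) ∧
      F.IsFullyNormalized (normalizerIn S E') := by
  classical
  haveI := h.finite
  set N := normalizerIn S E with hN
  obtain ⟨N', hN', hfn⟩ := exists_fullyNormalized (F := F) (P := N) normalizerIn_le
  obtain ⟨f, hf, rfl⟩ := isConj_iff.1 hN'
  have hEN : E ≤ N := le_normalizerIn h.le
  set E' := img f E with hE'
  have hconjE : F.IsConj E E' := isConj_of_fn (hf.mono hEN)
  have hE'S : E' ≤ S := isConj_le_right hconjE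
  have hle : img f N ≤ normalizerIn S E' := img_le fun n hn => hf.map_normalizer hEN rfl hn hn.2
  have hcard : Nat.card (normalizerIn S E') = Nat.card N := by
    refine le_antisymm (h.hE.2.1.2 E' hconjE) ?_
    rw [← hf.card_img]
    haveI := finite_of_le_base (normalizerIn_le (S := S) (P := E'))
    exact Subgroup.card_le_of_le hle
  have heq : img f N = normalizerIn S E' :=
    eq_of_le_of_card normalizerIn_le hle (by rw [hcard, hf.card_img])
  obtain ⟨e, -, hmap⟩ := exists_transport h.le (hf.mono hEN) (rfl : img f E = E')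
  haveI := finite_of_le_base hE'S
  -- the image is essential
  have hEss : F.IsEssential p E' := by
    refine ⟨⟨hE'S, fun Q hQ => h.hE.1.2 Q (isConj_trans hconjE hQ)⟩, ⟨hE'S, fun Q hQ => ?_⟩, ?_⟩
    · rw [hcard]
      exact h.hE.2.1.2 Q (isConj_trans hconjE hQ)
    · obtain ⟨hn, Y, hY⟩ := h.hE.2.2
      have hn' : ((Inn E').subgroupOf (F.autGroup E')).Normal := inn_normal_aut
      refine ⟨hn', ?_⟩
      let A := F.autGroup E
      let A' := F.autGroup E'
      let φ : A ≃* A' := ((MulAut.congr e).subgroupMap A).trans (MulEquiv.subgroupCongr hmap)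
      have hInn : ((Inn E).subgroupOf A).map φ.toMonoidHom = (Inn E').subgroupOf A' := by
        ext a
        constructor
        · rintro ⟨b, hb, rfl⟩
          obtain ⟨g, hg⟩ := Subgroup.mem_subgroupOf.1 hb
          refine Subgroup.mem_subgroupOf.2 ⟨e g, MulEquiv.ext fun z => ?_⟩
          show e g * z * (e g)⁻¹ = e ((b : MulAut E) (e.symm z))
          rw [← hg]
          simp
        · intro ha
          obtain ⟨g, hg⟩ := Subgroup.mem_subgroupOf.1 ha
          refine ⟨φ.symm a, Subgroup.mem_subgroupOf.2 ⟨e.symm g, MulEquiv.ext fun z => ?_⟩, φ.apply_symm_apply a⟩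
          apply e.injective
          show e (e.symm g * z * (e.symm g)⁻¹) = e ((φ.symm a : MulAut E) z)
          have h1 : e ((φ.symm a : MulAut E) (e.symm (e z))) = (((φ (φ.symm a) : A') : MulAut E')) (e z) := rfl
          rw [e.symm_apply_apply, φ.apply_symm_apply, ← hg] at h1
          rw [h1]
          simp
      let ψ := QuotientGroup.congr ((Inn E).subgroupOf A) ((Inn E').subgroupOf A') φ hInn
      exact ⟨_, stronglyPEmbedded_map ψ hY⟩
  have hidx : (frattini ↥E').index = p ^ 3 := by
    have hmapΦ : (frattini ↥E).map e.toMonoidHom = frattini ↥E' := by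
      refine le_antisymm ?_ ?_
      · rw [Subgroup.map_le_iff_le_comap]
        exact LocalEven.Residual.frattini_le (p := p)
          (fun a b => by
            rw [Subgroup.mem_comap, map_commutatorElement]
            exact PGroup.Frattini.commutatorElement_mem_frattini (h.hS.to_le hE'S) _ _)
          fun a => by
            rw [Subgroup.mem_comap, map_pow]
            exact PGroup.Frattini.pow_mem_frattini (h.hS.to_le hE'S) _
      · refine LocalEven.Residual.frattini_le (p := p) (fun a b => ?_) fun a => ?_
        · refine ⟨⁅e.symm a, e.symm b⁆, PGroup.Frattini.commutatorElement_mem_frattini h.pgroup _ _, ?_⟩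
          rw [map_commutatorElement]
          simp
        · refine ⟨(e.symm a) ^ p, PGroup.Frattini.pow_mem_frattini h.pgroup _, ?_⟩
          simp
    rw [← hmapΦ, Subgroup.index_map_eq _ e.surjective (by rw [(MonoidHom.ker_eq_bot_iff _).2 e.injective]; exact bot_le)]
    exact h.hrk
  exact ⟨E', ⟨h.hp, h.hS, h.hr, h.hF, hEss, hidx⟩, hcard, heq ▸ hfn⟩

end CfsgLib.Fsys.RankThree
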