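import Cfsg.Agent.Lib.FusionSystem.RankThree.TwoFrame

/-! The shape of the exceptional two generator configuration. -/

set_option autoImplicit false
set_option linter.unusedSectionVars false
set_option linter.style.haveILetI false

open scoped commutatorElement

namespace CfsgLib.Fsys.RankThree.Two

variable {G : Type*} [Group G]

theorem normal_sup_central {K : Subgroup G} [K.Normal] {z : G}
    (h : ∀ g, Commute (QuotientGroup.mk' K z) (QuotientGroup.mk' K g)) : (K ⊔ Subgroup.zpowers z).Normal := by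
  refine ⟨fun y hy g => ?_⟩
  obtain ⟨k, hk, q, hq, rfl⟩ := Subgroup.mem_sup_of_normal_left.1 hy
  obtain ⟨i, rfl⟩ := Subgroup.mem_zpowers_iff.1 hq
  rw [show g * (k * z ^ i) * g⁻¹ = g * k * g⁻¹ * (⁅g, z ^ i⁆ * z ^ i) by simp [commutatorElement_def, mul_assoc]]
  refine Subgroup.mul_mem _ (Subgroup.mem_sup_left ((inferInstance : K.Normal).conj_mem k hk g))
    (Subgroup.mul_mem _ (Subgroup.mem_sup_left (mk_eq_one.1 ?_))
      (Subgroup.mem_sup_right (Subgroup.zpow_mem _ (Subgroup.mem_zpowers z) i)))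
  rw [map_commutatorElement, map_zpow, commutatorElement_eq_one_iff_commute]
  exact ((h g).symm.zpow_right i)

theorem comap_commute {H : Subgroup G} {s : Set G} (hH : H ≤ Subgroup.closure s) {K : Subgroup G} [K.Normal] {g : G}
    (h : ∀ a ∈ s, Commute (QuotientGroup.mk' K a) (QuotientGroup.mk' K g)) :
    ∀ z ∈ H, Commute (QuotientGroup.mk' K z) (QuotientGroup.mk' K g) := by
  intro z hz
  have := hH hz
  clear hz
  induction this using Subgroup.closure_induction with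
  | mem y hy => exact h y hy
  | one => rw [map_one]; exact Commute.one_left _
  | mul y z _ _ ihy ihz => rw [map_mul]; exact ihy.mul_left ihz
  | inv y _ ih => rw [map_inv]; exact ih.inv_left

namespace Data

variable [Finite G] {p : ℕ} [hpf : Fact p.Prime] {E Φ : Subgroup G} {x u v : G} {f : MulAut G} {a b : ℤ}
  (D : Data p G E Φ x u v f a b)
include D

theorem gens_top : (⊤ : Subgroup G) ≤ Subgroup.closure ({x} ∪ ({u, v} ∪ (⁅E, E⁆ : Subgroup G))) := by
  intro g _
  obtain ⟨i, hi⟩ := D.exists_zpow g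
  rw [← mul_inv_cancel_left (x ^ i) g]
  have hx : x ∈ Subgroup.closure ({x} ∪ ({u, v} ∪ (⁅E, E⁆ : Subgroup G)) : Set G) :=
    Subgroup.subset_closure (Or.inl rfl)
  exact Subgroup.mul_mem _ (Subgroup.zpow_mem _ hx i) (Subgroup.closure_mono Set.subset_union_right (D.gens hi))

theorem commute_all {K : Subgroup G} [K.Normal] {z : G}
    (hx : Commute (QuotientGroup.mk' K z) (QuotientGroup.mk' K x))
    (hE : ∀ g ∈ E, Commute (QuotientGroup.mk' K z) (QuotientGroup.mk' K g)) (g : G) :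
    Commute (QuotientGroup.mk' K z) (QuotientGroup.mk' K g) := by
  obtain ⟨i, hi⟩ := D.exists_zpow g
  rw [← mul_inv_cancel_left (x ^ i) g, map_mul, map_zpow]
  exact (hx.zpow_right i).mul_right (hE _ hi)

theorem conj_xu : x * u * x⁻¹ = u * v * ((u * v)⁻¹ * (x * u * x⁻¹)) := (mul_inv_cancel_left _ _).symm

theorem conj_xv : x * v * x⁻¹ = v * (v⁻¹ * (x * v * x⁻¹)) := (mul_inv_cancel_left _ _).symm

theorem a_ne_b : (a : ZMod p) ≠ b := fun e => D.ha2 (by
  have := D.ab_one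
  rw [← e] at this
  rw [pow_two]
  exact this)

theorem b_ne_sq : (b : ZMod p) ≠ ((a * a : ℤ) : ZMod p) := fun e => D.ha3 (by
  have := D.ab_one
  rw [e] at this
  push_cast at this
  rw [pow_succ, pow_two, mul_assoc]
  exact this)

theorem a_ne_sq : (a : ZMod p) ≠ ((a * a : ℤ) : ZMod p) := fun e => D.one_ne_a (by
  push_cast at e
  have ha0 : (a : ZMod p) ≠ 0 := fun e0 => by
    have := D.ab_one
    rw [e0, zero_mul] at this
    exact zero_ne_one this
  exact (mul_left_cancel₀ ha0 (by rw [mul_one]; exact e)).symm)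

theorem sq_ne_one : ((a * a : ℤ) : ZMod p) ≠ 1 := fun e => D.ha2 (by push_cast at e; rw [pow_two]; exact e)

variable {c e w : G} (R : Frame p E x u v f a b c e w)
include R

theorem e_mem : e ∈ g3 E := R.ce ▸ Subgroup.commutator_mem_commutator R.cmem D.vE

theorem w_mem : w ∈ g3 E := R.cw ▸ Subgroup.commutator_mem_commutator R.cmem D.uE

theorem c_mem : c ∈ E := by
  haveI := D.normal
  exact g2_le R.cmem

theorem e_notMem : e ∉ g4 E := fun he => by
  have := (R.ind3 0 1 (by simpa using he)).2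
  simp at this

theorem commute4 : ∀ z ∈ g3 E, ∀ g ∈ E,
    haveI := D.normal
    Commute (QuotientGroup.mk' (g4 E) z) (QuotientGroup.mk' (g4 E) g) := fun z hz g hg => by
  haveI := D.normal
  exact mk_commute (Subgroup.commutator_mem_commutator hz hg)

theorem normal_K : (g4 E ⊔ Subgroup.zpowers e).Normal := by
  haveI := D.normal
  exact normal_sup_central (D.commute_all (mk_commute (mem_swap R.xe))
    fun g hg => D.commute4 R e (D.e_mem R) g hg)

theorem w_notMem : w ∉ g4 E ⊔ Subgroup.zpowers e := fun hw => by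
  haveI := D.normal
  obtain ⟨y, hy, z, hz, hyz⟩ := Subgroup.mem_sup_of_normal_left.1 hw
  obtain ⟨j, rfl⟩ := Subgroup.mem_zpowers_iff.1 hz
  have hmem : w ^ (1 : ℤ) * e ^ (-j) ∈ g4 E := by
    rw [zpow_one, ← hyz, zpow_neg, mul_inv_cancel_right]
    exact hy
  have := (R.ind3 1 (-j) hmem).1
  simp at this

theorem card3 : Nat.card (g3 E) = Nat.card (g4 E) * p ^ 2 := by
  haveI := D.normal
  haveI := D.normal_K R
  rw [pow_two, ← mul_assoc, ← card_adjoin R.ep (D.e_notMem R),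
    ← card_adjoin (Subgroup.mem_sup_left R.wp) (D.w_notMem R)]
  exact congrArg (fun H : Subgroup G => Nat.card H) (le_antisymm R.gen3
    (sup_le (sup_le g4_le (Subgroup.zpowers_le.2 (D.e_mem R))) (Subgroup.zpowers_le.2 (D.w_mem R))))

/-- The commutators of the outer element. -/
theorem outer : ⁅x, c⁆ ∈ g4 E ∧ ⁅x, v⁆ ∈ g3 E ∧ ⁅x, v⁆ ∉ g4 E ⊔ Subgroup.zpowers e := by
  haveI := D.normal
  haveI hK : (g4 E ⊔ Subgroup.zpowers e).Normal := D.normal_K R
  set K := g4 E ⊔ Subgroup.zpowers e with hKdef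
  have hΦ := D.phi_eq
  have hn := D.fx
  rw [hΦ] at hn
  have hva := D.fv
  rw [hΦ] at hva
  set n : ℤ := a * a with hndef
  set φ := (x ^ n)⁻¹ * f x with hφ
  set φ' := (v ^ a)⁻¹ * f v with hφ'
  have hfx : f x = x ^ n * φ := (mul_inv_cancel_left _ _).symm
  have hfv : f v = v ^ a * φ' := (mul_inv_cancel_left _ _).symm
  have hK3 : K ≤ g3 E := sup_le g4_le (Subgroup.zpowers_le.2 (D.e_mem R))
  have h4K : g4 E ≤ K := le_sup_left
  set τ := QuotientGroup.mk' K with hτ
  have hτ4 : ∀ {g : G}, g ∈ g4 E → τ g = 1 := fun hg => mk_eq_one.2 (h4K hg)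
  have hew : τ e = 1 := mk_eq_one.2 (Subgroup.mem_sup_right (Subgroup.mem_zpowers e))
  have hwp : τ w ^ p = 1 := by rw [← map_pow]; exact hτ4 R.wp
  have hwx : Commute (τ w) (τ x) := by
    refine (mk_commute ?_).symm
    rw [show ⁅x, w⁆ = e * (e⁻¹ * ⁅x, w⁆) by rw [mul_inv_cancel_left]]
    exact K.mul_mem (Subgroup.mem_sup_right (Subgroup.mem_zpowers e)) (h4K R.xw)
  have hwE : ∀ g ∈ E, Commute (τ w) (τ g) := fun g hg =>
    mk_commute (h4K (Subgroup.commutator_mem_commutator (D.w_mem R) hg))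
  have hwall : ∀ g, Commute (τ w) (τ g) := D.commute_all hwx hwE
  have hτ3 : ∀ z ∈ g3 E, ∃ j : ℤ, τ z = τ w ^ j := fun z hz => by
    obtain ⟨y, hy, q, hq, rfl⟩ := Subgroup.mem_sup_of_normal_left.1 (R.gen3 hz)
    obtain ⟨j, rfl⟩ := Subgroup.mem_zpowers_iff.1 hq
    exact ⟨j, by rw [map_mul, mk_eq_one.2 hy, one_mul, map_zpow]⟩
  have hfK : ∀ g ∈ K, f g ∈ K := by
    intro g hg
    obtain ⟨y, hy, q, hq, rfl⟩ := Subgroup.mem_sup_of_normal_left.1 hg
    obtain ⟨j, rfl⟩ := Subgroup.mem_zpowers_iff.1 hq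
    rw [map_mul, map_zpow]
    refine K.mul_mem (h4K (D.f_g4 _ hy)) (K.zpow_mem ?_ j)
    rw [show f e = e ^ a * ((e ^ a)⁻¹ * f e) by rw [mul_inv_cancel_left]]
    exact K.mul_mem (Subgroup.mem_sup_right (Subgroup.zpow_mem _ (Subgroup.mem_zpowers e) a)) (h4K R.fe)
  have hfτ : ∀ {g h : G}, τ g = τ h → τ (f g) = τ (f h) := fun {g h} hgh => by
    refine mk_eq_iff.2 ?_
    rw [← map_inv, ← map_mul]
    exact hfK _ (mk_eq_iff.1 hgh)
  have hfw : ∀ {g : G} {j : ℤ}, τ g = τ w ^ j → τ (f g) = (τ w ^ j) ^ b := fun {g j} hg => by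
    rw [hfτ (h := w ^ j) (by rw [hg, map_zpow]), map_zpow f, map_zpow,
      show τ (f w) = τ w ^ b by rw [← map_zpow]; exact (mk_eq_iff.2 (h4K R.fw)).symm,
      ← zpow_mul, ← zpow_mul, mul_comm]
  have hweight : ∀ {g : G} {j m : ℤ}, τ g = τ w ^ j → τ (f g) = (τ w ^ j) ^ m → (b : ZMod p) ≠ (m : ZMod p) →
      g ∈ K := fun {g j m} hg hfg hne => mk_eq_one.1 (by
    show τ g = 1
    rw [hg]
    exact weight hwp (by rw [← hfw hg, hfg]) hne)
  -- the second factor
  set π := QuotientGroup.mk' (g3 E) with hπ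
  have hcp3 : π c ^ p = 1 := by rw [← map_pow]; exact mk_eq_one.2 (g4_le R.cp)
  have hcE : ∀ g ∈ E, Commute (π c) (π g) := fun g hg => mk_commute (Subgroup.commutator_mem_commutator R.cmem hg)
  have hcall : ∀ g, Commute (π c) (π g) := D.commute_all (mk_commute (mem_swap R.xc)) hcE
  have hπ2 : ∀ z ∈ ⁅E, E⁆, ∃ i : ℤ, π z = π c ^ i := fun z hz => by
    obtain ⟨y, hy, q, hq, rfl⟩ := Subgroup.mem_sup_of_normal_left.1 (R.gen2 hz)
    obtain ⟨i, rfl⟩ := Subgroup.mem_zpowers_iff.1 hq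
    exact ⟨i, by rw [map_mul, mk_eq_one.2 hy, one_mul, map_zpow]⟩
  have hπ2all : ∀ z ∈ ⁅E, E⁆, ∀ g, Commute (π z) (π g) := fun z hz g => by
    obtain ⟨i, hi⟩ := hπ2 z hz
    rw [hi]; exact (hcall g).zpow_left i
  have hfc : π (f c) = π c := (mk_eq_iff.2 (g4_le R.fc)).symm
  have hfπ : ∀ {g : G} {i : ℤ}, π g = π c ^ i → π (f g) = π c ^ i := fun {g i} hg => by
    have h1 : (c ^ i)⁻¹ * g ∈ g3 E := mk_eq_iff.1 (by rw [map_zpow]; exact hg.symm)
    have h2 := D.f_g3 _ h1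
    rw [map_mul, map_inv] at h2
    have h3 : π (f (c ^ i)) = π (f g) := mk_eq_iff.2 h2
    rw [← h3, map_zpow, map_zpow, hfc]
  have hweight3 : ∀ {g : G} {i m : ℤ}, π g = π c ^ i → π (f g) = (π c ^ i) ^ m → (m : ZMod p) ≠ 1 →
      g ∈ g3 E := fun {g i m} hg hfg hne => mk_eq_one.1 (by
    show π g = 1
    rw [hg]
    exact weight hcp3 (n := 1) (by rw [← hfg, zpow_one, hfπ hg]) (by simpa using hne))
  -- `⁅x, c⁆`
  have hxcK : ⁅x, c⁆ ∈ K := by
    obtain ⟨j, hj⟩ := hτ3 _ R.xc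
    refine hweight hj (m := n) ?_ D.b_ne_sq
    have hfc' : τ (f c) = τ c := (mk_eq_iff.2 (h4K R.fc)).symm
    rw [map_commutatorElement f, map_commutatorElement τ, hfc', hfx, map_mul,
      comm_left_trivial (by rw [← map_commutatorElement]; exact hτ4 (comm22 (Subgroup.commutator_mem_commutator hn R.cmem))),
      map_zpow, comm_zpow_left (by rw [← map_commutatorElement, hj]; exact (hwx.zpow_left j).symm),
      ← map_commutatorElement, hj]
  set σ := QuotientGroup.mk' (g4 E) with hσ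
  have hex : Commute (σ e) (σ x) := mk_commute (mem_swap R.xe)
  have hep : σ e ^ p = 1 := by rw [← map_pow]; exact mk_eq_one.2 R.ep
  have hxc4 : ⁅x, c⁆ ∈ g4 E := by
    obtain ⟨y, hy, q, hq, hyq⟩ := Subgroup.mem_sup_of_normal_left.1 hxcK
    obtain ⟨i, rfl⟩ := Subgroup.mem_zpowers_iff.1 hq
    have hi : σ ⁅x, c⁆ = σ e ^ i := by rw [← hyq, map_mul, mk_eq_one.2 hy, one_mul, map_zpow]
    have hfe : σ (f ⁅x, c⁆) = (σ e ^ i) ^ a := by
      have h2 : σ (f y) = 1 := mk_eq_one.2 (D.f_g4 _ hy)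
      rw [← hyq, map_mul f, map_mul σ, h2, one_mul, map_zpow f, map_zpow σ,
        show σ (f e) = σ e ^ a by rw [← map_zpow]; exact (mk_eq_iff.2 R.fe).symm, ← zpow_mul, ← zpow_mul, mul_comm]
    have hfn : σ (f ⁅x, c⁆) = (σ e ^ i) ^ n := by
      rw [map_commutatorElement f, map_commutatorElement σ, show σ (f c) = σ c from (mk_eq_iff.2 R.fc).symm, hfx,
        map_mul, comm_left_trivial (by
          rw [← map_commutatorElement]; exact mk_eq_one.2 (comm22 (Subgroup.commutator_mem_commutator hn R.cmem))),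
        map_zpow, comm_zpow_left (by rw [← map_commutatorElement, hi]; exact (hex.zpow_left i).symm),
        ← map_commutatorElement, hi]
    refine mk_eq_one.1 ?_
    show σ ⁅x, c⁆ = 1
    rw [hi]
    exact weight hep (by rw [← hfe, hfn]) D.a_ne_sq
  -- `⁅x, v⁆`
  have hxv2 : ⁅x, v⁆ ∈ ⁅E, E⁆ := by
    have h1 := D.xv
    rw [hΦ] at h1
    rw [show ⁅x, v⁆ = v * (v⁻¹ * (x * v * x⁻¹)) * v⁻¹ by rw [commutatorElement_def]; group]
    exact (inferInstance : (⁅E, E⁆ : Subgroup G).Normal).conj_mem _ h1 v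
  have hxv3 : ⁅x, v⁆ ∈ g3 E := by
    obtain ⟨i, hi⟩ := hπ2 _ hxv2
    have h5 : ⁅x ^ n, v⁆ ∈ ⁅E, E⁆ := mk_eq_one.1 (by
      rw [map_commutatorElement, map_zpow, commutatorElement_eq_one_iff_commute]
      exact Commute.zpow_left (mk_commute hxv2) n)
    refine hweight3 hi (m := a * n) ?_ ?_
    · rw [map_commutatorElement f, map_commutatorElement π, hfx, hfv, map_mul π (x ^ n), map_mul π (v ^ a),
        comm_left_trivial (commutatorElement_eq_one_iff_commute.2 (by
          rw [← map_mul]; exact hπ2all φ hn _)),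
        comm_right_trivial (commutatorElement_eq_one_iff_commute.2 ((hπ2all φ' hva _).symm)),
        map_zpow, map_zpow, comm_zpow_right (by
          rw [← map_zpow π x, ← map_commutatorElement]
          exact (hπ2all _ h5 _).symm),
        comm_zpow_left (by rw [← map_commutatorElement, hi]; exact ((hcall x).zpow_left i).symm),
        ← map_commutatorElement, hi, ← zpow_mul, ← zpow_mul, ← zpow_mul, mul_comm a n, mul_assoc]
    · push_cast
      rw [hndef]
      push_cast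
      intro h3
      exact D.ha3 (by rw [pow_succ, pow_two, mul_assoc]; exact h3)
  refine ⟨hxc4, hxv3, fun hxvK => ?_⟩
  -- otherwise a section of rank four appears
  have hpK : ∀ z ∈ ⁅E, E⁆, Commute (τ z) (τ x) ∧ Commute (τ z) (τ v) ∧ τ z ^ p = 1 := by
    intro z hz
    obtain ⟨y, hy, q, hq, rfl⟩ := Subgroup.mem_sup_of_normal_left.1 (R.gen2 hz)
    obtain ⟨i, rfl⟩ := Subgroup.mem_zpowers_iff.1 hq
    obtain ⟨j, hj⟩ := hτ3 y hy
    have hcx : Commute (τ c) (τ x) := mk_commute (mem_swap (h4K hxc4))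
    have hcv : Commute (τ c) (τ v) := mk_commute (by
      rw [← R.ce]; exact Subgroup.mem_sup_right (Subgroup.mem_zpowers e))
    rw [map_mul, map_zpow, hj]
    refine ⟨(hwx.zpow_left j).mul_left (hcx.zpow_left i), ((hwall v).zpow_left j).mul_left (hcv.zpow_left i), ?_⟩
    rw [((hwall c).zpow_zpow j i).mul_pow, ← zpow_natCast, ← zpow_natCast, ← zpow_mul, ← zpow_mul, mul_comm j,
      mul_comm i, zpow_mul, zpow_mul, zpow_natCast, zpow_natCast, hwp, ← map_pow, hτ4 R.cp, one_zpow, one_zpow,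
      one_mul]
  set π2 := QuotientGroup.mk' ⁅E, E⁆ with hπ2'
  have hvp2 : ∀ g ∈ E, π2 g ^ p = 1 := fun g hg => by rw [← map_pow]; exact mk_eq_one.2 (hΦ ▸ D.phiPow g hg)
  have hvall2 : ∀ g, Commute (π2 v) (π2 g) :=
    D.commute_all (mk_commute hxv2).symm fun g hg => mk_commute (Subgroup.commutator_mem_commutator D.vE hg)
  have hvp : v ^ p ∈ K := by
    obtain ⟨j, hj⟩ := hτ3 _ R.vp
    refine hweight hj (m := a) ?_ D.a_ne_b.symm
    rw [map_pow f, map_pow τ, hfv, map_mul, ((hpK φ' hva).2.1.symm.zpow_left a |> fun h => by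
      rw [map_zpow]; exact h : Commute (τ (v ^ a)) (τ φ')).mul_pow, (hpK φ' hva).2.2, mul_one, map_zpow,
      ← zpow_natCast, ← zpow_mul, mul_comm a, zpow_mul, zpow_natCast, ← map_pow, hj]
  have hxp : x ^ p ∈ K := by
    have h0 : π2 (x ^ p) = 1 := by
      obtain ⟨i, j, hij⟩ := D.gen _ (D.pow_mem x)
      rw [hΦ] at hij
      have hxp2 : π2 (x ^ p) = π2 u ^ i * π2 v ^ j := by
        rw [← map_zpow, ← map_zpow, ← map_mul]; exact (mk_eq_iff.2 hij).symm
      have hxu2 : (u * v)⁻¹ * (x * u * x⁻¹) ∈ ⁅E, E⁆ := hΦ ▸ D.xu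
      have hu : π2 x * π2 u * (π2 x)⁻¹ = π2 u * π2 v := by
        rw [← map_inv, ← map_mul, ← map_mul, D.conj_xu, map_mul π2 (u * v), mk_eq_one.2 hxu2, mul_one,
          map_mul]
      have hfix : π2 x * π2 (x ^ p) * (π2 x)⁻¹ = π2 (x ^ p) := by
        rw [map_pow, (Commute.self_pow (π2 x) p).eq, mul_inv_cancel_right]
      rw [hxp2, show π2 x * (π2 u ^ i * π2 v ^ j) * (π2 x)⁻¹ =
          (π2 x * π2 u ^ i * (π2 x)⁻¹) * (π2 x * π2 v ^ j * (π2 x)⁻¹) by group,
        ← conj_zpow, hu, ((hvall2 u).symm).mul_zpow, ((hvall2 x).zpow_left j).symm.eq, mul_inv_cancel_right,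
        mul_assoc, mul_right_inj, mul_eq_right, ← map_zpow] at hfix
      have hi0 := (D.ind 0 i (by rw [zpow_zero, one_mul, hΦ]; exact mk_eq_one.1 hfix)).2
      rw [zpow_congr (hvp2 u D.uE) (j := 0) (by simpa using hi0), zpow_zero, one_mul] at hxp2
      have h2 : π2 (f (x ^ p)) = (π2 v ^ j) ^ a := by
        have h1 : (v ^ j)⁻¹ * x ^ p ∈ ⁅E, E⁆ := mk_eq_iff.1 (by rw [map_zpow]; exact hxp2.symm)
        have h1' := inv_comm D.fE D.fE _ h1
        rw [map_mul, map_inv] at h1'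
        have h1'' : π2 (f (v ^ j)) = π2 (f (x ^ p)) := mk_eq_iff.2 h1'
        rw [← h1'', map_zpow, map_zpow, hfv, map_mul, mk_eq_one.2 hva, mul_one, map_zpow, ← zpow_mul,
          ← zpow_mul, mul_comm]
      have h3 : π2 (f (x ^ p)) = (π2 v ^ j) ^ n := by
        rw [map_pow f, map_pow π2, hfx, map_mul, mk_eq_one.2 hn, mul_one, map_zpow, ← zpow_natCast, ← zpow_mul,
          mul_comm n, zpow_mul, zpow_natCast, ← map_pow, hxp2]
      rw [hxp2]
      exact weight (hvp2 v D.vE) (h2.symm.trans h3) D.a_ne_sq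
    have hm2 : x ^ p ∈ ⁅E, E⁆ := mk_eq_one.1 h0
    obtain ⟨i, hi⟩ := hπ2 _ hm2
    have hm3 : x ^ p ∈ g3 E := by
      refine hweight3 hi (m := n) ?_ D.sq_ne_one
      have hφp : π φ ^ p = 1 := by
        obtain ⟨l, hl⟩ := hπ2 φ hn
        rw [hl, ← zpow_natCast, ← zpow_mul, mul_comm, zpow_mul, zpow_natCast, hcp3, one_zpow]
      rw [map_pow f, map_pow π, hfx, map_mul, (hπ2all φ hn _).symm.mul_pow, hφp, mul_one, map_zpow,
        ← zpow_natCast, ← zpow_mul, mul_comm n, zpow_mul, zpow_natCast, ← map_pow, hi]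
    obtain ⟨j, hj⟩ := hτ3 _ hm3
    refine hweight hj (m := n) ?_ D.b_ne_sq
    rw [map_pow f, map_pow τ, hfx, map_mul, ((hpK φ hn).1.symm.zpow_left n |> fun h => by
      rw [map_zpow]; exact h : Commute (τ (x ^ n)) (τ φ)).mul_pow, (hpK φ hn).2.2, mul_one, map_zpow,
      ← zpow_natCast, ← zpow_mul, mul_comm n, zpow_mul, zpow_natCast, ← map_pow, hj]
  set H1 := ⁅E, E⁆ ⊔ Subgroup.zpowers v with hH1
  haveI hH1n : H1.Normal := normal_sup_central hvall2
  set H2 := H1 ⊔ Subgroup.zpowers x with hH2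
  have hv2 : v ∉ ⁅E, E⁆ := hΦ ▸ D.v_notMem
  have hH1E : H1 ≤ E := sup_le g2_le (Subgroup.zpowers_le.2 D.vE)
  have hxp1 : x ^ p ∈ H1 := Subgroup.mem_sup_left (g3_le (hK3 hxp))
  have hcard : Nat.card H2 = Nat.card (⁅E, E⁆ : Subgroup G) * p * p := by
    rw [card_adjoin hxp1 (fun hx => D.xE (hH1E hx)), card_adjoin (hΦ ▸ D.phiPow v D.vE) hv2]
  set s : Set (G ⧸ K) := τ '' ({x, v} ∪ (⁅E, E⁆ : Subgroup G)) with hs
  have hmem : ∀ g ∈ H2, τ g ∈ Subgroup.closure s := by
    have hle : H2 ≤ (Subgroup.closure s).comap τ :=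
      sup_le (sup_le (fun g hg => Subgroup.subset_closure ⟨g, Or.inr hg, rfl⟩)
        (Subgroup.zpowers_le.2 (Subgroup.subset_closure ⟨v, Or.inl (Or.inr rfl), rfl⟩)))
        (Subgroup.zpowers_le.2 (Subgroup.subset_closure ⟨x, Or.inl (Or.inl rfl), rfl⟩))
    exact fun g hg => hle hg
  have hcomm : ∀ q ∈ s, ∀ r ∈ s, Commute q r := by
    have hxv : Commute (τ x) (τ v) := mk_commute hxvK
    rintro _ ⟨g, hg, rfl⟩ _ ⟨h, hh, rfl⟩
    rcases hg with (rfl | rfl) | hg <;> rcases hh with (rfl | rfl) | hh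
    exacts [Commute.refl _, hxv, (hpK h hh).1.symm, hxv.symm, Commute.refl _, (hpK h hh).2.1.symm, (hpK g hg).1,
      (hpK g hg).2.1, mk_commute (h4K (comm22 (Subgroup.commutator_mem_commutator hg hh)))]
  have hexp : ∀ q ∈ s, q ^ p = 1 := by
    rintro _ ⟨g, (rfl | rfl) | hg, rfl⟩
    · rw [← map_pow]; exact mk_eq_one.2 hxp
    · rw [← map_pow]; exact mk_eq_one.2 hvp
    · exact (hpK g hg).2.2
  have hKH : K ≤ H2 := (hK3.trans g3_le).trans (le_sup_left.trans le_sup_left)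
  have h1 := D.hr H2 K hKH
    (fun g hg h hh => mk_eq_one.1 (by
      rw [map_commutatorElement]
      exact commutatorElement_eq_one_iff_commute.2 (closure_commute hcomm _ (hmem g hg) _ (hmem h hh))))
    (fun g hg => mk_eq_one.1 (by rw [map_pow]; exact closure_pow hcomm hexp _ (hmem g hg)))
  have hKc : Nat.card (g3 E) = Nat.card K * p := by
    rw [← card_adjoin (Subgroup.mem_sup_left R.wp) (D.w_notMem R)]
    exact congrArg (fun H : Subgroup G => Nat.card H) (le_antisymm R.gen3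
      (sup_le hK3 (Subgroup.zpowers_le.2 (D.w_mem R))))
  rw [hcard, R.card2, hKc] at h1
  have h2 : p ^ 3 * Nat.card K < Nat.card K * p * p * p * p := by
    rw [show Nat.card K * p * p * p * p = p ^ 3 * Nat.card K * p by ring]
    exact lt_mul_of_one_lt_right (Nat.mul_pos (pow_pos hpf.out.pos 3) Nat.card_pos) hpf.out.one_lt
  exact absurd h1 h2.not_ge

/-- The fourth term vanishes. -/
theorem g4_bot : g4 E = ⊥ := by
  haveI := D.normal
  set ρ := QuotientGroup.mk' (g5 E) with hρ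
  have h5 : ∀ z ∈ g4 E, ∀ g ∈ E, Commute (ρ z) (ρ g) := fun z hz g hg =>
    mk_commute (Subgroup.commutator_mem_commutator hz hg)
  have h23 : ∀ z ∈ g3 E, ∀ y ∈ ⁅E, E⁆, Commute (ρ y) (ρ z) := fun z hz y hy =>
    mk_commute (comm23 (Subgroup.commutator_mem_commutator hy hz))
  have h33 : ∀ z ∈ g3 E, ∀ y ∈ g3 E, Commute (ρ z) (ρ y) := fun z hz y hy => h23 y hy z (g3_le hz)
  have h34 : ∀ z ∈ g3 E, ∀ g ∈ E, ⁅z, g⁆ ∈ g4 E := fun z hz g hg => Subgroup.commutator_mem_commutator hz hg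
  have hcpow : ∀ g ∈ E, ρ ⁅c, g⁆ ^ p = 1 := fun g hg => by
    rw [← zpow_natCast, map_commutatorElement ρ, ← comm_zpow_left (by
        rw [← map_commutatorElement]
        exact h23 _ (Subgroup.commutator_mem_commutator R.cmem hg) c R.cmem),
      zpow_natCast, ← map_pow, ← map_commutatorElement]
    exact mk_eq_one.2 (Subgroup.commutator_mem_commutator R.cp hg)
  have hpow4 : ∀ z ∈ g4 E, ρ z ^ p = 1 := by
    intro z hz
    let s : Set (G ⧸ g5 E) := {q | ∃ y ∈ g3 E, ∃ g ∈ E, ρ ⁅y, g⁆ = q}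
    have hcl : g4 E ≤ (Subgroup.closure s).comap ρ :=
      Subgroup.commutator_le.2 fun y hy g hg => Subgroup.subset_closure ⟨y, hy, g, hg, rfl⟩
    refine closure_pow (s := s) ?_ ?_ _ (hcl hz)
    · rintro _ ⟨y, hy, g, hg, rfl⟩ _ ⟨y', hy', g', hg', rfl⟩
      exact h5 _ (h34 y hy g hg) _ (g2_le (g3_le (g4_le (h34 y' hy' g' hg'))))
    · rintro _ ⟨y, hy, g, hg, rfl⟩
      rw [← zpow_natCast, map_commutatorElement ρ, ← comm_zpow_right (by
          rw [← map_commutatorElement]; exact (h5 _ (h34 y hy g hg) g hg).symm),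
        zpow_natCast, ← map_pow, ← map_commutatorElement]
      refine mk_eq_one.2 (mem_swap (comm23 (Subgroup.commutator_mem_commutator ?_ hy)))
      exact D.phi_eq ▸ D.phiPow g hg
  set s3 : Set G := {e, w} ∪ (g4 E : Set G) with hs3
  have hgen3 : g3 E ≤ Subgroup.closure s3 := R.gen3.trans (sup_le (sup_le
    (fun g hg => Subgroup.subset_closure (Or.inr hg))
    (Subgroup.zpowers_le.2 (Subgroup.subset_closure (Or.inl (Or.inl rfl)))))
    (Subgroup.zpowers_le.2 (Subgroup.subset_closure (Or.inl (Or.inr rfl)))))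
  have hs3m : ∀ g ∈ s3, g ∈ g3 E := by
    rintro g ((rfl | rfl) | hg)
    exacts [D.e_mem R, D.w_mem R, g4_le hg]
  have hpow3 : ∀ z ∈ g3 E, ρ z ^ p = 1 := by
    intro z hz
    refine closure_pow (s := ρ '' s3) ?_ ?_ _ ?_
    · rintro _ ⟨y, hy, rfl⟩ _ ⟨y', hy', rfl⟩
      exact h33 y (hs3m y hy) y' (hs3m y' hy')
    · rintro _ ⟨y, hy, rfl⟩
      rcases hy with (rfl | rfl) | hy
      exacts [R.ce ▸ hcpow v D.vE, R.cw ▸ hcpow u D.uE, hpow4 y hy]
    · rw [← MonoidHom.map_closure]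
      exact Subgroup.mem_map_of_mem ρ (hgen3 hz)
  have hr := D.hr (g3 E) (g5 E) (g5_le.trans g4_le)
    (fun y hy z hz => comm23 (Subgroup.commutator_mem_commutator (g3_le hy) hz))
    (fun z hz => mk_eq_one.1 (by rw [map_pow]; exact hpow3 z hz))
  rw [D.card3 R] at hr
  have hsmall : Nat.card (g4 E) ≤ Nat.card (g5 E) * p :=
    Nat.le_of_mul_le_mul_right (by rw [show Nat.card (g5 E) * p * p ^ 2 = p ^ 3 * Nat.card (g5 E) by ring]; exact hr)
      (pow_pos hpf.out.pos 2)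
  set M := (g4 E).map ρ with hM
  haveI : M.Normal := Subgroup.Normal.map inferInstance ρ (QuotientGroup.mk'_surjective _)
  have hMc : Nat.card M ≤ p := by
    have h1 : Nat.card (g5 E) * (g5 E).relIndex (g4 E) = Nat.card (g4 E) := by
      rw [Subgroup.relIndex, ← Nat.card_congr (Subgroup.subgroupOfEquivOfLe (g5_le : g5 E ≤ g4 E)).toEquiv,
        Subgroup.card_mul_index]
    rw [hM, ← Subgroup.relIndex_ker, QuotientGroup.ker_mk']
    exact Nat.le_of_mul_le_mul_left (h1.trans_le hsmall) Nat.card_pos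
  have hcentral : ∀ z ∈ g4 E, ∀ g, Commute (ρ z) (ρ g) := by
    intro z hz g
    have hle : ⁅M, (⊤ : Subgroup (G ⧸ g5 E))⁆ ≤ M := Subgroup.commutator_le_left _ _
    have hbot : ⁅M, (⊤ : Subgroup (G ⧸ g5 E))⁆ = ⊥ := by
      rcases eq_or_lt_of_le hle with h0 | h0
      · rw [eq_bot_of_le_comm (D.hG.to_quotient (g5 E)) h0.ge, Subgroup.commutator_bot_left]
      · have h1 := CfsgLib.Fusion.MaxClass.card_mul_le_of_lt (D.hG.to_quotient (g5 E)) h0
        refine Subgroup.eq_bot_of_card_le _ ?_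
        exact Nat.le_of_mul_le_mul_left (h1.trans (hMc.trans_eq (mul_one p).symm)) hpf.out.pos
    rw [← commutatorElement_eq_one_iff_commute, ← Subgroup.mem_bot, ← hbot]
    exact Subgroup.commutator_mem_commutator (Subgroup.mem_map_of_mem ρ hz) (Subgroup.mem_top _)
  set φ1 := (u * v)⁻¹ * (x * u * x⁻¹) with hφ1
  have hφ1m : φ1 ∈ ⁅E, E⁆ := D.phi_eq ▸ D.xu
  set P := ρ ⁅e, u⁆ with hP
  set Q := ρ ⁅e, v⁆ with hQ
  set R' := ρ ⁅w, u⁆ with hR
  set T := ρ ⁅w, v⁆ with hT
  have hce : ∀ z ∈ g3 E, ∀ g, Commute (ρ g) (ρ ⁅z, v⁆) := fun z hz g => (hcentral _ (h34 z hz v D.vE) g).symm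
  have hconj : ∀ z ∈ g3 E, ∀ y ∈ g4 E, ρ ⁅z, u⁆ = ρ (x * ⁅z, u⁆ * x⁻¹) := fun z hz y _ => by
    rw [map_mul, map_mul, map_inv, (hcentral _ (h34 z hz u D.uE) x).symm.eq, mul_inv_cancel_right]
  have hxu : ∀ z ∈ g3 E, ⁅ρ z, ρ (x * u * x⁻¹)⁆ = ρ ⁅z, u⁆ * ρ ⁅z, v⁆ := fun z hz => by
    rw [D.conj_xu, ← hφ1, map_mul ρ (u * v), comm_right_trivial (by
        rw [← map_commutatorElement]; exact mk_eq_one.2 (mem_swap (comm23 (Subgroup.commutator_mem_commutator hφ1m hz)))),
      map_mul, comm_mul_right_central (by rw [← map_commutatorElement]; exact hce z hz u), ← map_commutatorElement,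
      ← map_commutatorElement]
  have hQ1 : Q = 1 := by
    have h1 : P = ⁅ρ (x * e * x⁻¹), ρ (x * u * x⁻¹)⁆ := by
      rw [hP, hconj e (D.e_mem R) 1 (one_mem _), ← map_commutatorElement]
      congr 1
      simp [commutatorElement_def, mul_assoc]
    rw [show x * e * x⁻¹ = ⁅x, e⁆ * e by simp [commutatorElement_def], map_mul ρ ⁅x, e⁆,
      show ρ ⁅x, e⁆ * ρ e = ρ e * ρ ⁅x, e⁆ from (hcentral _ R.xe e).eq, comm_left_trivial
        (commutatorElement_eq_one_iff_commute.2 (hcentral _ R.xe _)), hxu e (D.e_mem R), ← hP, ← hQ] at h1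
    exact left_eq_mul.1 h1
  have hTP : T * P = 1 := by
    have h1 : R' = ⁅ρ (x * w * x⁻¹), ρ (x * u * x⁻¹)⁆ := by
      rw [hR, hconj w (D.w_mem R) 1 (one_mem _), ← map_commutatorElement]
      congr 1
      simp [commutatorElement_def, mul_assoc]
    have hxw : ρ (x * w * x⁻¹) = ρ e * ρ w * ρ (e⁻¹ * ⁅x, w⁆) := by
      rw [show x * w * x⁻¹ = e * (e⁻¹ * ⁅x, w⁆) * w by simp [commutatorElement_def, mul_assoc], map_mul, map_mul,
        mul_assoc, (hcentral _ R.xw w).eq, mul_assoc]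
    rw [hxw, comm_left_trivial (commutatorElement_eq_one_iff_commute.2 (hcentral _ R.xw _)),
      comm_mul_left_central (by
        rw [hxu w (D.w_mem R)]
        exact ((hcentral _ (h34 w (D.w_mem R) u D.uE) e).symm).mul_right (hce w (D.w_mem R) e)),
      hxu w (D.w_mem R), hxu e (D.e_mem R), ← hP, ← hQ, ← hR, ← hT, hQ1, mul_one, mul_assoc] at h1
    exact left_eq_mul.1 h1
  have hTeq : T = P := by
    set γ := ⁅u, v⁆⁻¹ * c with hγ
    have hc0m : ⁅u, v⁆ ∈ ⁅E, E⁆ := Subgroup.commutator_mem_commutator D.uE D.vE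
    have hcc : ρ (c * ⁅u, v⁆ * c⁻¹) = ρ ⁅u, v⁆ := by
      have h1 : Commute (ρ c) (ρ ⁅u, v⁆) := by
        rw [show c = ⁅u, v⁆ * γ by rw [hγ, mul_inv_cancel_left], map_mul]
        exact (Commute.refl _).mul_left (h23 γ R.cuv _ hc0m).symm
      rw [map_mul, map_mul, map_inv, h1.eq, mul_inv_cancel_right]
    have h1 : ⁅ρ w * ρ u, ρ e * ρ v⁆ = ρ ⁅u, v⁆ := by
      rw [← map_mul, ← map_mul, ← map_commutatorElement, ← hcc, R.ce, R.cw]
      congr 1
      simp [commutatorElement_def, mul_assoc]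
    have he := hce
    have hwe : ⁅ρ w, ρ e⁆ = 1 := commutatorElement_eq_one_iff_commute.2 (h33 w (D.w_mem R) e (D.e_mem R))
    have hue : ⁅ρ u, ρ e * ρ v⁆ = P⁻¹ * ρ ⁅u, v⁆ := by
      rw [comm_mul_right_central (by
          rw [← map_commutatorElement]; exact (h23 e (D.e_mem R) _ hc0m).symm),
        ← map_commutatorElement ρ u v, hP, map_commutatorElement ρ e u, commutatorElement_inv]
    have hwev : ⁅ρ w, ρ e * ρ v⁆ = T := by
      rw [comm_mul_right_central (by rw [← map_commutatorElement]; exact hce w (D.w_mem R) e), hwe, one_mul, hT,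
        map_commutatorElement]
    rw [show ⁅ρ w * ρ u, ρ e * ρ v⁆ = ρ w * ⁅ρ u, ρ e * ρ v⁆ * (ρ w)⁻¹ * ⁅ρ w, ρ e * ρ v⁆ by
        simp [commutatorElement_def, mul_assoc], hue, hwev,
      show Commute (ρ w) (P⁻¹ * ρ ⁅u, v⁆) from
        ((hcentral _ (h34 e (D.e_mem R) u D.uE) w).symm.inv_right).mul_right (h23 w (D.w_mem R) _ hc0m).symm
        |>.eq, mul_inv_cancel_right, mul_assoc, (hce w (D.w_mem R) ⁅u, v⁆).eq, ← mul_assoc, mul_eq_right,
      inv_mul_eq_one] at h1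
    exact h1.symm
  have hP1 : P = 1 := by
    by_contra hne
    rw [hTeq] at hTP
    have h2 := eq_of_zpow (hpow4 _ (h34 e (D.e_mem R) u D.uE)) hne (i := 2) (j := 0)
      (by rw [zpow_two, zpow_zero]; exact hTP)
    have h3 : ((2 : ℕ) : ZMod p) = 0 := by simpa using h2
    rw [ZMod.natCast_eq_zero_iff] at h3
    have := Nat.le_of_dvd two_pos h3
    have := D.hp
    omega
  have hv : v ∈ centMod E (g3 E) (g5 E) := by
    refine mem_centMod.2 ⟨D.vE, fun z hz => mk_eq_one.1 ?_⟩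
    rw [map_commutatorElement, commutatorElement_eq_one_iff_commute]
    refine comap_commute hgen3 ?_ z hz
    rintro y ((rfl | rfl) | hy)
    · rw [← commutatorElement_eq_one_iff_commute, ← map_commutatorElement]; exact hQ1
    · rw [← commutatorElement_eq_one_iff_commute, ← map_commutatorElement]; exact hTeq.trans hP1
    · exact h5 y hy v D.vE
  have h3c : CharIn E (g3 E) := (CharIn.self.commutator CharIn.self).commutator CharIn.self
  have h5c : CharIn E (g5 E) := (h3c.commutator CharIn.self).commutator CharIn.self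
  have hall := D.line _ (h3c.centMod h5c) v hv D.v_notMem
  exact eq_bot_of_le_comm D.hG (B := E)
    (Subgroup.commutator_le.2 fun z hz g hg => (mem_centMod.1 (hall hg)).2 z hz : g4 E ≤ g5 E)

theorem final : Nat.card E = p ^ 5 ∧ g3 E = ⁅⁅⁅(⊤ : Subgroup G), (⊤ : Subgroup G)⁆, (⊤ : Subgroup G)⁆, (⊤ : Subgroup G)⁆ ∧ g3 E ≠ ⊥ ∧
    (∀ g : G, g ∈ E ↔ ∀ z ∈ g3 E, g * z = z * g) ∧
    ∀ M : Subgroup G, M.Normal → M.index = p → M ≠ E → ∀ P : Subgroup G, (∀ s ∈ M, ∀ t ∈ M, ⁅s, t⁆ ∈ P) →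
      Nat.card P ≤ p ^ 2 → P = g3 E := by
  haveI := D.normal
  have h4 := D.g4_bot R
  obtain ⟨hxc, hxv3, hxvK⟩ := D.outer R
  rw [h4, Subgroup.mem_bot] at hxc
  have hcen : ∀ z ∈ g3 E, ∀ g ∈ E, Commute z g := fun z hz g hg => by
    rw [← commutatorElement_eq_one_iff_commute, ← Subgroup.mem_bot, ← h4]
    exact Subgroup.commutator_mem_commutator hz hg
  have hxe : Commute x e := by
    rw [← commutatorElement_eq_one_iff_commute, ← Subgroup.mem_bot, ← h4]; exact R.xe
  have hxw : ⁅x, w⁆ = e := by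
    have := R.xw
    rw [h4, Subgroup.mem_bot, inv_mul_eq_one] at this
    exact this.symm
  have hep : e ^ p = 1 := by have := R.ep; rwa [h4, Subgroup.mem_bot] at this
  have hwp : w ^ p = 1 := by have := R.wp; rwa [h4, Subgroup.mem_bot] at this
  have he1 : e ≠ 1 := fun h => D.e_notMem R (h ▸ one_mem _)
  have hcard3 : Nat.card (g3 E) = p ^ 2 := by rw [D.card3 R, h4, Subgroup.card_bot, one_mul]
  set v1 := ⁅x, u⁆ with hv1
  set L1 := ⁅(⊤ : Subgroup G), (⊤ : Subgroup G)⁆ with hL1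
  set φ1 := (u * v)⁻¹ * (x * u * x⁻¹) with hφ1
  have hφ1m : φ1 ∈ ⁅E, E⁆ := D.phi_eq ▸ D.xu
  have hv1eq : v1 = u * (v * φ1) * u⁻¹ := by rw [hv1, hφ1, commutatorElement_def]; group
  set z := ⁅v1, u⁆ with hz
  have hz2 : z ∈ ⁅L1, (⊤ : Subgroup G)⁆ :=
    Subgroup.commutator_mem_commutator (Subgroup.commutator_mem_commutator (Subgroup.mem_top _) (Subgroup.mem_top _))
      (Subgroup.mem_top _)
  have hcz : c * z ∈ g3 E := by
    set π := QuotientGroup.mk' (g3 E) with hπ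
    have hcE : ∀ g ∈ E, Commute (π c) (π g) := fun g hg =>
      mk_commute (Subgroup.commutator_mem_commutator R.cmem hg)
    have hφc : ∀ g ∈ E, ⁅π φ1, π g⁆ = 1 := fun g hg => by
      rw [← map_commutatorElement]; exact mk_eq_one.2 (Subgroup.commutator_mem_commutator hφ1m hg)
    refine mk_eq_one.1 ?_
    show π (c * z) = 1
    rw [map_mul, hz, hv1eq, show ⁅u * (v * φ1) * u⁻¹, u⁆ = u * ⁅v * φ1, u⁆ * u⁻¹ by
        simp [commutatorElement_def, mul_assoc], map_mul, map_mul, map_inv, map_commutatorElement π (v * φ1),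
      map_mul π v, comm_left_trivial (hφc u D.uE), ← map_commutatorElement, ← commutatorElement_inv, map_inv,
      show π ⁅u, v⁆ = π c from mk_eq_iff.2 R.cuv, ((hcE u D.uE).symm.inv_right).eq, mul_inv_cancel_right,
      mul_inv_cancel]
  set γ := c * z with hγ
  have hzE : ∀ g ∈ E, ⁅z, g⁆ = ⁅c, g⁆⁻¹ := fun g hg => by
    rw [show z = c⁻¹ * γ by rw [hγ, inv_mul_cancel_left],
      comm_left_trivial (commutatorElement_eq_one_iff_commute.2 (hcen γ hcz g hg)), ← zpow_neg_one c,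
      comm_zpow_left ((hcen _ (Subgroup.commutator_mem_commutator R.cmem hg) c (D.c_mem R)).symm), zpow_neg_one]
  have hlow : g3 E ≤ ⁅⁅L1, (⊤ : Subgroup G)⁆, (⊤ : Subgroup G)⁆ := by
    refine R.gen3.trans (sup_le (sup_le (h4.le.trans bot_le) ?_) ?_)
    · rw [Subgroup.zpowers_le, ← inv_mem_iff, R.ce, ← hzE v D.vE]
      exact Subgroup.commutator_mem_commutator hz2 (Subgroup.mem_top _)
    · rw [Subgroup.zpowers_le, ← inv_mem_iff, R.cw, ← hzE u D.uE]
      exact Subgroup.commutator_mem_commutator hz2 (Subgroup.mem_top _)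
  have hxv2 : ⁅x, v⁆ ∈ ⁅E, E⁆ := g3_le hxv3
  set V1 := ⁅E, E⁆ ⊔ Subgroup.zpowers v with hV1
  haveI hV1n : V1.Normal := normal_sup_central (D.commute_all (mk_commute hxv2).symm
    fun g hg => mk_commute (Subgroup.commutator_mem_commutator D.vE hg))
  set st : Set G := {x} ∪ ({u, v} ∪ (⁅E, E⁆ : Subgroup G)) with hst
  have hstE : ∀ g ∈ st, g ≠ x → g ∈ E := fun g hg hne => hg.elim (fun h => absurd h hne) fun h => D.gens_sub h
  have hL1V : L1 ≤ V1 := by
    refine comm_le_normal D.gens_top D.gens_top fun s hs t ht => ?_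
    have hxt : ∀ t ∈ st, ⁅x, t⁆ ∈ V1 := by
      rintro t ((ht : t = x) | ((ht : t = u) | (ht : t = v)) | ht)
      · rw [ht, commutatorElement_self]; exact one_mem _
      · rw [ht, ← hv1, hv1eq]
        exact hV1n.conj_mem _ (V1.mul_mem (Subgroup.mem_sup_right (Subgroup.mem_zpowers v))
          (Subgroup.mem_sup_left hφ1m)) u
      · rw [ht]; exact Subgroup.mem_sup_left hxv2
      · exact Subgroup.mem_sup_left (Subgroup.commutator_le_right ⊤ _
          (Subgroup.commutator_mem_commutator (Subgroup.mem_top x) ht))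
    by_cases hsx : s = x
    · rw [hsx]; exact hxt t ht
    by_cases htx : t = x
    · rw [htx]; exact mem_swap (hxt s hs)
    exact Subgroup.mem_sup_left (Subgroup.commutator_mem_commutator (hstE s hs hsx) (hstE t ht htx))
  have hL2 : ⁅L1, (⊤ : Subgroup G)⁆ ≤ ⁅E, E⁆ := by
    refine comm_le_normal (s := {v} ∪ (⁅E, E⁆ : Subgroup G)) (hL1V.trans (sup_le
      (fun g hg => Subgroup.subset_closure (Or.inr hg))
      (Subgroup.zpowers_le.2 (Subgroup.subset_closure (Or.inl rfl))))) D.gens_top fun s hs t ht => ?_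
    rcases hs with rfl | hs
    · by_cases htx : t = x
      · rw [htx]; exact mem_swap hxv2
      · exact Subgroup.commutator_mem_commutator D.vE (hstE t ht htx)
    · exact Subgroup.commutator_le_left _ ⊤ (Subgroup.commutator_mem_commutator hs (Subgroup.mem_top t))
  have hhigh : ⁅⁅L1, (⊤ : Subgroup G)⁆, (⊤ : Subgroup G)⁆ ≤ g3 E := by
    refine comm_le_normal (s := {c} ∪ (g3 E : Set G)) (hL2.trans (R.gen2.trans (sup_le
      (fun g hg => Subgroup.subset_closure (Or.inr hg))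
      (Subgroup.zpowers_le.2 (Subgroup.subset_closure (Or.inl rfl)))))) D.gens_top fun s hs t ht => ?_
    rcases hs with rfl | hs
    · by_cases htx : t = x
      · rw [htx, ← commutatorElement_inv, hxc, inv_one]; exact one_mem _
      · exact Subgroup.commutator_mem_commutator R.cmem (hstE t ht htx)
    · exact Subgroup.commutator_le_left _ ⊤ (Subgroup.commutator_mem_commutator hs (Subgroup.mem_top t))
  refine ⟨?_, le_antisymm hlow hhigh, fun hb => ?_, fun g => ⟨fun hg z hz => (hcen z hz g hg).symm.eq, fun hg => ?_⟩,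
    fun M hMn hMi hME P hP hPc => ?_⟩
  · rw [R.card, hcard3]; ring
  · rw [hb, Subgroup.card_bot] at hcard3
    exact absurd hcard3 (Nat.one_lt_pow two_ne_zero hpf.out.one_lt).ne
  · obtain ⟨i, hi⟩ := D.exists_zpow g
    have h1 : ⁅g, w⁆ = e ^ i := by
      rw [← mul_inv_cancel_left (x ^ i) g,
        comm_left_trivial (commutatorElement_eq_one_iff_commute.2 (hcen w (D.w_mem R) _ hi).symm),
        comm_zpow_left (by rw [hxw]; exact hxe), hxw]
    have h2 : e ^ i = e ^ (0 : ℤ) := by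
      rw [← h1, zpow_zero]; exact commutatorElement_eq_one_iff_mul_comm.2 (hg w (D.w_mem R))
    have h3 := eq_of_zpow hep he1 h2
    rw [Int.cast_zero, ZMod.intCast_zmod_eq_zero_iff_dvd] at h3
    obtain ⟨q, rfl⟩ := h3
    rw [← mul_inv_cancel_left (x ^ ((p : ℤ) * q)) g]
    refine E.mul_mem ?_ hi
    rw [zpow_mul, zpow_natCast]
    exact E.zpow_mem (D.pow_mem x) q
  · haveI := hMn
    have hL1M : L1 ≤ M := by
      refine Subgroup.commutator_le.2 fun s _ t _ => mk_eq_one.1 ?_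
      rw [map_commutatorElement, commutatorElement_eq_one_iff_mul_comm]
      haveI : IsCyclic (G ⧸ M) := isCyclic_of_prime_card (p := p) (by rw [← Subgroup.index_eq_card, hMi])
      exact (IsCyclic.isMulCommutative (α := G ⧸ M)).is_comm.comm _ _
    have hL3M : g3 E ≤ M :=
      hlow.trans ((Subgroup.commutator_le_left _ _).trans ((Subgroup.commutator_le_left _ _).trans hL1M))
    have hcM : c ∈ M := by
      have h1 : γ * z⁻¹ ∈ M := M.mul_mem (hL3M hcz) (M.inv_mem ((Subgroup.commutator_le_left L1 ⊤).trans hL1M hz2))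
      rwa [hγ, mul_inv_cancel_right] at h1
    have hΦM : ⁅E, E⁆ ≤ M := R.gen2.trans (sup_le hL3M (Subgroup.zpowers_le.2 hcM))
    have hvM : v ∈ M := by
      have h1 : v1 ∈ M := hL1M (Subgroup.commutator_mem_commutator (Subgroup.mem_top _) (Subgroup.mem_top _))
      rw [hv1eq] at h1
      have h2 := hMn.conj_mem _ h1 u⁻¹
      rw [inv_inv, show u⁻¹ * (u * (v * φ1) * u⁻¹) * u = v * φ1 by group] at h2
      simpa using M.mul_mem h2 (M.inv_mem (hΦM hφ1m))
    obtain ⟨m, hm, hmE⟩ : ∃ m ∈ M, m ∉ E := by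
      by_contra hno
      push Not at hno
      have h1 := Subgroup.relIndex_mul_index (show M ≤ E from hno)
      rw [hMi, D.index] at h1
      exact hME (le_antisymm hno (Subgroup.relIndex_eq_one.1 ((Nat.mul_eq_right hpf.out.ne_zero).1 h1)))
    obtain ⟨i, hi⟩ := D.exists_zpow m
    have hi0 : ((i : ℤ) : ZMod p) ≠ 0 := by
      intro h0
      rw [ZMod.intCast_zmod_eq_zero_iff_dvd] at h0
      obtain ⟨q, rfl⟩ := h0
      refine hmE ?_
      rw [← mul_inv_cancel_left (x ^ ((p : ℤ) * q)) m]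
      refine E.mul_mem ?_ hi
      rw [zpow_mul, zpow_natCast]
      exact E.zpow_mem (D.pow_mem x) q
    set r : ℤ := (((i : ZMod p)⁻¹).val : ℤ) with hr
    have hx' : x⁻¹ * m ^ r ∈ E := by
      refine mk_eq_iff.1 ?_
      rw [map_zpow, show QuotientGroup.mk' E m = QuotientGroup.mk' E x ^ i by
        rw [← map_zpow]; exact (mk_eq_iff.2 hi).symm, ← zpow_mul]
      conv_lhs => rw [← zpow_one (QuotientGroup.mk' E x)]
      refine zpow_congr (by rw [← map_pow]; exact mk_eq_one.2 (D.pow_mem x)) ?_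
      rw [Int.cast_one, Int.cast_mul, hr, intCast_val, mul_inv_cancel₀ hi0]
    obtain ⟨s, t, hst'⟩ := D.gen _ hx'
    rw [D.phi_eq] at hst'
    have hxs : x * u ^ s ∈ M := by
      have h1 := M.mul_mem (M.mul_mem (M.zpow_mem hm r) (M.inv_mem (hΦM hst'))) (M.inv_mem (M.zpow_mem hvM t))
      rwa [show m ^ r * ((u ^ s * v ^ t)⁻¹ * (x⁻¹ * m ^ r))⁻¹ * (v ^ t)⁻¹ = x * u ^ s by group] at h1
    have heP : e ∈ P := R.ce ▸ hP c hcM v hvM
    have hwP : w ∈ P := by
      have hcu : ∀ n : ℤ, ⁅u ^ n, c⁆ = (w ^ n)⁻¹ := fun n => by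
        rw [← commutatorElement_inv, comm_zpow_right (by rw [← R.cw]; exact (hcen w (D.w_mem R) u D.uE).symm),
          R.cw]
      by_cases hs : (s : ZMod p) = 0
      · have hxM : x ∈ M := by
          obtain ⟨q, rfl⟩ := (ZMod.intCast_zmod_eq_zero_iff_dvd _ _).1 hs
          have h1 : u ^ ((p : ℤ) * q) ∈ M := by
            rw [zpow_mul, zpow_natCast]; exact M.zpow_mem (hΦM (D.phi_eq ▸ D.phiPow u D.uE)) q
          simpa using M.mul_mem hxs (M.inv_mem h1)
        have h1 := R.gen3 hxv3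
        rw [h4, bot_sup_eq] at h1
        obtain ⟨j, k, hjk⟩ := mem_pair (hcen e (D.e_mem R) w (g2_le (g3_le (D.w_mem R)))) h1
        have hk : (k : ZMod p) ≠ 0 := fun h0 => hxvK (by
          rw [hjk, zpow_congr hwp (j := 0) (by simpa using h0), zpow_zero, mul_one]
          exact Subgroup.mem_sup_right (Subgroup.zpow_mem _ (Subgroup.mem_zpowers e) j))
        refine mem_of_zpow_mem (p := p) (i := k) (by rw [hwp]; exact one_mem _) ?_ hk
        have h2 := P.mul_mem (P.inv_mem (P.zpow_mem heP j)) (hP x hxM v hvM)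
        rwa [hjk, inv_mul_cancel_left] at h2
      · refine mem_of_zpow_mem (p := p) (i := -s) (by rw [hwp]; exact one_mem _) ?_ (by simpa using hs)
        have h2 : ⁅x * u ^ s, c⁆ = e ^ (-s) * w ^ (-s) := by
          rw [show ⁅x * u ^ s, c⁆ = x * ⁅u ^ s, c⁆ * x⁻¹ * ⁅x, c⁆ by simp [commutatorElement_def, mul_assoc],
            hxc, mul_one, hcu, ← zpow_neg, ← conj_zpow,
            show x * w * x⁻¹ = e * w by rw [← hxw, commutatorElement_def, inv_mul_cancel_right],
            (hcen e (D.e_mem R) w (g2_le (g3_le (D.w_mem R)))).mul_zpow]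
        have h3 := P.mul_mem (P.inv_mem (P.zpow_mem heP (-s))) (h2 ▸ hP _ hxs c hcM)
        rwa [inv_mul_cancel_left] at h3
    refine (Subgroup.eq_of_le_of_card_ge (R.gen3.trans ?_) (hPc.trans hcard3.ge)).symm
    exact sup_le (sup_le (h4.le.trans bot_le) (Subgroup.zpowers_le.2 heP)) (Subgroup.zpowers_le.2 hwP)

end Data

end CfsgLib.Fsys.RankThree.Two
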