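import Cfsg.Agent.Lib.FusionSystem.RankThree.TwoPowers

/-! The first three factors of the lower central series in the two generator case. -/

set_option autoImplicit false
set_option linter.unusedSectionVars false
set_option linter.style.haveILetI false

open scoped commutatorElement

namespace CfsgLib.Fsys.RankThree.Two

variable {G : Type*} [Group G]

/-- The third term. -/
abbrev g3 (E : Subgroup G) : Subgroup G := ⁅⁅E, E⁆, E⁆

/-- The fourth term. -/
abbrev g4 (E : Subgroup G) : Subgroup G := ⁅g3 E, E⁆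

/-- The fifth term. -/
abbrev g5 (E : Subgroup G) : Subgroup G := ⁅g4 E, E⁆

section Series

variable {E : Subgroup G} [E.Normal]

theorem g2_le : ⁅E, E⁆ ≤ E := Subgroup.commutator_le_right E E

theorem g3_le : g3 E ≤ ⁅E, E⁆ := Subgroup.commutator_le_left _ _

theorem g4_le : g4 E ≤ g3 E := Subgroup.commutator_le_left _ _

theorem g5_le : g5 E ≤ g4 E := Subgroup.commutator_le_left _ _

theorem comm22 : ⁅⁅E, E⁆, ⁅E, E⁆⁆ ≤ g4 E :=
  rot (le_of_eq (by rw [Subgroup.commutator_comm E ⁅E, E⁆])) le_rfl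

theorem comm23 : ⁅⁅E, E⁆, g3 E⁆ ≤ g5 E :=
  rot (le_of_eq (by rw [Subgroup.commutator_comm E (g3 E)])) le_rfl

theorem mem_swap {K : Subgroup G} {s t : G} (h : ⁅s, t⁆ ∈ K) : ⁅t, s⁆ ∈ K := by
  rw [← commutatorElement_inv]; exact K.inv_mem h

end Series

theorem inv_comm {f : MulAut G} {A B : Subgroup G} (hA : ∀ g ∈ A, f g ∈ A) (hB : ∀ g ∈ B, f g ∈ B) :
    ∀ g ∈ ⁅A, B⁆, f g ∈ ⁅A, B⁆ := by
  have : ⁅A, B⁆ ≤ (⁅A, B⁆).comap f.toMonoidHom := Subgroup.commutator_le.2 fun s hs t ht => by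
    rw [Subgroup.mem_comap, map_commutatorElement]
    exact Subgroup.commutator_mem_commutator (hA s hs) (hB t ht)
  exact fun g hg => this hg

theorem mem_pair {A B z : G} (h : Commute A B) (hz : z ∈ Subgroup.zpowers A ⊔ Subgroup.zpowers B) :
    ∃ r s : ℤ, z = A ^ r * B ^ s := by
  let T : Subgroup G :=
    { carrier := {z | ∃ r s : ℤ, z = A ^ r * B ^ s}
      one_mem' := ⟨0, 0, by simp⟩
      mul_mem' := by
        rintro _ _ ⟨r, s, rfl⟩ ⟨r', s', rfl⟩
        exact ⟨r + r', s + s', by rw [zpow_add, zpow_add, Commute.mul_mul_mul_comm (h.symm.zpow_zpow s r') _]⟩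
      inv_mem' := by
        rintro _ ⟨r, s, rfl⟩
        exact ⟨-r, -s, by rw [zpow_neg, zpow_neg, (h.zpow_zpow r s).eq, mul_inv_rev]⟩ }
  exact (sup_le (Subgroup.zpowers_le.2 ⟨1, 0, by simp⟩) (Subgroup.zpowers_le.2 ⟨0, 1, by simp⟩) :
    Subgroup.zpowers A ⊔ Subgroup.zpowers B ≤ T) hz

theorem mk_eq_iff {K : Subgroup G} [K.Normal] {s t : G} :
    QuotientGroup.mk' K s = QuotientGroup.mk' K t ↔ s⁻¹ * t ∈ K := QuotientGroup.eq

theorem mk_eq_one {K : Subgroup G} [K.Normal] {s : G} : QuotientGroup.mk' K s = 1 ↔ s ∈ K :=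
  QuotientGroup.eq_one_iff s

theorem mk_commute {K : Subgroup G} [K.Normal] {s t : G} (h : ⁅s, t⁆ ∈ K) :
    Commute (QuotientGroup.mk' K s) (QuotientGroup.mk' K t) := by
  rw [← commutatorElement_eq_one_iff_commute, ← map_commutatorElement]
  exact mk_eq_one.2 h

/-- The data of the first factors. -/
structure Frame (p : ℕ) (E : Subgroup G) (x u v : G) (f : MulAut G) (a b : ℤ) (c e w : G) : Prop where
  ce : e = ⁅c, v⁆
  cw : w = ⁅c, u⁆
  cmem : c ∈ ⁅E, E⁆
  cuv : ⁅u, v⁆⁻¹ * c ∈ g3 E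
  c3 : c ∉ g3 E
  gen2 : ⁅E, E⁆ ≤ g3 E ⊔ Subgroup.zpowers c
  card2 : Nat.card (⁅E, E⁆ : Subgroup G) = Nat.card (g3 E) * p
  card : Nat.card E = Nat.card (g3 E) * p ^ 3
  up : u ^ p ∈ g3 E
  vp : v ^ p ∈ g3 E
  cp : c ^ p ∈ g4 E
  ep : e ^ p ∈ g4 E
  wp : w ^ p ∈ g4 E
  gen3 : g3 E ≤ g4 E ⊔ Subgroup.zpowers e ⊔ Subgroup.zpowers w
  ind3 : ∀ i j : ℤ, w ^ i * e ^ j ∈ g4 E → (i : ZMod p) = 0 ∧ (j : ZMod p) = 0
  xc : ⁅x, c⁆ ∈ g3 E
  xe : ⁅x, e⁆ ∈ g4 E
  xw : e⁻¹ * ⁅x, w⁆ ∈ g4 E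
  fc : c⁻¹ * f c ∈ g4 E
  fe : (e ^ a)⁻¹ * f e ∈ g4 E
  fw : (w ^ b)⁻¹ * f w ∈ g4 E

namespace Data

variable [Finite G] {p : ℕ} [hpf : Fact p.Prime] {E Φ : Subgroup G} {x u v : G} {f : MulAut G} {a b : ℤ}
  (D : Data p G E Φ x u v f a b)
include D

theorem gens : E ≤ Subgroup.closure ({u, v} ∪ (⁅E, E⁆ : Subgroup G)) := by
  intro g hg
  obtain ⟨i, j, hij⟩ := D.gen g hg
  rw [D.phi_eq] at hij
  rw [← mul_inv_cancel_left (u ^ i * v ^ j) g]
  have hu : u ∈ Subgroup.closure ({u, v} ∪ (⁅E, E⁆ : Subgroup G) : Set G) :=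
    Subgroup.subset_closure (Or.inl (Or.inl rfl))
  have hv : v ∈ Subgroup.closure ({u, v} ∪ (⁅E, E⁆ : Subgroup G) : Set G) :=
    Subgroup.subset_closure (Or.inl (Or.inr rfl))
  exact Subgroup.mul_mem _ (Subgroup.mul_mem _ (Subgroup.zpow_mem _ hu _) (Subgroup.zpow_mem _ hv _))
    (Subgroup.subset_closure (Or.inr hij))

theorem gens_sub : {u, v} ∪ ((⁅E, E⁆ : Subgroup G) : Set G) ⊆ E := by
  haveI := D.normal
  rintro g ((rfl | rfl) | hg)
  exacts [D.uE, D.vE, g2_le hg]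

theorem card_phi : Nat.card E = Nat.card Φ * p ^ 2 := by
  haveI := D.normal
  haveI := D.phiChar.normal
  set π := QuotientGroup.mk' Φ
  have hpow : ∀ g ∈ E, π g ^ p = 1 := fun g hg => by rw [← map_pow]; exact mk_eq_one.2 (D.phiPow g hg)
  let θ : ZMod p × ZMod p → E.map π := fun q =>
    ⟨π (u ^ (q.1.val : ℤ) * v ^ (q.2.val : ℤ)),
      Subgroup.mem_map_of_mem π (E.mul_mem (E.zpow_mem D.uE _) (E.zpow_mem D.vE _))⟩
  have hb : Function.Bijective θ := by
    refine ⟨fun q r e => ?_, ?_⟩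
    · have e' : π (u ^ (q.1.val : ℤ) * v ^ (q.2.val : ℤ)) = π (u ^ (r.1.val : ℤ) * v ^ (r.2.val : ℤ)) :=
        congrArg Subtype.val e
      have hc : Commute (π u) (π v) := mk_commute (D.phiComm (Subgroup.commutator_mem_commutator D.uE D.vE))
      have h1 : π (u ^ ((q.1.val : ℤ) - r.1.val) * v ^ ((q.2.val : ℤ) - r.2.val)) = 1 := by
        simp only [map_mul, map_zpow] at e' ⊢
        rw [zpow_sub, zpow_sub, mul_assoc, ← mul_assoc (π u ^ (r.1.val : ℤ))⁻¹,
          (hc.zpow_zpow _ _).inv_left.eq, mul_assoc (π v ^ (q.2.val : ℤ)), ← mul_inv_rev, ← mul_assoc, e',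
          (hc.zpow_zpow _ _).eq, mul_inv_cancel]
      obtain ⟨h2, h3⟩ := D.ind _ _ (mk_eq_one.1 h1)
      simp only [Int.cast_sub, intCast_val, sub_eq_zero] at h2 h3
      exact Prod.ext h2 h3
    · rintro ⟨_, g, hg, rfl⟩
      obtain ⟨i, j, hij⟩ := D.gen g hg
      refine ⟨((i : ZMod p), (j : ZMod p)), Subtype.ext ?_⟩
      show π _ = π g
      rw [← mk_eq_iff.2 hij, map_mul, map_mul, map_zpow, map_zpow, map_zpow, map_zpow,
        zpow_congr (hpow u D.uE) (intCast_val _), zpow_congr (hpow v D.vE) (intCast_val _)]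
  have h := Nat.card_congr (Equiv.ofBijective θ hb)
  rw [Nat.card_prod, Nat.card_zmod, ← pow_two, ← Subgroup.relIndex_ker, QuotientGroup.ker_mk'] at h
  rw [h, ← Subgroup.card_mul_index (Φ.subgroupOf E), ← Subgroup.relIndex,
    Nat.card_congr (Subgroup.subgroupOfEquivOfLe D.phiLe).toEquiv]

theorem one_ne_a : (a : ZMod p) ≠ 1 := fun e => D.ha2 (by rw [e, one_pow])

theorem ab_one : (a : ZMod p) * b = 1 := by
  have := D.hab
  push_cast at this
  exact this

theorem one_ne_b : (b : ZMod p) ≠ 1 := fun e => D.one_ne_a (by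
  have := D.ab_one
  rwa [e, mul_one] at this)

theorem f_g3 : ∀ g ∈ g3 E, f g ∈ g3 E := inv_comm (inv_comm D.fE D.fE) D.fE

theorem f_g4 : ∀ g ∈ g4 E, f g ∈ g4 E := inv_comm D.f_g3 D.fE

theorem exists_frame : ∃ c e w : G, Frame p E x u v f a b c e w := by
  haveI := D.normal
  have hΦ := D.phi_eq
  set c0 := ⁅u, v⁆ with hc0
  have hc0m : c0 ∈ ⁅E, E⁆ := Subgroup.commutator_mem_commutator D.uE D.vE
  have h3 : ∀ z ∈ ⁅E, E⁆, ∀ g ∈ E, ⁅z, g⁆ ∈ g3 E := fun z hz g hg => Subgroup.commutator_mem_commutator hz hg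
  have h3' : ∀ z ∈ ⁅E, E⁆, ∀ g ∈ E, ⁅g, z⁆ ∈ g3 E := fun z hz g hg => mem_swap (h3 z hz g hg)
  -- the second factor
  have gen2 : ⁅E, E⁆ ≤ g3 E ⊔ Subgroup.zpowers c0 := by
    set P := g3 E ⊔ Subgroup.zpowers c0 with hP
    have hP2 : P ≤ ⁅E, E⁆ := sup_le g3_le (Subgroup.zpowers_le.2 hc0m)
    have hconj : ∀ g ∈ E, ∀ y ∈ P, g * y * g⁻¹ ∈ P := fun g hg y hy => by
      rw [show g * y * g⁻¹ = ⁅g, y⁆ * y by simp [commutatorElement_def]]
      exact P.mul_mem (Subgroup.mem_sup_left (h3' y (hP2 hy) g hg)) hy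
    have hconj' : ∀ g ∈ E, ∀ y ∈ P, g⁻¹ * y * g ∈ P := fun g hg y hy => by
      have := hconj g⁻¹ (E.inv_mem hg) y hy
      rwa [inv_inv] at this
    refine comm_le D.gens D.gens (fun g hg => hconj g (D.gens_sub hg)) (fun g hg => hconj' g (D.gens_sub hg))
      (fun g hg => hconj g (D.gens_sub hg)) (fun g hg => hconj' g (D.gens_sub hg)) fun s hs t ht => ?_
    rcases hs with hs | hs
    · rcases ht with ht | ht
      · rcases hs with rfl | rfl <;> rcases ht with rfl | rfl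
        · rw [commutatorElement_self]; exact P.one_mem
        · exact Subgroup.mem_sup_right (Subgroup.mem_zpowers _)
        · exact mem_swap (Subgroup.mem_sup_right (Subgroup.mem_zpowers _))
        · rw [commutatorElement_self]; exact P.one_mem
      · exact Subgroup.mem_sup_left (h3' t ht s (D.gens_sub (Or.inl hs)))
    · exact Subgroup.mem_sup_left (h3 s hs t (D.gens_sub ht))
  set π := QuotientGroup.mk' (g3 E) with hπ
  have hcen3 : ∀ z ∈ ⁅E, E⁆, ∀ g ∈ E, Commute (π z) (π g) := fun z hz g hg => mk_commute (h3 z hz g hg)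
  have hc0p : c0 ^ p ∈ g3 E := by
    refine mk_eq_one.1 ?_
    rw [← zpow_natCast, map_zpow, hc0, map_commutatorElement,
      ← comm_zpow_left (by rw [← map_commutatorElement]; exact (hcen3 _ hc0m u D.uE).symm), ← map_zpow,
      ← map_commutatorElement, zpow_natCast]
    exact mk_eq_one.2 (h3 _ (D.phi_eq ▸ D.phiPow u D.uE) v D.vE)
  have hc03 : c0 ∉ g3 E := by
    intro hc
    have hbot : ⁅E, E⁆ = ⊥ :=
      eq_bot_of_le_comm D.hG (B := E) (gen2.trans (sup_le le_rfl (Subgroup.zpowers_le.2 hc)))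
    have h1 := D.card_phi
    rw [hΦ, hbot, Subgroup.card_bot, one_mul] at h1
    have := D.big
    rw [h1] at this
    have := (Nat.pow_le_pow_iff_right hpf.out.one_lt).1 this
    omega
  have card2 : Nat.card (⁅E, E⁆ : Subgroup G) = Nat.card (g3 E) * p := by
    rw [← card_adjoin hc0p hc03, le_antisymm gen2 (sup_le g3_le (Subgroup.zpowers_le.2 hc0m))]
  have card : Nat.card E = Nat.card (g3 E) * p ^ 3 := by
    rw [D.card_phi, hΦ, card2]; ring
  have hπc : π c0 ^ p = 1 := by rw [← map_pow]; exact mk_eq_one.2 hc0p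
  have hφ : ∀ {z}, z ∈ ⁅E, E⁆ → ∀ g ∈ E, ⁅π z, π g⁆ = 1 ∧ ⁅π g, π z⁆ = 1 := fun {z} hz g hg => by
    rw [← map_commutatorElement, ← map_commutatorElement]
    exact ⟨mk_eq_one.2 (h3 z hz g hg), mk_eq_one.2 (h3' z hz g hg)⟩
  have hfu : π (f u) = π (u ^ b) * π ((u ^ b)⁻¹ * f u) := by rw [← map_mul, mul_inv_cancel_left]
  have hfv : π (f v) = π (v ^ a) * π ((v ^ a)⁻¹ * f v) := by rw [← map_mul, mul_inv_cancel_left]
  have hub := hΦ ▸ D.fu
  have hva := hΦ ▸ D.fv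
  have hfc3 : π (f c0) = π c0 := by
    rw [hc0, map_commutatorElement f, map_commutatorElement π, hfu, hfv,
      comm_left_trivial (by rw [← map_mul π]; exact (hφ hub _ (E.mul_mem (E.zpow_mem D.vE a) (g2_le hva))).1),
      comm_right_trivial (hφ hva _ (E.zpow_mem D.uE b)).2, map_zpow π v,
      comm_zpow_right (by rw [← map_commutatorElement]; exact (hcen3 _ (Subgroup.commutator_mem_commutator (E.zpow_mem D.uE b) D.vE) v D.vE).symm),
      map_zpow π u, comm_zpow_left (by rw [← map_commutatorElement]; exact (hcen3 _ hc0m u D.uE).symm),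
      ← zpow_mul, ← map_commutatorElement]
    conv_rhs => rw [← zpow_one (π ⁅u, v⁆)]
    refine zpow_congr hπc ?_
    push_cast
    rw [mul_comm, D.ab_one]
  have hpow3 : ∀ (g : G) (n : ℤ), g ∈ E → (g ^ n)⁻¹ * f g ∈ ⁅E, E⁆ → (n : ZMod p) ≠ 1 → g ^ p ∈ g3 E := by
    intro g n hg hfg hn
    have hgp : g ^ p ∈ ⁅E, E⁆ := hΦ ▸ D.phiPow g hg
    obtain ⟨z, hz, y, hy, hzy⟩ := Subgroup.mem_sup_of_normal_left.1 (gen2 hgp)
    obtain ⟨k, rfl⟩ := Subgroup.mem_zpowers_iff.1 hy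
    have hgk : π g ^ p = π c0 ^ k := by
      rw [← map_pow, ← hzy, map_mul, mk_eq_one.2 hz, one_mul, map_zpow]
    have hd : ∀ y ∈ ⁅E, E⁆, π y ^ p = 1 := by
      intro y hy
      obtain ⟨z, hz, y', hy', rfl⟩ := Subgroup.mem_sup_of_normal_left.1 (gen2 hy)
      obtain ⟨i, rfl⟩ := Subgroup.mem_zpowers_iff.1 hy'
      rw [map_mul, mk_eq_one.2 hz, one_mul, map_zpow, ← zpow_natCast, ← zpow_mul, mul_comm, zpow_mul,
        zpow_natCast, hπc, one_zpow]
    have h1 : π (f g) ^ p = π g ^ p := by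
      rw [hgk, ← map_pow π (f g), ← map_pow f, ← hzy, map_mul f, map_mul π, mk_eq_one.2 (D.f_g3 z hz), one_mul,
        map_zpow f, map_zpow π, hfc3]
    rw [show f g = g ^ n * ((g ^ n)⁻¹ * f g) by rw [mul_inv_cancel_left], map_mul,
      (hcen3 _ hfg _ (E.zpow_mem hg n)).symm.mul_pow, hd _ hfg, mul_one, map_zpow, ← zpow_natCast, ← zpow_mul,
      mul_comm n, zpow_mul, zpow_natCast, hgk] at h1
    refine mk_eq_one.1 ?_
    rw [map_pow]
    change π g ^ p = 1
    rw [hgk]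
    exact weight hπc (i := k) (m := n) (n := 1) (by rw [zpow_one]; exact h1) (by simpa using hn)
  have up : u ^ p ∈ g3 E := hpow3 u b D.uE hub D.one_ne_b
  have vp : v ^ p ∈ g3 E := hpow3 v a D.vE hva D.one_ne_a
  -- the third factor
  set e := ⁅c0, v⁆ with he
  set w := ⁅c0, u⁆ with hw
  have hem : e ∈ g3 E := h3 _ hc0m v D.vE
  have hwm : w ∈ g3 E := h3 _ hc0m u D.uE
  have h4 : ∀ z ∈ g3 E, ∀ g ∈ E, ⁅z, g⁆ ∈ g4 E := fun z hz g hg => Subgroup.commutator_mem_commutator hz hg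
  have h4' : ∀ z ∈ g3 E, ∀ g ∈ E, ⁅g, z⁆ ∈ g4 E := fun z hz g hg => mem_swap (h4 z hz g hg)
  have h22 : ∀ z ∈ ⁅E, E⁆, ∀ y ∈ ⁅E, E⁆, ⁅z, y⁆ ∈ g4 E := fun z hz y hy =>
    comm22 (Subgroup.commutator_mem_commutator hz hy)
  have gen3 : g3 E ≤ g4 E ⊔ Subgroup.zpowers e ⊔ Subgroup.zpowers w := by
    set P := g4 E ⊔ Subgroup.zpowers e ⊔ Subgroup.zpowers w with hP
    have hP3 : P ≤ g3 E := sup_le (sup_le g4_le (Subgroup.zpowers_le.2 hem)) (Subgroup.zpowers_le.2 hwm)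
    have h4P : g4 E ≤ P := le_sup_left.trans le_sup_left
    have hconj : ∀ g ∈ E, ∀ y ∈ P, g * y * g⁻¹ ∈ P := fun g hg y hy => by
      rw [show g * y * g⁻¹ = ⁅g, y⁆ * y by simp [commutatorElement_def]]
      exact P.mul_mem (h4P (h4' y (hP3 hy) g hg)) hy
    have hconj' : ∀ g ∈ E, ∀ y ∈ P, g⁻¹ * y * g ∈ P := fun g hg y hy => by
      have := hconj g⁻¹ (E.inv_mem hg) y hy
      rwa [inv_inv] at this
    have hs : ∀ g ∈ ({c0} ∪ (g3 E : Set G) : Set G), g ∈ E := by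
      rintro g (rfl | hg)
      exacts [g2_le hc0m, g2_le (g3_le hg)]
    refine comm_le (s := {c0} ∪ (g3 E : Set G)) (gen2.trans (sup_le
        (fun g hg => Subgroup.subset_closure (Or.inr hg))
        (Subgroup.zpowers_le.2 (Subgroup.subset_closure (Or.inl rfl))))) D.gens
      (fun g hg => hconj g (hs g hg)) (fun g hg => hconj' g (hs g hg))
      (fun g hg => hconj g (D.gens_sub hg)) (fun g hg => hconj' g (D.gens_sub hg)) fun s hs t ht => ?_
    rcases hs with rfl | hs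
    · rcases ht with (rfl | rfl) | ht
      · exact Subgroup.mem_sup_right (Subgroup.mem_zpowers _)
      · exact Subgroup.mem_sup_left (Subgroup.mem_sup_right (Subgroup.mem_zpowers _))
      · exact h4P (h22 _ hc0m t ht)
    · exact h4P (h4 s hs t (D.gens_sub ht))
  set σ := QuotientGroup.mk' (g4 E) with hσ
  have hcen4 : ∀ z ∈ g3 E, ∀ g ∈ E, Commute (σ z) (σ g) := fun z hz g hg => mk_commute (h4 z hz g hg)
  have hzl : ∀ g ∈ E, ∀ n : ℤ, ⁅σ (c0 ^ n), σ g⁆ = σ ⁅c0, g⁆ ^ n := fun g hg n => by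
    rw [map_zpow, comm_zpow_left (by rw [← map_commutatorElement]; exact (hcen4 _ (h3 _ hc0m g hg) c0 (g2_le hc0m)).symm),
      ← map_commutatorElement]
  have hzr : ∀ g ∈ E, ∀ n : ℤ, ⁅σ c0, σ (g ^ n)⁆ = σ ⁅c0, g⁆ ^ n := fun g hg n => by
    rw [map_zpow, comm_zpow_right (by rw [← map_commutatorElement]; exact (hcen4 _ (h3 _ hc0m g hg) g hg).symm),
      ← map_commutatorElement]
  have hcp1 : ∀ g ∈ E, σ ⁅c0, g⁆ ^ p = 1 := fun g hg => by
    rw [← zpow_natCast, ← hzl g hg, zpow_natCast, ← map_commutatorElement]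
    exact mk_eq_one.2 (h4 _ hc0p g hg)
  have hep : σ e ^ p = 1 := hcp1 v D.vE
  have hwp : σ w ^ p = 1 := hcp1 u D.uE
  have ind3 : ∀ i j : ℤ, w ^ i * e ^ j ∈ g4 E → (i : ZMod p) = 0 ∧ (j : ZMod p) = 0 := by
    intro i j hij
    refine D.ind i j (by_contra fun hg => ?_)
    have hgE : u ^ i * v ^ j ∈ E := E.mul_mem (E.zpow_mem D.uE i) (E.zpow_mem D.vE j)
    have hC : u ^ i * v ^ j ∈ centMod E ⁅E, E⁆ (g4 E) := by
      refine mem_centMod.2 ⟨hgE, fun z hz => ?_⟩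
      obtain ⟨z', hz', y, hy, rfl⟩ := Subgroup.mem_sup_of_normal_left.1 (gen2 hz)
      obtain ⟨k, rfl⟩ := Subgroup.mem_zpowers_iff.1 hy
      refine mk_eq_one.1 ?_
      have h1 : ⁅σ c0, σ (u ^ i * v ^ j)⁆ = 1 := by
        rw [map_mul, comm_mul_right_central (by
            rw [← map_commutatorElement]
            exact (hcen4 _ (h3 _ hc0m _ (E.zpow_mem D.vE j)) _ (E.zpow_mem D.uE i)).symm),
          hzr u D.uE i, hzr v D.vE j, ← map_zpow, ← map_zpow, ← map_mul]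
        exact mk_eq_one.2 hij
      rw [map_commutatorElement, map_mul σ z', map_zpow σ,
        comm_left_trivial (by rw [comm_zpow_left (by rw [h1]; exact Commute.one_right _), h1, one_zpow]),
        ← map_commutatorElement]
      exact mk_eq_one.2 (h4 z' hz' _ hgE)
    have hle := D.line _ ((CharIn.commutator CharIn.self CharIn.self).centMod
      ((((CharIn.commutator CharIn.self CharIn.self).commutator CharIn.self).commutator CharIn.self))) _ hC hg
    have h34 : g3 E ≤ g4 E := Subgroup.commutator_le.2 fun z hz g hg' => (mem_centMod.1 (hle hg')).2 z hz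
    have hbot : g3 E = ⊥ := eq_bot_of_le_comm D.hG (B := E) h34
    rw [hbot, Subgroup.card_bot, one_mul] at card
    have := D.big
    rw [card] at this
    have := (Nat.pow_le_pow_iff_right hpf.out.one_lt).1 this
    omega
  have hd : σ c0 ^ p = 1 := by
    set d := σ ⁅v, u⁆ with hdd
    have hdu : σ v * σ u * (σ v)⁻¹ = d * σ u := by
      rw [hdd, map_commutatorElement, commutatorElement_def, inv_mul_cancel_right]
    set η := (σ u)⁻¹ * d⁻¹ * σ u * d with hη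
    have hd2 : ⁅v, u⁆ ∈ ⁅E, E⁆ := Subgroup.commutator_mem_commutator D.vE D.uE
    have hηm : η = σ ⁅u⁻¹, ⁅v, u⁆⁻¹⁆ := by
      rw [hη, hdd, map_commutatorElement σ u⁻¹, map_inv, map_inv, commutatorElement_def (σ u)⁻¹, inv_inv, inv_inv]
    have hη3 : ⁅u⁻¹, ⁅v, u⁆⁻¹⁆ ∈ g3 E := h3' _ (inv_mem hd2) _ (E.inv_mem D.uE)
    have hηp : η ^ p = 1 := by
      rw [hηm]
      have hle : g3 E ≤ (g4 E ⊔ Subgroup.zpowers e ⊔ Subgroup.zpowers w) := gen3
      have hm : σ ⁅u⁻¹, ⁅v, u⁆⁻¹⁆ ∈ Subgroup.closure ({σ e, σ w} : Set (G ⧸ g4 E)) := by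
        have := Subgroup.mem_map_of_mem σ (hle hη3)
        rw [Subgroup.map_sup, Subgroup.map_sup, MonoidHom.map_zpowers, MonoidHom.map_zpowers] at this
        refine SetLike.le_def.1 (sup_le (sup_le ?_ ?_) ?_) this
        · rintro _ ⟨z, hz, rfl⟩
          rw [mk_eq_one.2 hz]; exact one_mem _
        · exact Subgroup.zpowers_le.2 (Subgroup.subset_closure (Or.inl rfl))
        · exact Subgroup.zpowers_le.2 (Subgroup.subset_closure (Or.inr rfl))
      refine closure_pow ?_ ?_ _ hm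
      · have hew : Commute (σ e) (σ w) := hcen4 _ hem _ (g2_le (g3_le hwm))
        rintro _ (rfl | rfl) _ (rfl | rfl)
        exacts [Commute.refl _, hew, hew.symm, Commute.refl _]
      · rintro _ (rfl | rfl)
        exacts [hep, hwp]
    have h1 := mul_pow_shift (z := d) (e := σ u) (η := η) (by rw [hη]; group)
      (by rw [hηm]; exact (hcen4 _ hη3 u D.uE).symm)
      (by rw [hηm, hdd]; exact (hcen4 _ hη3 _ (g2_le hd2)).symm) p
    rw [← hdu, conj_pow, choose_pow_eq_one hηp two_ne_zero (by have := D.hp; omega), mul_one,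
      show σ v * σ u ^ p * (σ v)⁻¹ = σ u ^ p by
        rw [← map_pow, (hcen4 _ up v D.vE).symm.eq, mul_inv_cancel_right], right_eq_mul] at h1
    rw [hc0, ← commutatorElement_inv, map_inv, inv_pow, h1, inv_one]
  -- the action on the third factor
  have hf4 : ∀ g t : G, ⁅σ (f g), σ (f t)⁆ = σ (f ⁅g, t⁆) := fun g t => by
    rw [← map_commutatorElement, ← map_commutatorElement]
  have hpert : ∀ {γ φ : G}, γ ∈ g3 E → φ ∈ ⁅E, E⁆ → ∀ g ∈ E, ⁅σ c0 * σ γ, σ g * σ φ⁆ = σ ⁅c0, g⁆ := by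
    intro γ φ hγ hφm g hg
    rw [comm_left_trivial (by
        rw [← map_mul, ← map_commutatorElement]
        exact mk_eq_one.2 (h4 γ hγ _ (E.mul_mem hg (g2_le hφm)))),
      comm_right_trivial (by rw [← map_commutatorElement]; exact mk_eq_one.2 (h22 _ hc0m φ hφm)),
      ← map_commutatorElement]
  have hfc0 : c0⁻¹ * f c0 ∈ g3 E := mk_eq_iff.1 hfc3.symm
  have fe : σ (f e) = σ e ^ a := by
    rw [he, ← hf4, show f c0 = c0 * (c0⁻¹ * f c0) by rw [mul_inv_cancel_left],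
      show f v = v ^ a * ((v ^ a)⁻¹ * f v) by rw [mul_inv_cancel_left], map_mul σ c0, map_mul σ (v ^ a),
      hpert hfc0 hva _ (E.zpow_mem D.vE a), map_commutatorElement, hzr v D.vE a]
  have fw : σ (f w) = σ w ^ b := by
    rw [hw, ← hf4, show f c0 = c0 * (c0⁻¹ * f c0) by rw [mul_inv_cancel_left],
      show f u = u ^ b * ((u ^ b)⁻¹ * f u) by rw [mul_inv_cancel_left], map_mul σ c0, map_mul σ (u ^ b),
      hpert hfc0 hub _ (E.zpow_mem D.uE b), map_commutatorElement, hzr u D.uE b]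
  -- conjugation by `x`
  set φ1 := (u * v)⁻¹ * (x * u * x⁻¹) with hφ1
  set φ2 := v⁻¹ * (x * v * x⁻¹) with hφ2
  have hφ1m : φ1 ∈ ⁅E, E⁆ := hΦ ▸ D.xu
  have hφ2m : φ2 ∈ ⁅E, E⁆ := hΦ ▸ D.xv
  have hcx : x * c0 * x⁻¹ = ⁅u * v * φ1, v * φ2⁆ := by
    rw [hφ1, hφ2, mul_inv_cancel_left, mul_inv_cancel_left, hc0]
    simp [commutatorElement_def, mul_assoc]
  have hxc3 : c0⁻¹ * (x * c0 * x⁻¹) ∈ g3 E := by
    refine mk_eq_iff.1 ?_
    show π c0 = π (x * c0 * x⁻¹)
    rw [hcx, map_commutatorElement π (u * v * φ1), map_mul π (u * v), map_mul π v,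
      comm_left_trivial (by rw [← map_mul]; exact (hφ hφ1m _ (E.mul_mem D.vE (g2_le hφ2m))).1),
      comm_right_trivial (hφ hφ2m _ (E.mul_mem D.uE D.vE)).2, map_mul,
      comm_left_trivial (commutatorElement_self _), hc0, map_commutatorElement]
  have hxconj : ∀ g : G, σ (x * ⁅c0, g⁆ * x⁻¹) = ⁅σ c0 * σ (c0⁻¹ * (x * c0 * x⁻¹)), σ (x * g * x⁻¹)⁆ := fun g => by
    rw [← map_mul, mul_inv_cancel_left, ← map_commutatorElement]
    congr 1
    simp [commutatorElement_def, mul_assoc]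
  have xe : σ (x * e * x⁻¹) = σ e := by
    rw [he, hxconj, show x * v * x⁻¹ = v * φ2 by rw [hφ2]; group, map_mul σ v,
      hpert hxc3 hφ2m _ D.vE]
  have xw : σ (x * w * x⁻¹) = σ w * σ e := by
    rw [hw, hxconj, show x * u * x⁻¹ = u * v * φ1 by rw [hφ1]; group, map_mul σ (u * v),
      hpert hxc3 hφ1m _ (E.mul_mem D.uE D.vE), map_commutatorElement σ c0, map_mul,
      comm_mul_right_central (by rw [← map_commutatorElement]; exact (hcen4 _ hem u D.uE).symm),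
      he, map_commutatorElement σ c0, map_commutatorElement σ c0]
  -- an eigenvector
  obtain ⟨r, s, hrs⟩ : ∃ r s : ℤ, σ (c0⁻¹ * f c0) = σ e ^ r * σ w ^ s := by
    refine mem_pair (hcen4 _ hem _ (g2_le (g3_le hwm))) ?_
    have h0 := Subgroup.mem_map_of_mem σ (gen3 hfc0)
    rw [Subgroup.map_sup, Subgroup.map_sup, MonoidHom.map_zpowers, MonoidHom.map_zpowers] at h0
    refine SetLike.le_def.1 (sup_le (sup_le ?_ le_sup_left) le_sup_right) h0
    rintro _ ⟨g, hg, rfl⟩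
    rw [mk_eq_one.2 hg]
    exact one_mem _
  set q : ℤ := (((r : ZMod p) / (1 - a)).val : ℤ) with hq
  set t : ℤ := (((s : ZMod p) / (1 - b)).val : ℤ) with ht
  set γ := e ^ q * w ^ t with hγ
  have hγm : γ ∈ g3 E := Subgroup.mul_mem _ (Subgroup.zpow_mem _ hem q) (Subgroup.zpow_mem _ hwm t)
  set c := c0 * γ with hc
  have hce : ∀ g ∈ E, σ ⁅c, g⁆ = σ ⁅c0, g⁆ := fun g hg => by
    rw [hc, map_commutatorElement, map_mul σ c0,
      comm_left_trivial (by rw [← map_commutatorElement]; exact mk_eq_one.2 (h4 γ hγm g hg)), ← map_commutatorElement]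
  have hσe : σ ⁅c, v⁆ = σ e := hce v D.vE
  have hσw : σ ⁅c, u⁆ = σ w := hce u D.uE
  have hew : Commute (σ e) (σ w) := hcen4 _ hem _ (g2_le (g3_le hwm))
  have hcm : c ∈ ⁅E, E⁆ := Subgroup.mul_mem _ hc0m (g3_le hγm)
  have hπcc : π c = π c0 := by rw [hc, map_mul, mk_eq_one.2 hγm, mul_one]
  have hzpow : ∀ {g t : G}, σ g = σ t → ∀ n : ℤ, σ (g ^ n) = σ t ^ n := fun h n => by rw [map_zpow, h]
  refine ⟨c, ⁅c, v⁆, ⁅c, u⁆, ⟨rfl, rfl, hcm, ?_, ?_, ?_, card2, card, up, vp, ?_, ?_, ?_, ?_, ?_, ?_, ?_, ?_, ?_,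
    ?_, ?_⟩⟩
  · exact mk_eq_iff.1 hπcc.symm
  · exact fun h => hc03 (mk_eq_one.1 (hπcc ▸ mk_eq_one.2 h : π c0 = 1))
  · refine gen2.trans (sup_le le_sup_left (Subgroup.zpowers_le.2 ?_))
    rw [show c0 = c * γ⁻¹ by rw [hc, mul_inv_cancel_right]]
    exact Subgroup.mul_mem _ (Subgroup.mem_sup_right (Subgroup.mem_zpowers c))
      (Subgroup.mem_sup_left (inv_mem hγm))
  · refine mk_eq_one.1 ?_
    show σ (c ^ p) = 1
    have hγp : σ γ ^ p = 1 := by
      rw [hγ, map_mul, map_zpow, map_zpow, (hew.zpow_zpow q t).mul_pow, ← zpow_natCast, ← zpow_natCast,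
        ← zpow_mul, ← zpow_mul, mul_comm q, mul_comm t, zpow_mul, zpow_mul, zpow_natCast (σ e), zpow_natCast (σ w), hep, hwp,
        one_zpow, one_zpow, one_mul]
    rw [map_pow, hc, map_mul, (hcen4 _ hγm c0 (g2_le hc0m)).symm.mul_pow, hd, hγp, one_mul]
  · refine mk_eq_one.1 ?_
    show σ _ = 1
    rw [map_pow, hσe, hep]
  · refine mk_eq_one.1 ?_
    show σ _ = 1
    rw [map_pow, hσw, hwp]
  · intro z hz
    have : σ z ∈ (g4 E ⊔ Subgroup.zpowers ⁅c, v⁆ ⊔ Subgroup.zpowers ⁅c, u⁆).map σ := by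
      have h1 := Subgroup.mem_map_of_mem σ (gen3 hz)
      rwa [Subgroup.map_sup, Subgroup.map_sup, MonoidHom.map_zpowers, MonoidHom.map_zpowers, ← hσe, ← hσw,
        ← MonoidHom.map_zpowers, ← MonoidHom.map_zpowers, ← Subgroup.map_sup, ← Subgroup.map_sup] at h1
    obtain ⟨y, hy, hyz⟩ := this
    rw [← mul_inv_cancel_left y z]
    exact Subgroup.mul_mem _ hy (Subgroup.mem_sup_left (Subgroup.mem_sup_left (mk_eq_iff.1 hyz)))
  · intro i j hij
    refine ind3 i j (mk_eq_one.1 ?_)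
    show σ _ = 1
    rw [← mk_eq_one] at hij
    rwa [map_mul, map_zpow, map_zpow, hσw, hσe, ← map_zpow, ← map_zpow, ← map_mul] at hij
  · refine mk_eq_one.1 ?_
    show π _ = 1
    rw [map_commutatorElement, commutatorElement_eq_one_iff_mul_comm, hπcc]
    have h1 : π c0 = π (x * c0 * x⁻¹) := mk_eq_iff.2 hxc3
    rw [map_mul, map_mul, map_inv] at h1
    conv_rhs => rw [h1]
    rw [inv_mul_cancel_right]
  · refine mk_eq_one.1 ?_
    show σ _ = 1
    rw [map_commutatorElement, hσe, commutatorElement_def, ← map_inv, ← map_mul, ← map_mul, xe,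
      mul_inv_cancel]
  · refine mk_eq_iff.1 ?_
    show σ ⁅c, v⁆ = _
    rw [hσe, map_commutatorElement σ x, hσw, commutatorElement_def, ← map_inv σ x, ← map_mul, ← map_mul, xw,
      hew.symm.eq, mul_inv_cancel_right]
  · refine mk_eq_iff.1 ?_
    show σ c = σ (f c)
    have e1 : σ (f c) = σ c0 * σ e ^ (r + a * q) * σ w ^ (s + b * t) := by
      rw [hc, map_mul f, map_mul σ, show f c0 = c0 * (c0⁻¹ * f c0) by rw [mul_inv_cancel_left], map_mul σ, hrs, hγ,
        map_mul f, map_zpow f, map_zpow f, map_mul σ, hzpow (g := f e) (t := e ^ a) (by rw [fe, map_zpow]),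
        hzpow (g := f w) (t := w ^ b) (by rw [fw, map_zpow]), map_zpow, map_zpow, ← zpow_mul, ← zpow_mul, zpow_add, zpow_add]
      simp only [mul_assoc]
      rw [← mul_assoc (σ w ^ s), ← (hew.zpow_zpow (a * q) s).eq, mul_assoc]
    rw [e1, hc, hγ, map_mul, map_mul, map_zpow, map_zpow, ← mul_assoc]
    have ha1 : (1 : ZMod p) - a ≠ 0 := sub_ne_zero.2 D.one_ne_a.symm
    have hb1 : (1 : ZMod p) - b ≠ 0 := sub_ne_zero.2 D.one_ne_b.symm
    refine congrArg₂ (· * ·) (congrArg (σ c0 * ·) (zpow_congr hep ?_)) (zpow_congr hwp ?_)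
    · push_cast
      rw [hq, intCast_val]
      field_simp
      ring
    · push_cast
      rw [ht, intCast_val]
      field_simp
      ring
  · refine mk_eq_iff.1 ?_
    show σ _ = σ _
    rw [map_zpow, hσe, map_commutatorElement f, map_commutatorElement σ (f c) (f v), hc, map_mul f, map_mul σ,
      comm_left_trivial (by
        rw [← map_commutatorElement, ← map_commutatorElement]
        exact mk_eq_one.2 (D.f_g4 _ (h4 γ hγm v D.vE))), hf4, ← he, fe]
  · refine mk_eq_iff.1 ?_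
    show σ _ = σ _
    rw [map_zpow, hσw, map_commutatorElement f, map_commutatorElement σ (f c) (f u), hc, map_mul f, map_mul σ,
      comm_left_trivial (by
        rw [← map_commutatorElement, ← map_commutatorElement]
        exact mk_eq_one.2 (D.f_g4 _ (h4 γ hγm u D.uE))), hf4, ← hw, fw]

end Data

end CfsgLib.Fsys.RankThree.Two
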