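import Cfsg.Agent.Lib.FusionSystem.RankThree.TwoData
import Cfsg.Agent.Lib.FusionSystem.RankThree.Core

/-! A two generator essential subgroup of large order gives a characteristic subgroup of order `p ^ 2`. -/

set_option autoImplicit false
set_option linter.unusedSectionVars false
set_option linter.style.haveILetI false

open Cfsg Cfsg.FusionSystem
open scoped commutatorElement

namespace CfsgLib.Fsys.RankThree.Two

universe u

variable {Ω : Type u} [Group Ω] {S : Subgroup Ω} [Finite S] {p : ℕ} [hpf : Fact p.Prime] {F : FusionSystem S}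
  {E : Subgroup Ω}

theorem commutator_top_map {G H : Type*} [Group G] [Group H] (f : G →* H) :
    (⁅⁅⁅(⊤ : Subgroup G), (⊤ : Subgroup G)⁆, (⊤ : Subgroup G)⁆, (⊤ : Subgroup G)⁆).map f =
      ⁅⁅⁅f.range, f.range⁆, f.range⁆, f.range⁆ := by
  rw [Subgroup.map_commutator, Subgroup.map_commutator, Subgroup.map_commutator, ← MonoidHom.range_eq_map]

theorem Pre.facts (h : Pre p F E) : S ≤ Subgroup.normalizer (E : Set Ω) ∧ Nat.card E = p ^ 5 ∧
    g3 E = ⁅⁅⁅S, S⁆, S⁆, S⁆ ∧ g3 E ≠ ⊥ ∧ (∀ g ∈ S, g ∈ E ↔ ∀ z ∈ g3 E, g * z = z * g) ∧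
    ∀ M ≤ S, S ≤ Subgroup.normalizer (M : Set Ω) → p * Nat.card M = Nat.card S → M ≠ E →
      ∀ P ≤ S, (∀ s ∈ M, ∀ t ∈ M, ⁅s, t⁆ ∈ P) → Nat.card P ≤ p ^ 2 → P = g3 E := by
  obtain ⟨x, u, v, f, a, b, D⟩ := h.exists_data
  set N := normalizerIn S E with hNdef
  haveI : Finite N := finite_of_le_base normalizerIn_le
  have hEN : E ≤ N := le_normalizerIn h.le
  obtain ⟨c, e, w, R⟩ := D.exists_frame
  obtain ⟨hcard, hlcs, hne, hcent, hM⟩ := D.final R
  set E0 := E.subgroupOf N with hE0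
  have hmap : E0.map N.subtype = E := by
    rw [hE0, Subgroup.subgroupOf_map_subtype, inf_eq_left.2 hEN]
  have hW : (g3 E0).map N.subtype = g3 E := by
    rw [g3, Subgroup.map_commutator, Subgroup.map_commutator, hmap]
  have hWN : g3 E = ⁅⁅⁅N, N⁆, N⁆, N⁆ := by
    rw [← hW, hlcs, commutator_top_map, Subgroup.range_subtype]
  have hmem : ∀ z ∈ g3 E, ∃ z' : N, z' ∈ g3 E0 ∧ (z' : Ω) = z := fun z hz => by
    obtain ⟨z', hz', rfl⟩ := hW.ge hz
    exact ⟨z', hz', rfl⟩
  have hcent' : ∀ g ∈ N, g ∈ E ↔ ∀ z ∈ g3 E, g * z = z * g := by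
    intro g hg
    refine ⟨fun hgE z hz => ?_, fun hgz => ?_⟩
    · obtain ⟨z', hz', rfl⟩ := hmem z hz
      exact congrArg Subtype.val ((hcent ⟨g, hg⟩).1 hgE z' hz')
    · exact (hcent ⟨g, hg⟩).2 fun z' hz' => Subtype.ext (hgz _ (hW.le ⟨z', hz', rfl⟩))
  -- the normalizer is all of `S`
  have hNN : ∀ y ∈ normalizerIn S N, y ∈ N := by
    intro y hy
    have hWy : ∀ y, y ∈ Subgroup.normalizer (N : Set Ω) → ∀ z ∈ g3 E, y * z * y⁻¹ ∈ g3 E := by
      intro y hy z hz
      have hNy : N.map (MulAut.conj y).toMonoidHom = N := by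
        ext t
        refine ⟨?_, fun ht => ⟨y⁻¹ * t * y, ?_, by simp [mul_assoc]⟩⟩
        · rintro ⟨t', ht', rfl⟩
          exact (mem_normalizer_iff'.1 hy).1 t' ht'
        · have := (mem_normalizer_iff'.1 (Subgroup.inv_mem _ hy)).1 t ht
          rwa [inv_inv] at this
      have h1 : (⁅⁅⁅N, N⁆, N⁆, N⁆).map (MulAut.conj y).toMonoidHom = ⁅⁅⁅N, N⁆, N⁆, N⁆ := by
        rw [Subgroup.map_commutator, Subgroup.map_commutator, Subgroup.map_commutator, hNy]
      rw [hWN] at hz ⊢
      exact h1.le ⟨z, hz, rfl⟩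
    haveI := finite_of_le_base h.le
    refine ⟨hy.1, mem_normalizer_of_map_le fun g hg => ?_⟩
    have hgN : y * g * y⁻¹ ∈ N := (mem_normalizer_iff'.1 hy.2).1 g (hEN hg)
    refine (hcent' _ hgN).2 fun z hz => ?_
    have hz' := hWy y⁻¹ (Subgroup.inv_mem _ hy.2) z hz
    rw [inv_inv] at hz'
    have h1 := (hcent' g (hEN hg)).1 hg _ hz'
    calc y * g * y⁻¹ * z = y * (g * (y⁻¹ * z * y)) * y⁻¹ := by group
      _ = y * (y⁻¹ * z * y * g) * y⁻¹ := by rw [h1]
      _ = z * (y * g * y⁻¹) := by group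
  have hNS : N = S := by
    refine le_antisymm normalizerIn_le ?_
    by_contra hne'
    exact (lt_normalizerIn h.hS (lt_of_le_of_ne normalizerIn_le fun e => hne' e.ge)).not_ge hNN
  refine ⟨fun s hs => (hNS.ge hs : s ∈ normalizerIn S E).2, ?_, hNS ▸ hWN, fun hb => hne ?_,
    fun g hg => hcent' g (hNS.ge hg), fun M hMS hMn hMc hME P hP hPc hPk => ?_⟩
  · rw [← hmap, Subgroup.card_map_of_injective N.subtype_injective, hcard]
  · rw [← Subgroup.map_eq_bot_iff_of_injective _ N.subtype_injective, hW, hb]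
  · haveI := finite_of_le_base hMS
    have hMN : M ≤ N := hMS.trans hNS.ge
    have hPN : P ≤ N := hP.trans hNS.ge
    haveI hMn' : (M.subgroupOf N).Normal :=
      ⟨fun m hm g => (mem_normalizer_iff'.1 (hMn (normalizerIn_le g.2))).1 _ hm⟩
    have hidx : (M.subgroupOf N).index = p := by
      have h1 := Subgroup.card_mul_index (M.subgroupOf N)
      rw [Nat.card_congr (Subgroup.subgroupOfEquivOfLe hMN).toEquiv,
        show Nat.card N = Nat.card S by rw [hNS], ← hMc, mul_comm] at h1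
      exact Nat.eq_of_mul_eq_mul_right Nat.card_pos h1
    have h1 := hM (M.subgroupOf N) hMn' hidx
      (fun he => hME (by rw [← hmap, ← he, Subgroup.subgroupOf_map_subtype, inf_eq_left.2 hMN]))
      (P.subgroupOf N) (fun s hs t ht => hPc _ hs _ ht)
      (by rw [Nat.card_congr (Subgroup.subgroupOfEquivOfLe hPN).toEquiv]; exact hPk)
    rw [← hW, ← h1, Subgroup.subgroupOf_map_subtype, inf_eq_left.2 hPN]

/-- The subgroup of order `p ^ 2` is preserved by the automorphisms of `S` and of the essential subgroup. -/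
theorem Pre.invariant (h : Pre p F E) :
    (∀ α ∈ F.autGroup S, ∀ z ∈ g3 E, autFn α z ∈ g3 E) ∧ ∀ α ∈ F.autGroup E, ∀ z ∈ g3 E, autFn α z ∈ g3 E := by
  haveI := finite_of_le_base h.le
  obtain ⟨-, -, hW, -⟩ := h.facts
  constructor
  · intro α _ z hz
    have hc : CharIn S ⁅⁅⁅S, S⁆, S⁆, S⁆ :=
      ((CharIn.self.commutator CharIn.self).commutator CharIn.self).commutator CharIn.self
    rw [hW] at hz ⊢
    have := hc.2 α ⟨z, hc.1 hz⟩ hz
    rwa [← autFn_coe] at this
  · intro α _ z hz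
    have hc : CharIn E (g3 E) := (CharIn.self.commutator CharIn.self).commutator CharIn.self
    have := hc.2 α ⟨z, hc.1 hz⟩ hz
    rwa [← autFn_coe] at this

/-- With such a subgroup the core is not trivial. -/
theorem Pre.core_ne_bot (h : Pre p F E)
    (hall : ∀ M, F.IsEssential p M → (frattini ↥M).index = p ^ 2 → Pre p F M)
    (hnormal : ∀ M, F.IsEssential p M → (frattini ↥M).index ≠ p ^ 2 →
      S ≤ Subgroup.normalizer (M : Set Ω) ∧ p * Nat.card M = Nat.card S ∧ (frattini ↥M).index = p ^ 3) :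
    ∃ U : Subgroup Ω, U ≠ ⊥ ∧ F.IsNormal U := by
  obtain ⟨hn, hcard, hW, hne, hcent, hM⟩ := h.facts
  obtain ⟨hautS, hautE⟩ := h.invariant
  have hES := h.le
  haveI := finite_of_le_base hES
  have hWE : g3 E ≤ E := ((CharIn.self.commutator CharIn.self).commutator CharIn.self).1
  refine ⟨g3 E, hne, normal_of_aut h.hS h.hF (hWE.trans hES) hautS fun M hMe => ?_⟩
  by_cases hidx : (frattini ↥M).index = p ^ 2
  · obtain ⟨-, -, hW', -, hcent', -⟩ := (hall M hMe hidx).facts
    rw [← hW] at hW'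
    have hME : M = E := by
      ext g
      refine ⟨fun hg => (hcent g (hMe.1.1 hg)).2 ?_, fun hg => (hcent' g (hES hg)).2 ?_⟩
      · have := (hcent' g (hMe.1.1 hg)).1 hg
        rwa [hW'] at this
      · rw [hW']; exact (hcent g (hES hg)).1 hg
    subst hME
    exact ⟨hWE, hautE⟩
  · obtain ⟨hMn, hMc, hM3⟩ := hnormal M hMe hidx
    haveI := finite_of_le_base hMe.1.1
    have hSc : Nat.card S = p * Nat.card E := by
      obtain ⟨x, u, v, f, a, b, D⟩ := h.exists_data
      have hN : normalizerIn S E = S := le_antisymm normalizerIn_le fun s hs => ⟨hs, hn hs⟩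
      have h1 := Subgroup.card_mul_index (E.subgroupOf (normalizerIn S E))
      rw [D.index, Nat.card_congr (Subgroup.subgroupOfEquivOfLe (le_normalizerIn hES)).toEquiv, mul_comm] at h1
      rw [h1, hN]
    have hΦc : Nat.card (phi M) = p ^ 2 := by
      have h1 := Subgroup.card_mul_index (frattini ↥M)
      rw [hM3, Nat.eq_of_mul_eq_mul_left hpf.out.pos (hMc.trans hSc), hcard,
        show p ^ 5 = p ^ 2 * p ^ 3 by ring] at h1
      rw [Subgroup.card_map_of_injective M.subtype_injective]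
      exact Nat.eq_of_mul_eq_mul_right (pow_pos hpf.out.pos 3) h1
    have hME : M ≠ E := fun e => hidx (e ▸ h.hrk)
    have hMp : IsPGroup p M := h.hS.to_le hMe.1.1
    have hP := hM M hMe.1.1 hMn hMc hME (phi M) ((phi_le M).trans hMe.1.1) (fun s hs t ht => by
      have h2 := mem_phi.2 (PGroup.Frattini.commutatorElement_mem_frattini hMp ⟨s, hs⟩ ⟨t, ht⟩)
      simpa [commutatorElement_def] using h2) hΦc.le
    refine ⟨hP ▸ phi_le M, fun α _ z hz => ?_⟩
    rw [← hP] at hz ⊢
    obtain ⟨y, hy, rfl⟩ := hz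
    show autFn α (y : Ω) ∈ phi M
    rw [autFn_coe]
    exact mem_phi.2 (frattini_invariant α hy)

end CfsgLib.Fsys.RankThree.Two
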