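import Cfsg.Agent.Lib.FusionSystem.RankThree.TwoTools

/-! A two generator subgroup of index `p` with a torus: powers lie in the derived subgroup. -/

set_option autoImplicit false
set_option linter.unusedSectionVars false
set_option linter.style.haveILetI false

open scoped commutatorElement

namespace CfsgLib.Fsys.RankThree.Two

theorem CharIn.normal {G : Type*} [Group G] {E L : Subgroup G} [E.Normal] (h : CharIn E L) : L.Normal :=
  ⟨fun z hz g => by
    have := h.2 (MulAut.conjNormal g) ⟨z, h.1 hz⟩ hz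
    rwa [MulAut.conjNormal_apply] at this⟩

/-- The standing data: a subgroup `E` of index `p`, its Frattini subgroup `Φ`, a basis and a torus. -/
structure Data (p : ℕ) (G : Type*) [Group G] (E Φ : Subgroup G) (x u v : G) (f : MulAut G) (a b : ℤ) : Prop where
  hG : IsPGroup p G
  hr : Rank3 p G
  hp : 5 ≤ p
  normal : E.Normal
  index : E.index = p
  big : p ^ 4 ≤ Nat.card E
  xE : x ∉ E
  uE : u ∈ E
  vE : v ∈ E
  phiLe : Φ ≤ E
  phiChar : CharIn E Φ
  phiComm : ⁅E, E⁆ ≤ Φ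
  phiPow : ∀ g ∈ E, g ^ p ∈ Φ
  phiMin : ∀ K : Subgroup G, ⁅E, E⁆ ≤ K → (∀ g ∈ E, g ^ p ∈ K) → Φ ≤ K
  gen : ∀ g ∈ E, ∃ i j : ℤ, (u ^ i * v ^ j)⁻¹ * g ∈ Φ
  ind : ∀ i j : ℤ, u ^ i * v ^ j ∈ Φ → (i : ZMod p) = 0 ∧ (j : ZMod p) = 0
  xu : (u * v)⁻¹ * (x * u * x⁻¹) ∈ Φ
  xv : v⁻¹ * (x * v * x⁻¹) ∈ Φ
  fu : (u ^ b)⁻¹ * f u ∈ Φ
  fv : (v ^ a)⁻¹ * f v ∈ Φ
  fE : ∀ g ∈ E, f g ∈ E
  fx : (x ^ (a * a))⁻¹ * f x ∈ Φ
  hab : ((a * b : ℤ) : ZMod p) = 1
  ha2 : (a : ZMod p) ^ 2 ≠ 1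
  ha3 : (a : ZMod p) ^ 3 ≠ 1
  line : ∀ L : Subgroup G, CharIn E L → ∀ g ∈ L, g ∉ Φ → E ≤ L

namespace Data

variable {G : Type*} [Group G] [Finite G] {p : ℕ} [hpf : Fact p.Prime] {E Φ : Subgroup G} {x u v : G}
  {f : MulAut G} {a b : ℤ} (D : Data p G E Φ x u v f a b)
include D

theorem v_notMem : v ∉ Φ := fun hv => by
  have := (D.ind 0 1 (by simpa using hv)).2
  simp at this

theorem u_notMem : u ∉ Φ := fun hv => by
  have := (D.ind 1 0 (by simpa using hv)).1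
  simp at this

theorem exists_zpow (g : G) : ∃ i : ℤ, (x ^ i)⁻¹ * g ∈ E := by
  haveI := D.normal
  have hc : Nat.card (G ⧸ E) = p := by rw [← Subgroup.index_eq_card, D.index]
  have htop := zpowers_eq_top_of_prime_card hc (g := (QuotientGroup.mk' E x))
    fun e => D.xE ((QuotientGroup.eq_one_iff x).1 e)
  obtain ⟨i, hi⟩ := Subgroup.mem_zpowers_iff.1 (htop ▸ Subgroup.mem_top (QuotientGroup.mk' E g))
  exact ⟨i, QuotientGroup.eq.1 (show ((x ^ i : G) : G ⧸ E) = (g : G ⧸ E) by rw [QuotientGroup.mk_zpow]; exact hi)⟩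

theorem pow_mem (g : G) : g ^ p ∈ E := by
  haveI := D.normal
  exact D.index ▸ Subgroup.pow_index_mem E g

/-- The `p`-th powers lie in the derived subgroup. -/
theorem phi_eq : Φ = ⁅E, E⁆ := by
  haveI := D.normal
  set P2 := Subgroup.closure ((fun g => g ^ (p * p)) '' (E : Set G)) with hP2
  set K0 := ⁅E, E⁆ ⊔ P2 with hK0
  have hK0c : CharIn E K0 := (CharIn.commutator CharIn.self CharIn.self).sup (CharIn.powers _)
  haveI := hK0c.normal
  haveI := D.phiChar.normal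
  have hK0Φ : K0 ≤ Φ := sup_le D.phiComm ((Subgroup.closure_le _).2 (by
    rintro _ ⟨g, hg, rfl⟩
    show g ^ (p * p) ∈ Φ
    rw [pow_mul]
    exact Φ.pow_mem (D.phiPow g hg) p))
  set π := QuotientGroup.mk' K0 with hπ
  have hone : ∀ {g : G}, π g = 1 ↔ g ∈ K0 := fun {g} => QuotientGroup.eq_one_iff g
  set Eb := E.map π with hEb
  haveI : Eb.Normal := D.normal.map π (QuotientGroup.mk'_surjective K0)
  have hab : ∀ q r : Eb, q * r = r * q := by
    rintro ⟨_, g, hg, rfl⟩ ⟨_, h, hh, rfl⟩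
    refine Subtype.ext (commutatorElement_eq_one_iff_mul_comm.1 ?_)
    show ⁅π g, π h⁆ = 1
    rw [← map_commutatorElement]
    exact hone.2 (Subgroup.mem_sup_left (Subgroup.commutator_mem_commutator hg hh))
  let K1 : Subgroup G :=
    { carrier := {g | g ∈ E ∧ g ^ p ∈ K0}
      one_mem' := ⟨E.one_mem, by rw [one_pow]; exact K0.one_mem⟩
      mul_mem' := fun {g h} hg hh => ⟨E.mul_mem hg.1 hh.1, hone.1 (by
        have hc : Commute (π g) (π h) := congrArg Subtype.val (hab ⟨_, g, hg.1, rfl⟩ ⟨_, h, hh.1, rfl⟩)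
        rw [map_pow, map_mul, hc.mul_pow, ← map_pow, ← map_pow, hone.2 hg.2, hone.2 hh.2, one_mul])⟩
      inv_mem' := fun {g} hg => ⟨E.inv_mem hg.1, by rw [inv_pow]; exact K0.inv_mem hg.2⟩ }
  have hK1 : CharIn E K1 := ⟨fun g hg => hg.1, fun α z hz => ⟨(α z).2, by
    have := hK0c.2 α (z ^ p) (by rw [Subgroup.coe_pow]; exact hz.2)
    rwa [map_pow, Subgroup.coe_pow] at this⟩⟩
  have hΦK1 : Φ ≤ K1 := D.phiMin K1
    (Subgroup.commutator_le.2 fun g hg h hh => by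
      have hmem : ⁅g, h⁆ ∈ K0 := Subgroup.mem_sup_left (Subgroup.commutator_mem_commutator hg hh)
      exact ⟨hK0c.1 hmem, K0.pow_mem hmem p⟩)
    fun g hg => ⟨E.pow_mem hg p, by
      rw [← pow_mul]
      exact Subgroup.mem_sup_right (Subgroup.subset_closure ⟨g, hg, rfl⟩)⟩
  set φ : MulAut Eb := MulAut.conjNormal (π x) with hφ
  set W := (Φ.map π).subgroupOf Eb with hW
  have hWc : Nat.card W ≤ p ^ 3 := by
    rw [hW, Nat.card_congr (Subgroup.subgroupOfEquivOfLe (Subgroup.map_mono D.phiLe)).toEquiv,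
      ← Subgroup.relIndex_ker, QuotientGroup.ker_mk']
    have h1 := D.hr Φ K0 hK0Φ
      (fun g hg h hh => Subgroup.mem_sup_left
        (Subgroup.commutator_mem_commutator (D.phiLe hg) (D.phiLe hh)))
      (fun g hg => (hΦK1 hg).2)
    rw [← Subgroup.card_mul_index (K0.subgroupOf Φ), ← Subgroup.relIndex,
      Nat.card_congr (Subgroup.subgroupOfEquivOfLe hK0Φ).toEquiv, mul_comm (p ^ 3)] at h1
    exact Nat.le_of_mul_le_mul_left h1 Nat.card_pos
  have hWi : ∀ q ∈ W, φ q ∈ W := by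
    intro q hq
    obtain ⟨g, hg, hgq⟩ := Subgroup.mem_subgroupOf.1 hq
    refine Subgroup.mem_subgroupOf.2 ⟨x * g * x⁻¹, (CharIn.normal D.phiChar).conj_mem g hg x, ?_⟩
    rw [map_mul, map_mul, map_inv, hgq, hφ, MulAut.conjNormal_apply]
  obtain ⟨M, hM⟩ := D.hG x
  have hφM : φ ^ p ^ M = 1 := by
    rw [hφ, ← map_pow, ← map_pow, hM, map_one, map_one]
  have hφp : φ ^ p = 1 := by
    rw [hφ, ← map_pow, ← map_pow]
    refine MulEquiv.ext fun q => Subtype.ext ?_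
    rw [MulAut.conjNormal_apply, MulAut.one_apply]
    have := congrArg Subtype.val (hab ⟨_, x ^ p, D.pow_mem x, rfl⟩ q)
    simp only [Subgroup.coe_mul] at this
    rw [this, mul_inv_cancel_right]
  set φ1 := (u * v)⁻¹ * (x * u * x⁻¹) with hφ1
  let a0 : Eb := ⟨π u, u, D.uE, rfl⟩
  let b0 : Eb := a0⁻¹ * φ a0
  let δ : Eb → Eb := fun q => q⁻¹ * φ q
  have hb0 : (b0 : G ⧸ K0) = π (v * φ1) := by
    have e : v * φ1 = u⁻¹ * (x * u * x⁻¹) := by rw [hφ1]; group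
    rw [e]
    simp [b0, a0, hφ, MulAut.conjNormal_apply]
  have hf0 : δ b0 ∈ W := by
    refine Subgroup.mem_subgroupOf.2 ⟨φ1⁻¹ * (v⁻¹ * (x * v * x⁻¹)) * (x * φ1 * x⁻¹),
      Φ.mul_mem (Φ.mul_mem (Φ.inv_mem D.xu) D.xv) ((CharIn.normal D.phiChar).conj_mem _ D.xu x), ?_⟩
    rw [show φ1⁻¹ * (v⁻¹ * (x * v * x⁻¹)) * (x * φ1 * x⁻¹) = (v * φ1)⁻¹ * (x * (v * φ1) * x⁻¹) by group]
    simp only [map_mul, map_inv, δ, Subgroup.coe_mul, Subgroup.coe_inv, hφ, MulAut.conjNormal_apply, hb0]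
  have hs := shift_iter (p := p) ((D.hG.to_quotient K0).to_subgroup Eb) hφM 3 W
    (fun q _ r _ => hab q r) hWi hWc _ hf0
  have hstep : ∀ q : Eb, φ q = q * δ q := fun q => (mul_inv_cancel_left q (φ q)).symm
  have hlast : φ (δ (δ (δ b0))) = δ (δ (δ b0)) := by
    rw [hstep, show δ (δ (δ (δ b0))) = 1 from hs, mul_one]
  have hmemW : ∀ q ∈ W, δ q ∈ W := fun q hq => W.mul_mem (W.inv_mem hq) (hWi q hq)
  have hWp : ∀ q ∈ W, q ^ p = 1 := by
    intro q hq
    obtain ⟨g, hg, hgq⟩ := Subgroup.mem_subgroupOf.1 hq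
    refine Subtype.ext ?_
    rw [Subgroup.coe_pow, ← hgq, ← map_pow]
    exact hone.2 (hΦK1 hg).2
  have h5 := pow_shift_five D.hp (φ := φ) (a := a0) (b := b0) (f := δ b0) (g := δ (δ b0)) (h := δ (δ (δ b0)))
    (hstep a0) (hstep b0) (hstep _) (hstep _) hlast (hab _ _) (fun w => hab _ w) (fun w => hab _ w)
    (fun w => hab _ w) (hWp _ hf0) (hWp _ (hmemW _ hf0)) (hWp _ (hmemW _ (hmemW _ hf0)))
  rw [hφp, MulAut.one_apply, left_eq_mul] at h5
  have hvK : v ∈ K1 := by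
    refine ⟨D.vE, hone.1 ?_⟩
    have h1 : π ((v * φ1) ^ p) = 1 := by
      rw [map_pow, ← hb0, ← Subgroup.coe_pow, h5, Subgroup.coe_one]
    have hc : Commute (π v) (π φ1) :=
      congrArg Subtype.val (hab ⟨_, v, D.vE, rfl⟩ ⟨_, φ1, D.phiLe D.xu, rfl⟩)
    rwa [map_pow, map_mul, hc.mul_pow, ← map_pow π φ1, hone.2 (hΦK1 D.xu).2, mul_one, ← map_pow] at h1
  have hall : E ≤ K1 := D.line K1 hK1 v hvK D.v_notMem
  -- hence the powers lie in the derived subgroup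
  have main : ∀ m : ℕ, (∀ g ∈ E, g ^ p ^ (m + 1) ∈ ⁅E, E⁆) → ∀ g ∈ E, g ^ p ∈ ⁅E, E⁆ := by
    intro m
    induction m with
    | zero => intro h g hg; simpa using h g hg
    | succ m ih =>
      intro h
      refine ih fun g hg => ?_
      let π2 := QuotientGroup.mk' ⁅E, E⁆
      have hone2 : ∀ {g : G}, π2 g = 1 ↔ g ∈ ⁅E, E⁆ := fun {g} => QuotientGroup.eq_one_iff g
      let J : Subgroup G :=
        { carrier := {y | y ∈ E ∧ y ^ p ^ m ∈ ⁅E, E⁆}
          one_mem' := ⟨E.one_mem, by rw [one_pow]; exact one_mem _⟩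
          mul_mem' := fun {y z} hy hz => ⟨E.mul_mem hy.1 hz.1, hone2.1 (by
            have hc : Commute (π2 y) (π2 z) := by
              rw [← commutatorElement_eq_one_iff_commute, ← map_commutatorElement]
              exact hone2.2 (Subgroup.commutator_mem_commutator hy.1 hz.1)
            rw [map_pow, map_mul, hc.mul_pow, ← map_pow, ← map_pow, hone2.2 hy.2, hone2.2 hz.2, one_mul])⟩
          inv_mem' := fun {y} hy => ⟨E.inv_mem hy.1, by rw [inv_pow]; exact inv_mem hy.2⟩ }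
      have hle : K0 ≤ J := sup_le
        (fun y hy => ⟨hK0c.1 (Subgroup.mem_sup_left hy), Subgroup.pow_mem _ hy _⟩)
        ((Subgroup.closure_le _).2 (by
          rintro _ ⟨y, hy, rfl⟩
          refine ⟨E.pow_mem hy _, ?_⟩
          show (y ^ (p * p)) ^ p ^ m ∈ ⁅E, E⁆
          rw [← pow_mul, show p * p * p ^ m = p ^ (m + 1 + 1) by rw [pow_succ, pow_succ]; ring]
          exact h y hy))
      have := (hle (hall hg).2).2
      rwa [← pow_mul, ← pow_succ'] at this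
  obtain ⟨N, hN⟩ := IsPGroup.iff_card.1 D.hG
  refine le_antisymm (D.phiMin _ le_rfl (main N fun g _ => ?_)) D.phiComm
  rw [pow_succ, pow_mul, ← hN, pow_card_eq_one', one_pow]
  exact one_mem _

end Data

end CfsgLib.Fsys.RankThree.Two
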