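import Cfsg.Agent.Lib.FusionSystem.RankThree.Tools
import Cfsg.Agent.Lib.Fusion.MaxClass

/-! Commutator tools for the exceptional two generator case. -/

set_option autoImplicit false
set_option linter.unusedSectionVars false
set_option linter.style.haveILetI false

open scoped commutatorElement

namespace CfsgLib.Fsys.RankThree.Two

variable {G : Type*} [Group G]

/-- A subgroup of `E` invariant under every automorphism of `E`. -/
def CharIn (E L : Subgroup G) : Prop :=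
  L ≤ E ∧ ∀ (α : MulAut E) (z : E), (z : G) ∈ L → ((α z : E) : G) ∈ L

namespace CharIn

variable {E L M : Subgroup G}

theorem self : CharIn E E := ⟨le_rfl, fun α z _ => (α z).2⟩

theorem sup (hL : CharIn E L) (hM : CharIn E M) : CharIn E (L ⊔ M) := by
  refine ⟨sup_le hL.1 hM.1, fun α z hz => ?_⟩
  have hle : L ⊔ M ≤ (((L ⊔ M).subgroupOf E).comap α.toMonoidHom).map E.subtype := sup_le
    (fun y hy => ⟨⟨y, hL.1 hy⟩, Subgroup.mem_sup_left (hL.2 α _ hy), rfl⟩)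
    fun y hy => ⟨⟨y, hM.1 hy⟩, Subgroup.mem_sup_right (hM.2 α _ hy), rfl⟩
  obtain ⟨y, hy, he⟩ := hle hz
  rwa [← E.subtype_injective he]

theorem commutator (hL : CharIn E L) (hM : CharIn E M) : CharIn E ⁅L, M⁆ := by
  have hle : ⁅L, M⁆ ≤ E :=
    Subgroup.commutator_le.2 fun a ha b hb => E.mul_mem (E.mul_mem (E.mul_mem (hL.1 ha) (hM.1 hb))
      (E.inv_mem (hL.1 ha))) (E.inv_mem (hM.1 hb))
  refine ⟨hle, fun α z hz => ?_⟩
  have hle' : ⁅L, M⁆ ≤ ((⁅L, M⁆.subgroupOf E).comap α.toMonoidHom).map E.subtype := by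
    refine Subgroup.commutator_le.2 fun a ha b hb =>
      ⟨⁅(⟨a, hL.1 ha⟩ : E), ⟨b, hM.1 hb⟩⁆, ?_, map_commutatorElement E.subtype _ _⟩
    refine Subgroup.mem_comap.2 (Subgroup.mem_subgroupOf.2 ?_)
    show E.subtype (α ⁅_, _⁆) ∈ ⁅L, M⁆
    rw [map_commutatorElement, map_commutatorElement]
    exact Subgroup.commutator_mem_commutator (hL.2 α _ ha) (hM.2 α _ hb)
  obtain ⟨y, hy, he⟩ := hle' hz
  rwa [← E.subtype_injective he]

theorem powers (n : ℕ) : CharIn E (Subgroup.closure ((fun g => g ^ n) '' (E : Set G))) := by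
  refine ⟨(Subgroup.closure_le _).2 (Set.image_subset_iff.2 fun g hg => E.pow_mem hg n), fun α z hz => ?_⟩
  have hle : Subgroup.closure ((fun g => g ^ n) '' (E : Set G)) ≤
      (((Subgroup.closure ((fun g => g ^ n) '' (E : Set G))).subgroupOf E).comap α.toMonoidHom).map E.subtype := by
    refine (Subgroup.closure_le _).2 ?_
    rintro _ ⟨g, hg, rfl⟩
    refine ⟨⟨g, hg⟩ ^ n, ?_, rfl⟩
    refine Subgroup.mem_comap.2 (Subgroup.mem_subgroupOf.2 ?_)
    show ((α ((⟨g, hg⟩ : E) ^ n) : E) : G) ∈ _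
    rw [map_pow, Subgroup.coe_pow]
    exact Subgroup.subset_closure ⟨_, (α ⟨g, hg⟩).2, rfl⟩
  obtain ⟨y, hy, he⟩ := hle hz
  rwa [← E.subtype_injective he]

end CharIn

/-- The elements of `E` centralizing `A` modulo `B`. -/
def centMod (E A B : Subgroup G) [B.Normal] : Subgroup G :=
  E ⊓ (Subgroup.centralizer ((A.map (QuotientGroup.mk' B) : Subgroup (G ⧸ B)) : Set (G ⧸ B))).comap
    (QuotientGroup.mk' B)

theorem mem_centMod {E A B : Subgroup G} [B.Normal] {g : G} :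
    g ∈ centMod E A B ↔ g ∈ E ∧ ∀ z ∈ A, ⁅z, g⁆ ∈ B := by
  refine and_congr Iff.rfl ?_
  show QuotientGroup.mk' B g ∈ Subgroup.centralizer _ ↔ _
  rw [Subgroup.mem_centralizer_iff]
  constructor
  · intro h z hz
    rw [← QuotientGroup.eq_one_iff]
    show QuotientGroup.mk' B ⁅z, g⁆ = 1
    rw [map_commutatorElement, commutatorElement_eq_one_iff_mul_comm]
    exact h _ ⟨z, hz, rfl⟩
  · rintro h _ ⟨z, hz, rfl⟩
    rw [← commutatorElement_eq_one_iff_mul_comm, ← map_commutatorElement]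
    exact (QuotientGroup.eq_one_iff _).2 (h z hz)

theorem CharIn.centMod {E A B : Subgroup G} [B.Normal] (hA : CharIn E A) (hB : CharIn E B) :
    CharIn E (centMod E A B) := by
  refine ⟨inf_le_left, fun α z hz => mem_centMod.2 ⟨(α z).2, fun y hy => ?_⟩⟩
  obtain ⟨⟨y', hy'⟩, rfl⟩ : ∃ w : E, (w : G) = y := ⟨⟨y, hA.1 hy⟩, rfl⟩
  have h1 := (mem_centMod.1 hz).2 _ (hA.2 α⁻¹ ⟨y', hy'⟩ hy)
  have h2 : E.subtype (α ⁅α⁻¹ ⟨y', hy'⟩, z⁆) ∈ B := hB.2 α ⁅α⁻¹ ⟨y', hy'⟩, z⁆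
    (by rw [← Subgroup.subtype_apply, map_commutatorElement]; exact h1)
  rwa [map_commutatorElement, MulAut.apply_inv_self, map_commutatorElement] at h2

/-- The three subgroup lemma modulo a normal subgroup. -/
theorem rot {A B C K : Subgroup G} [K.Normal] (h1 : ⁅⁅B, C⁆, A⁆ ≤ K) (h2 : ⁅⁅C, A⁆, B⁆ ≤ K) : ⁅⁅A, B⁆, C⁆ ≤ K := by
  rw [← QuotientGroup.ker_mk' K, ← Subgroup.map_eq_bot_iff, Subgroup.map_commutator, Subgroup.map_commutator] at *
  exact Subgroup.commutator_commutator_eq_bot_of_rotate h1 h2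

/-- Commutators of two subgroups given by generators. -/
theorem comm_le {A B P : Subgroup G} {s t : Set G} (hA : A ≤ Subgroup.closure s) (hB : B ≤ Subgroup.closure t)
    (hs : ∀ g ∈ s, ∀ y ∈ P, g * y * g⁻¹ ∈ P) (hs' : ∀ g ∈ s, ∀ y ∈ P, g⁻¹ * y * g ∈ P)
    (ht : ∀ g ∈ t, ∀ y ∈ P, g * y * g⁻¹ ∈ P) (ht' : ∀ g ∈ t, ∀ y ∈ P, g⁻¹ * y * g ∈ P)
    (h : ∀ a ∈ s, ∀ b ∈ t, ⁅a, b⁆ ∈ P) : ⁅A, B⁆ ≤ P := by
  have key : ∀ a ∈ s, ∀ b ∈ Subgroup.closure t, ⁅a, b⁆ ∈ P ∧ ∀ y ∈ P, b * y * b⁻¹ ∈ P := by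
    intro a ha b hb
    induction hb using Subgroup.closure_induction_left with
    | one => simp
    | mul_left x hx y hy ih =>
      refine ⟨?_, fun z hz => ?_⟩
      · rw [show ⁅a, x * y⁆ = ⁅a, x⁆ * (x * ⁅a, y⁆ * x⁻¹) by simp [commutatorElement_def, mul_assoc]]
        exact P.mul_mem (h a ha x hx) (ht x hx _ ih.1)
      · rw [show x * y * z * (x * y)⁻¹ = x * (y * z * y⁻¹) * x⁻¹ by group]
        exact ht x hx _ (ih.2 z hz)
    | inv_mul_cancel x hx y hy ih =>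
      refine ⟨?_, fun z hz => ?_⟩
      · rw [show ⁅a, x⁻¹ * y⁆ = x⁻¹ * ⁅a, x⁆⁻¹ * x * (x⁻¹ * ⁅a, y⁆ * x) by simp [commutatorElement_def, mul_assoc]]
        exact P.mul_mem (ht' x hx _ (P.inv_mem (h a ha x hx))) (ht' x hx _ ih.1)
      · rw [show x⁻¹ * y * z * (x⁻¹ * y)⁻¹ = x⁻¹ * (y * z * y⁻¹) * x by group]
        exact ht' x hx _ (ih.2 z hz)
  refine Subgroup.commutator_le.2 fun a ha b hb => ?_
  have := hA ha
  clear ha
  induction this using Subgroup.closure_induction_left with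
  | one => simp
  | mul_left x hx y hy ih =>
    rw [show ⁅x * y, b⁆ = x * ⁅y, b⁆ * x⁻¹ * ⁅x, b⁆ by simp [commutatorElement_def, mul_assoc]]
    exact P.mul_mem (hs x hx _ ih) (key x hx b (hB hb)).1
  | inv_mul_cancel x hx y hy ih =>
    rw [show ⁅x⁻¹ * y, b⁆ = x⁻¹ * ⁅y, b⁆ * x * (x⁻¹ * ⁅x, b⁆⁻¹ * x) by simp [commutatorElement_def, mul_assoc]]
    exact P.mul_mem (hs' x hx _ ih) (hs' x hx _ (P.inv_mem (key x hx b (hB hb)).1))

/-- A variant for a normal target. -/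
theorem comm_le_normal {A B P : Subgroup G} [hP : P.Normal] {s t : Set G} (hA : A ≤ Subgroup.closure s)
    (hB : B ≤ Subgroup.closure t) (h : ∀ a ∈ s, ∀ b ∈ t, ⁅a, b⁆ ∈ P) : ⁅A, B⁆ ≤ P :=
  comm_le hA hB (fun g _ y hy => hP.conj_mem y hy g) (fun g _ y hy => hP.conj_mem' y hy g)
    (fun g _ y hy => hP.conj_mem y hy g) (fun g _ y hy => hP.conj_mem' y hy g) h

theorem comm_zpow_right {z g : G} (h : Commute g ⁅z, g⁆) (n : ℤ) : ⁅z, g ^ n⁆ = ⁅z, g⁆ ^ n := by
  have h1 : z * g ^ n * z⁻¹ = ⁅z, g⁆ ^ n * g ^ n := by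
    rw [← conj_zpow, show z * g * z⁻¹ = ⁅z, g⁆ * g by simp [commutatorElement_def]]
    exact h.symm.mul_zpow n
  rw [commutatorElement_def, h1, mul_inv_cancel_right]

theorem comm_zpow_left {z g : G} (h : Commute z ⁅z, g⁆) (n : ℤ) : ⁅z ^ n, g⁆ = ⁅z, g⁆ ^ n := by
  have h1 : g * (z ^ n)⁻¹ * g⁻¹ = (z ^ n)⁻¹ * ⁅z, g⁆ ^ n := by
    rw [← inv_zpow, ← conj_zpow, show g * z⁻¹ * g⁻¹ = z⁻¹ * ⁅z, g⁆ by simp [commutatorElement_def, mul_assoc]]
    exact h.inv_left.mul_zpow n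
  rw [commutatorElement_def, show z ^ n * g * (z ^ n)⁻¹ * g⁻¹ = z ^ n * (g * (z ^ n)⁻¹ * g⁻¹) by group, h1,
    mul_inv_cancel_left]

theorem comm_mul_left_central {a b g : G} (h : Commute a ⁅b, g⁆) : ⁅a * b, g⁆ = ⁅b, g⁆ * ⁅a, g⁆ := by
  rw [show ⁅a * b, g⁆ = a * ⁅b, g⁆ * a⁻¹ * ⁅a, g⁆ by simp [commutatorElement_def, mul_assoc], h.eq,
    mul_inv_cancel_right]

theorem comm_mul_right_central {a g h' : G} (h : Commute g ⁅a, h'⁆) : ⁅a, g * h'⁆ = ⁅a, g⁆ * ⁅a, h'⁆ := by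
  rw [show ⁅a, g * h'⁆ = ⁅a, g⁆ * (g * ⁅a, h'⁆ * g⁻¹) by simp [commutatorElement_def, mul_assoc], h.eq,
    mul_inv_cancel_right]

theorem comm_left_trivial {a b g : G} (hb : ⁅b, g⁆ = 1) : ⁅a * b, g⁆ = ⁅a, g⁆ := by
  rw [comm_mul_left_central (by rw [hb]; exact Commute.one_right a), hb, one_mul]

theorem comm_right_trivial {a g h' : G} (hh : ⁅a, h'⁆ = 1) : ⁅a, g * h'⁆ = ⁅a, g⁆ := by
  rw [comm_mul_right_central (by rw [hh]; exact Commute.one_right g), hh, mul_one]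

variable {p : ℕ} [hp : Fact p.Prime]

/-- An element of order `p` with two different weights is trivial. -/
theorem weight {t : G} (htp : t ^ p = 1) {i m n : ℤ} (h : (t ^ i) ^ m = (t ^ i) ^ n)
    (hmn : (m : ZMod p) ≠ n) : t ^ i = 1 := by
  by_cases ht : t = 1
  · rw [ht, one_zpow]
  rw [← zpow_mul, ← zpow_mul] at h
  have := eq_of_zpow htp ht h
  push_cast at this
  rcases mul_eq_mul_left_iff.1 this with h1 | h1
  · exact absurd h1 hmn
  · rw [zpow_congr htp (j := 0) (by simpa using h1), zpow_zero]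

/-- In a nilpotent group a subgroup inside its own commutator is trivial. -/
theorem eq_bot_of_le_comm [Finite G] (hG : IsPGroup p G) {A B : Subgroup G} (h : A ≤ ⁅A, B⁆) : A = ⊥ := by
  haveI := hG.isNilpotent
  obtain ⟨n, hn⟩ := Subgroup.nilpotent_iff_lowerCentralSeries.1 (inferInstance : Group.IsNilpotent G)
  rw [← le_bot_iff, ← hn]
  clear hn
  induction n with
  | zero => exact le_top
  | succ n ih => exact h.trans (Subgroup.commutator_mono ih le_top)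

/-- Adjoining an element of order `p` modulo a normal subgroup. -/
theorem card_adjoin [Finite G] {K : Subgroup G} [K.Normal] {c : G} (hcp : c ^ p ∈ K) (hc : c ∉ K) :
    Nat.card (K ⊔ Subgroup.zpowers c : Subgroup G) = Nat.card K * p := by
  have h : K.relIndex (K ⊔ Subgroup.zpowers c) = p := by
    rw [Subgroup.relIndex_sup_left, ← QuotientGroup.ker_mk' K, Subgroup.relIndex_ker, MonoidHom.map_zpowers,
      Nat.card_zpowers]
    exact orderOf_eq_prime (by rw [← map_pow]; exact (QuotientGroup.eq_one_iff _).2 hcp)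
      fun e => hc ((QuotientGroup.eq_one_iff c).1 e)
  rw [← Subgroup.card_mul_index (K.subgroupOf (K ⊔ Subgroup.zpowers c)),
    Nat.card_congr (Subgroup.subgroupOfEquivOfLe (le_sup_left : K ≤ K ⊔ Subgroup.zpowers c)).toEquiv,
    ← Subgroup.relIndex, h]

/-- A commutative closure. -/
theorem closure_commute {s : Set G} (h : ∀ a ∈ s, ∀ b ∈ s, Commute a b) :
    ∀ a ∈ Subgroup.closure s, ∀ b ∈ Subgroup.closure s, Commute a b := by
  have h1 : Subgroup.closure s ≤ Subgroup.centralizer s :=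
    (Subgroup.closure_le _).2 fun a ha => Subgroup.mem_centralizer_iff.2 fun b hb => h b hb a ha
  have h2 : Subgroup.closure s ≤ Subgroup.centralizer (Subgroup.closure s : Set G) :=
    (Subgroup.closure_le _).2 fun a ha => Subgroup.mem_centralizer_iff.2 fun b hb =>
      ((Subgroup.mem_centralizer_iff.1 (h1 hb)) a ha).symm
  exact fun a ha b hb => Subgroup.mem_centralizer_iff.1 (h2 hb) a ha

/-- A closure of commuting elements of exponent `p` has exponent `p`. -/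
theorem closure_pow {s : Set G} (h : ∀ a ∈ s, ∀ b ∈ s, Commute a b) {n : ℕ} (hn : ∀ a ∈ s, a ^ n = 1) :
    ∀ a ∈ Subgroup.closure s, a ^ n = 1 := by
  intro a ha
  induction ha using Subgroup.closure_induction with
  | mem x hx => exact hn x hx
  | one => exact one_pow n
  | mul x y hx hy ihx ihy => rw [(closure_commute h x hx y hy).mul_pow, ihx, ihy, one_mul]
  | inv x _ ih => rw [inv_pow, ih, inv_one]

end CfsgLib.Fsys.RankThree.Two
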